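import Groth.Agent.Big.Values
import Groth.Agent.AmpleDev.CurvesIn
import Groth.Agent.InvX.GenLocusPull

/-!
# Semiample modules
-/

set_option autoImplicit false
set_option linter.style.haveILetI false
set_option linter.unusedSectionVars false
set_option backward.isDefEq.respectTransparency false
set_option backward.isDefEq.respectTransparency.types false
set_option maxHeartbeats 1000000

universe u

open CategoryTheory CategoryTheory.Limits AlgebraicGeometry TopologicalSpace Opposite
open Groth.Agent.H23.PicMul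

noncomputable section

namespace Groth.Agent.Big

open Groth.Agent

theorem exists_locus_of_gg {X : Scheme.{u}} {M : X.Modules} (hM : PicF.IsInvertible M)
    (h : Curv2.IsGloballyGenerated M) (x : X) : ∃ s : Γ(M, (⊤ : X.Opens)), x ∈ AmpleX.locus s := by
  obtain ⟨t, ht⟩ := AmpleDev.exists_locus_of_globallyGenerated hM h x
  obtain ⟨V, hxV, hVf⟩ := H23.TrivBasic.mem_locus_iff.1 ht
  exact ⟨t, AmpleX.le_locus t le_top hVf hxV⟩

variable (k : Type u) [Field k] {X : Scheme.{u}} [X.Over (Spec (CommRingCat.of k))]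
  [IsProper (X ↘ Spec (CommRingCat.of k))]

/-- The cokernel of a section of a power. -/
theorem exists_coker_poly [IsIntegral X] {e : ℕ} (hdim : topologicalKrullDim X = (e + 1 : ℕ)) {L N : X.Modules}
    (hL : PicF.IsInvertible L) (hN : PicF.IsInvertible N) {μ : ℕ} (hcl : PicF.cl N = PicF.cl L ^ μ)
    (s : Coh.structureModule X ⟶ N) (hs : s ≠ 0) {q : Polynomial ℚ} (hq : q.natDegree ≤ e + 1)
    (hqn : ∀ n, Snapper.χ k L (Coh.structureModule X) n = q.eval (n : ℚ)) :
    ∃ (Q : X.Modules) (T : Closeds X), Coh.IsCoh Q ∧ CohB1.support Q ⊆ T ∧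
      topologicalKrullDim ↥(T : Set X) ≤ (e : WithBot ℕ∞) ∧ (T : Set X) ⊆ (CohB1.genLocus N s : Set X)ᶜ ∧
      ∀ p : Polynomial ℚ, (∀ n, Snapper.χ k L Q n = p.eval (n : ℚ)) →
        p.coeff e = (e + 1 : ℚ) * (μ : ℚ) * q.coeff (e + 1) := by
  haveI := CurveCohLib.isNoetherian_of_proper (k := k) (X := X)
  haveI : Mono s := InvEnd.mono_of_ne_zero CurveDeg.isInvertible_structureModule hN s hs
  have hQ : Coh.IsCoh (cokernel s) := QCoh.isCoh_cokernel QCoh.isQCoh_structureModule (AmpleVan.isCoh_invertible hN) s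
  let T : Closeds X := ⟨_, QCoh.isClosed_support_of_isFT hQ.1 hQ.2⟩
  have hTg : (T : Set X) ⊆ (CohB1.genLocus N s : Set X)ᶜ := Nakai.support_cokernel_subset hN s
  have hTd : topologicalKrullDim ↥(T : Set X) ≤ (e : WithBot ℕ∞) := by
    have hne : (T : Set X) ≠ Set.univ := fun h => by
      obtain ⟨x, hx⟩ := Nakai.genLocus_nonempty hN s hs
      exact hTg (h.ge (Set.mem_univ x)) hx
    have hlt := H23.TopDim.dim_lt_of_ssubset (Nakai.ne_top_of_dim_eq hdim) T.isClosed hne
    rw [hdim] at hlt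
    exact Nakai.le_pred_of_lt hlt
  refine ⟨cokernel s, T, hQ, subset_rfl, hTd, hTg, fun p hpn => ?_⟩
  have hrel : p = q.comp (Polynomial.X + Polynomial.C (μ : ℚ)) - q :=
    Polynomial.eq_of_infinite_eval_eq _ _ ((Set.infinite_range_of_injective (Nat.cast_injective (R := ℚ))).mono (by
      rintro _ ⟨n, rfl⟩
      show p.eval (n : ℚ) = (q.comp (Polynomial.X + Polynomial.C (μ : ℚ)) - q).eval (n : ℚ)
      have hadd := congrFun (Snapper.χ_add k hL
        (S := ShortComplex.mk s (cokernel.π s) (cokernel.condition s)) (shortExact_cokernel s)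
        (QCoh.isCoh_structureModule' (X := X)) (AmpleVan.isCoh_invertible hN) hQ) n
      simp only [Pi.add_apply] at hadd
      have h2 : Snapper.χ k L N n = q.eval ((n + μ : ℕ) : ℚ) := by
        rw [← hqn (n + μ)]
        refine congrArg Int.cast (CurveCohLib.euler_congr (k := k) ((cl_eq_iff.1 ?_).some))
        show PicF.cl (CohB1.tensorMod N (CohB1.tensorPow L n)) =
          PicF.cl (CohB1.tensorMod (Coh.structureModule X) (CohB1.tensorPow L (n + μ)))
        rw [cl_tensor, cl_tensor, one_mul_cl, hcl, cl_tensorPow, cl_tensorPow, pow_add, mul_comm]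
      rw [h2, hqn n, hpn n, Nat.cast_add] at hadd
      simp only [Polynomial.eval_sub, Polynomial.eval_comp, Polynomial.eval_add, Polynomial.eval_X, Polynomial.eval_C]
      linarith))
  rw [hrel, Nakai.coeff_comp_sub q hq, mul_comm (μ : ℚ)]

include k in
/-- A section of a power on a closed subscheme, from a section on the ambient scheme. -/
theorem exists_section_pullback {V : Scheme.{u}} (i : V ⟶ X) [IsIntegral V] {N : X.Modules} (hN : PicF.IsInvertible N)
    {t : Γ(N, (⊤ : X.Opens))} (ht : i (genericPoint V) ∈ AmpleX.locus t) :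
    ∃ s : Coh.structureModule V ⟶ (Scheme.Modules.pullback i).obj N, s ≠ 0 ∧
      ∀ v : V, v ∉ CohB1.genLocus _ s → i v ∉ AmpleX.locus t := by
  obtain ⟨e⟩ := PicClLib.nonempty_pullback_structureModule i
  have h := InvX.genLocus_pullback i hN (InvX.ofSect t) e.symm
  rw [show e.symm.hom = e.inv from rfl] at h
  have hloc : CohB1.genLocus N (InvX.ofSect t) = AmpleX.locus t := by
    rw [AmpleX.genLocus_eq_locus, InvX.one_ofSect]
  rw [hloc] at h
  refine ⟨e.inv ≫ (Scheme.Modules.pullback i).map (InvX.ofSect t), Nakai.ne_zero_of_mem_genLocus (x := genericPoint V) ?_,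
    fun v hv hv' => hv ?_⟩
  · rw [h]; exact ht
  · rw [h]; exact hv'

include k in
/-- Semiample modules are nef. -/
theorem nef_of_semiample {L : X.Modules} (hL : PicF.IsInvertible L) {μ : ℕ} (hμ : 0 < μ)
    (hgen : ∀ x : X, ∃ t : Γ(CohB1.tensorPow L μ, (⊤ : X.Opens)), x ∈ AmpleX.locus t) : Nakai.Nef k L := by
  intro V i hi hV hdim q hq hqn
  haveI := hi
  haveI := hV
  letI : V.Over (Spec (CommRingCat.of k)) := ⟨i ≫ (X ↘ Spec (CommRingCat.of k))⟩
  haveI : IsProper (V ↘ Spec (CommRingCat.of k)) :=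
    inferInstanceAs (IsProper (i ≫ (X ↘ Spec (CommRingCat.of k))))
  haveI := CurveCohLib.isNoetherian_of_proper (k := k) (X := V)
  have hP := InvX.isInvertible_tensorPow hL μ
  obtain ⟨t, ht⟩ := hgen (i (genericPoint V))
  obtain ⟨s, hs, -⟩ := exists_section_pullback k i hP ht
  obtain ⟨Q, T, hQ, hQT, hTd, -, hp⟩ := exists_coker_poly k (e := 0) hdim (PicClLib.isInvertible_pullback i hL)
    (PicClLib.isInvertible_pullback i hP) (μ := μ) (by
      show PicF.pullCl i (PicF.cl (CohB1.tensorPow L μ)) = _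
      rw [cl_tensorPow, pullCl_pow]
      rfl) s hs hq fun n => (Nakai.χ_push k i rfl hL QCoh.isQCoh_structureModule n).symm.trans (hqn n)
  obtain ⟨p, hpd, hpn⟩ := Nakai.exists_poly k (PicClLib.isInvertible_pullback i hL) hQ hQT hTd
  have h := hp p hpn
  have h0 : 0 ≤ p.coeff 0 := by
    have e0 : Snapper.χ k ((Scheme.Modules.pullback i).obj L) Q 0 = p.coeff 0 := by
      rw [hpn 0, Polynomial.eq_C_of_natDegree_le_zero hpd, Polynomial.eval_C, Polynomial.coeff_C_zero]
    rw [← e0]
    have e1 : Snapper.χ k ((Scheme.Modules.pullback i).obj L) Q 0 = (Curv2.euler k V Q : ℚ) :=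
      congrArg Int.cast (CurveCohLib.euler_congr (k := k) ((cl_eq_iff.1 (by
        show PicF.cl (CohB1.tensorMod Q (CohB1.tensorPow _ 0)) = _
        rw [cl_tensor, cl_tensorPow, pow_zero, mul_one])).some))
    rw [e1, CurveCohLib.euler_eq_finrank_zero (k := k) hQ fun v hv => by
      rw [← Euler.closure_eq_self_of_dim_le_zero T.isClosed hTd (hQT hv)]
      exact isClosed_closure]
    exact_mod_cast Nat.zero_le _
  rw [h] at h0
  have hμ' : (0 : ℚ) < μ := by exact_mod_cast hμ
  simp only [CharP.cast_eq_zero, zero_add, one_mul] at h0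
  exact (mul_nonneg_iff_of_pos_left hμ').1 h0

/-- Components carrying the top number. -/
theorem exists_component {L : X.Modules} (hL : PicF.IsInvertible L) {Q : X.Modules} (hQ : Coh.IsCoh Q)
    {C : Closeds X} {d : ℕ} (hC : topologicalKrullDim ↥(C : Set X) ≤ d) (hQC : CohB1.support Q ⊆ C)
    {q : Polynomial ℚ} (hqn : ∀ n, Snapper.χ k L Q n = q.eval (n : ℚ)) (hq0 : q.coeff d ≠ 0) :
    ∃ (V : Scheme.{u}) (i : V ⟶ X) (_ : IsClosedImmersion i) (_ : IsIntegral V), Set.range i ⊆ C ∧
      topologicalKrullDim V = (d : ℕ) ∧ ∀ p : Polynomial ℚ,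
        (∀ n, Snapper.χ k L ((Coh.push i).obj (Coh.structureModule V)) n = p.eval (n : ℚ)) → p.coeff d ≠ 0 := by
  classical
  haveI := CurveCohLib.isNoetherian_of_proper (k := k) (X := X)
  have hfin := Snapper.finite_topPts hC
  obtain ⟨R, hR, hRn⟩ := Nakai.isPolyLt_of_mpoly (Snapper.isMPolyLt_sub_components k (L := fun _ : Fin 1 => L)
    (fun _ => hL) hQ hC hQC hfin.toFinset fun _ => hfin.mem_toFinset)
  by_contra hne
  push Not at hne
  have hcl : ∀ ξ : X, ξ ∈ hfin.toFinset →
      ∃ p : Polynomial ℚ, p.coeff d = 0 ∧ ∀ n, Snapper.χ k L (Snapper.clMod ξ) n = p.eval (n : ℚ) := fun ξ hξ => by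
    obtain ⟨hξC, hξd⟩ := hfin.mem_toFinset.1 hξ
    let W := Scheme.IdealSheafData.vanishingIdeal (⟨closure ({ξ} : Set X), isClosed_closure⟩ : Closeds X)
    haveI : IsIntegral W.subscheme := QCoh.isIntegral_closure_point ξ
    obtain ⟨p, hpn, hp0⟩ := hne W.subscheme W.subschemeι inferInstance inferInstance
      ((H23.RedSub.range_vanishingIdeal _).le.trans
        (C.isClosed.closure_subset_iff.2 (Set.singleton_subset_iff.2 hξC)))
      ((AmpleDev.dim_eq_one_of_closedImmersion W.subschemeι (H23.RedSub.range_vanishingIdeal _)).trans hξd)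
    exact ⟨p, hp0, hpn⟩
  choose p hp0 hpn using hcl
  let p' : X → Polynomial ℚ := fun ξ => if h : ξ ∈ hfin.toFinset then p ξ h else 0
  have hp' : ∀ ξ ∈ hfin.toFinset, (p' ξ).coeff d = 0 ∧
      ∀ n, Snapper.χ k L (Snapper.clMod ξ) n = (p' ξ).eval (n : ℚ) := fun ξ hξ => by
    simp only [p', dif_pos hξ]
    exact ⟨hp0 ξ hξ, hpn ξ hξ⟩
  have heq : q = R + ∑ ξ ∈ hfin.toFinset, Polynomial.C (Snapper.len Q ξ) * p' ξ :=
    Polynomial.eq_of_infinite_eval_eq _ _ ((Set.infinite_range_of_injective (Nat.cast_injective (R := ℚ))).mono (by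
      rintro _ ⟨n, rfl⟩
      show Polynomial.eval _ _ = Polynomial.eval _ _
      rw [Polynomial.eval_add, Polynomial.eval_finsetSum, ← hqn n, ← hRn n]
      rw [Finset.sum_congr rfl fun ξ hξ => by
        rw [Polynomial.eval_mul, Polynomial.eval_C, ← (hp' ξ hξ).2 n]]
      exact (sub_add_cancel _ _).symm))
  refine hq0 ?_
  rw [heq, Polynomial.coeff_add, Polynomial.coeff_eq_zero_of_degree_lt hR, zero_add, Polynomial.finsetSum_coeff]
  exact Finset.sum_eq_zero fun ξ hξ => by rw [Polynomial.coeff_C_mul, (hp' ξ hξ).1, mul_zero]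

include k in
/-- A nonzero top number gives a separated chain. -/
theorem exists_chain {L : X.Modules} (hL : PicF.IsInvertible L) {μ : ℕ} (hμ : 0 < μ)
    (hgen : ∀ x : X, ∃ t : Γ(CohB1.tensorPow L μ, (⊤ : X.Opens)), x ∈ AmpleX.locus t) :
    ∀ (m : ℕ) (V : Scheme.{u}) (i : V ⟶ X) [IsClosedImmersion i] [IsIntegral V], topologicalKrullDim V = (m : ℕ) →
    ∀ q : Polynomial ℚ, q.natDegree ≤ m →
      (∀ n, Snapper.χ k L ((Coh.push i).obj (Coh.structureModule V)) n = q.eval (n : ℚ)) → q.coeff m ≠ 0 →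
      Chain (CohB1.tensorPow L μ) m (i (genericPoint V)) := by
  intro m
  induction m with
  | zero => intro V i _ _ _ q _ _ _; exact trivial
  | succ m ih =>
    intro V i _ _ hdim q hq hqn hq0
    letI : V.Over (Spec (CommRingCat.of k)) := ⟨i ≫ (X ↘ Spec (CommRingCat.of k))⟩
    haveI : IsProper (V ↘ Spec (CommRingCat.of k)) :=
      inferInstanceAs (IsProper (i ≫ (X ↘ Spec (CommRingCat.of k))))
    haveI := CurveCohLib.isNoetherian_of_proper (k := k) (X := V)
    have hP := InvX.isInvertible_tensorPow hL μ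
    have hLV := PicClLib.isInvertible_pullback i hL
    obtain ⟨t, ht⟩ := hgen (i (genericPoint V))
    obtain ⟨s, hs, hout⟩ := exists_section_pullback k i hP ht
    obtain ⟨Q, T, hQ, hQT, hTd, hTg, hp⟩ := exists_coker_poly k hdim hLV
      (PicClLib.isInvertible_pullback i hP) (μ := μ) (by
        show PicF.pullCl i (PicF.cl (CohB1.tensorPow L μ)) = _
        rw [cl_tensorPow, pullCl_pow]
        rfl) s hs hq fun n => (Nakai.χ_push k i rfl hL QCoh.isQCoh_structureModule n).symm.trans (hqn n)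
    obtain ⟨p, -, hpn⟩ := Nakai.exists_poly k hLV hQ hQT hTd
    have hp0 : p.coeff m ≠ 0 := by
      rw [hp p hpn]
      exact mul_ne_zero (mul_ne_zero (Nat.cast_add_one_ne_zero m) (Nat.cast_ne_zero.2 hμ.ne')) hq0
    obtain ⟨W, j, hj, hW, hjT, hWd, hWc⟩ := exists_component k hLV hQ hTd hQT hpn hp0
    haveI := hj
    haveI := hW
    letI : W.Over (Spec (CommRingCat.of k)) := ⟨(j ≫ i) ≫ (X ↘ Spec (CommRingCat.of k))⟩
    haveI : IsProper (W ↘ Spec (CommRingCat.of k)) :=
      inferInstanceAs (IsProper ((j ≫ i) ≫ (X ↘ Spec (CommRingCat.of k))))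
    haveI := CurveCohLib.isNoetherian_of_proper (k := k) (X := W)
    obtain ⟨r, hr, hrn⟩ := Nakai.exists_poly k (PicClLib.isInvertible_pullback (j ≫ i) hL)
      (QCoh.isCoh_structureModule' (X := W)) (C := (⊤ : Closeds W)) (fun x _ => trivial) (Nakai.dim_univ_le hWd)
    have hrn' : ∀ n, Snapper.χ k L ((Coh.push (j ≫ i)).obj (Coh.structureModule W)) n = r.eval (n : ℚ) :=
      fun n => (Nakai.χ_push k (j ≫ i) rfl hL QCoh.isQCoh_structureModule n).trans (hrn n)
    have hr0 : r.coeff m ≠ 0 := by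
      refine hWc r fun n => ?_
      rw [← hrn' n]
      let e : (Coh.push i).obj ((Coh.push j).obj (Coh.structureModule W)) ≅ (Coh.push (j ≫ i)).obj (Coh.structureModule W) :=
        (Scheme.Modules.pushforwardComp j i).app _
      exact (Nakai.χ_push k i rfl hL (QCoh.isQCoh_pushforward j QCoh.isQCoh_structureModule) n).symm.trans
        (Nakai.χ_congr k e n)
    refine ⟨(j ≫ i) (genericPoint W), t, (genericPoint_specializes (j (genericPoint W))).map i.continuous, ht,
      hout _ (hTg (hjT ⟨_, rfl⟩)), ih W (j ≫ i) hWd r hr hrn' hr0⟩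

include k in
/-- Growth from a nonzero top number of a semiample module. -/
theorem exists_growth_of_semiample {L : X.Modules} (hL : PicF.IsInvertible L) {μ : ℕ} (hμ : 0 < μ)
    (hgen : ∀ x : X, ∃ t : Γ(CohB1.tensorPow L μ, (⊤ : X.Opens)), x ∈ AmpleX.locus t) {m : ℕ}
    (h : ¬ TopZero k L m) :
    ∀ j : ℕ, j ^ m ≤ m.factorial * h0 k (CohB1.tensorPow L (μ * j)) := by
  simp only [TopZero] at h
  push Not at h
  obtain ⟨V, i, hi, hV, hdim, q, hq, hqn, hq0⟩ := h
  haveI := hi
  haveI := hV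
  intro j
  have hP := InvX.isInvertible_tensorPow hL μ
  have hc := choose_le_val k hP hgen m j (i (genericPoint V)) (exists_chain k hL hμ hgen m V i hdim q hq hqn hq0)
  refine le_trans ?_ (Nat.mul_le_mul_left _ ((hc.trans (val_le_h0 k _ _)).trans (le_of_eq (h0_congr_cl k ?_))))
  · rw [← Nat.descFactorial_eq_factorial_mul_choose]
    refine le_trans ?_ (Nat.pow_sub_le_descFactorial (j + m) m)
    exact Nat.pow_le_pow_left (by omega) m
  · rw [cl_tensorPow, cl_tensorPow, cl_tensorPow, ← pow_mul]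

end Groth.Agent.Big
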