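import Groth.Agent.Big.Cartier
import Groth.Agent.ZeroSchX.Basic
import Groth.Agent.OmegaLib.IdealMod
import Groth.Agent.InvX.Tensor
import Groth.Agent.DivX.MeroMod
import Groth.Agent.PnCoh.Finite.HomTwist
import Groth.Agent.PnCoh.Chow.PullFrame
import Groth.Prelude.Def_KoszTw

/-!
# The divisor of a section of an invertible module
-/

set_option autoImplicit false
set_option linter.style.haveILetI false
set_option linter.unusedSectionVars false
set_option backward.isDefEq.respectTransparency false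
set_option backward.isDefEq.respectTransparency.types false
set_option maxHeartbeats 1000000

universe u

open CategoryTheory CategoryTheory.Limits AlgebraicGeometry TopologicalSpace Opposite
open Groth.Agent.H23.PicMul

noncomputable section

namespace Groth.Agent.Big

open Groth.Agent

variable {X : Scheme.{u}} [IsIntegral X] {L : X.Modules}

/-- The zero scheme of a section with nonzero coordinates is a divisor inverse to the module. -/
theorem zeroScheme_divisor (hL : PicF.IsInvertible L) (s : Coh.structureModule X ⟶ L)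
    (hloc : ∀ x : X, ∃ (U : X.affineOpens) (_ : x ∈ U.1) (e : Γ(L, U.1)) (c : Γ(X, U.1)),
      InvX.IsFrame e ∧ ZeroSchX.sv s U.1 = c • e ∧ c ≠ 0) :
    BlowUp.IsEffCartierIdeal (PicF2.zeroScheme L s) ∧
      PicF.cl L * PicF.cl (ClSub.idealMod (PicF2.zeroScheme L s)) = 1 := by
  let I := PicF2.zeroScheme L s
  have hid : ∀ (U : X.affineOpens) (e : Γ(L, U.1)) (c : Γ(X, U.1)), InvX.IsFrame e →
      ZeroSchX.sv s U.1 = c • e → I.ideal U = Ideal.span {c} := fun U e c he hc => by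
    rw [ZeroSchX.ideal_zeroScheme hL s U, ZeroSchX.zeroIdealOn_eq_span s he hc]
  have hI : BlowUp.IsEffCartierIdeal I := fun x => by
    obtain ⟨U, hx, e, c, he, hc, hne⟩ := hloc x
    haveI : Nonempty (Scheme.Opens.toScheme U.1) := ⟨⟨x, hx⟩⟩
    exact ⟨U, hx, c, mem_nonZeroDivisors_of_ne_zero hne, hid U e c he hc⟩
  refine ⟨hI, ?_⟩
  obtain ⟨M, hM, hLM'⟩ := H23.PicInv.exists_inverse hL
  obtain ⟨φ⟩ : Nonempty (CohB1.tensorMod L M ≅ Coh.structureModule X) := hLM'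
  let O := Coh.structureModule X
  let ψ : CohB1.tensorMod O M ⟶ O := KoszTw.tensorMap s (𝟙 M) ≫ φ.hom
  choose U hxU e c he hc hne using hloc
  have hdata : ∀ x : X, ∃ (V : X.affineOpens) (_ : x ∈ V.1) (hVU : V.1 ≤ (U x).1) (m : Γ(M, V.1)) (w : Γ(X, V.1)),
      InvX.IsFrame m ∧ IsUnit w ∧
        ψ.app V.1 (InvX.tmul (show Γ(O, V.1) from (1 : Γ(X, V.1))) m) = (AModX.resR hVU (c x) * w : Γ(X, V.1)) := fun x => by
    obtain ⟨V₀, hx₀, m₀, hm₀⟩ := InvX.exists_frame hM x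
    obtain ⟨V, hV, hxV, hVV⟩ := exists_isAffineOpen_mem_and_subset (show x ∈ V₀ ⊓ (U x).1 from ⟨hx₀, hxU x⟩)
    have h1 : V ≤ V₀ := fun z hz => (hVV hz).1
    have h2 : V ≤ (U x).1 := fun z hz => (hVV hz).2
    let m := AModX.res M h1 m₀
    have hm : InvX.IsFrame m := hm₀.res _
    let e' := AModX.res L h2 (e x)
    have hf := (InvX.IsFrame.map_iso φ (InvX.isFrame_tmul ((he x).res h2) hm)) V le_rfl
    obtain ⟨r, hr⟩ := hf.2 (show Γ(O, V) from (1 : Γ(X, V)))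
    rw [AModX.res_self] at hr
    let w : Γ(X, V) := φ.hom.app V (InvX.tmul e' m)
    have hw : IsUnit w := IsUnit.of_mul_eq_one_right r hr
    refine ⟨⟨V, hV⟩, hxV, h2, m, w, hm, hw, ?_⟩
    show φ.hom.app V ((KoszTw.tensorMap s (𝟙 M)).app V (InvX.tmul (show Γ(O, V) from (1 : Γ(X, V))) m)) = _
    rw [show (KoszTw.tensorMap s (𝟙 M)).app V (InvX.tmul (show Γ(O, V) from (1 : Γ(X, V))) m) =
      InvX.tmul (ZeroSchX.sv s V) m from KoszTw.tensorMap_tmul s (𝟙 M) V _ m]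
    have hsv : ZeroSchX.sv s V = AModX.resR h2 (c x) • e' := by
      rw [← ZeroSchX.res_sv s h2, hc x]
      exact AModX.res_smul _ _ _
    rw [hsv, InvX.tmul_smul_left, Scheme.Modules.Hom.app_smul]
    rfl
  choose V hxV hVU m w hm hw hψ using hdata
  let t : ∀ x, Γ(CohB1.tensorMod O M, (V x).1) := fun x =>
    InvX.tmul (show Γ(O, (V x).1) from (1 : Γ(X, (V x).1))) (m x)
  have ht : ∀ x, InvX.IsFrame (t x) := fun x => InvX.isFrame_tmul (InvX.isFrame_one _) (hm x)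
  have hgen : ∀ x, I.ideal (V x) = Ideal.span {AModX.resR (hVU x) (c x)} := fun x =>
    hid (V x) (AModX.res L (hVU x) (e x)) _ ((he x).res _) (by
      rw [← ZeroSchX.res_sv s (hVU x), hc x]; exact AModX.res_smul _ _ _)
  have cond : ψ ≫ ClSub.toSubscheme I = 0 := by
    refine InvX.hom_ext_of_frames (fun x => (V x).1) (fun x => ⟨x, hxV x⟩) t ht fun x => ?_
    show I.subschemeι.app (V x).1 (ψ.app (V x).1 (t x) : Γ(X, (V x).1)) = _
    rw [hψ x]
    have hmem : AModX.resR (hVU x) (c x) * w x ∈ I.ideal (V x) := by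
      rw [hgen x]; exact Ideal.mul_mem_right _ _ (Ideal.mem_span_singleton_self _)
    rw [← I.ker_subschemeι_app, RingHom.mem_ker] at hmem
    exact hmem
  let u : CohB1.tensorMod O M ⟶ ClSub.idealMod I := kernel.lift _ ψ cond
  have hu : u ≫ ClSub.idealModι I = ψ := kernel.lift_ι _ _ _
  haveI : IsIso u := by
    refine DivX.isIso_of_frames u fun x => ?_
    obtain ⟨W₀, hx₀, d₀, hd₀⟩ := InvX.exists_frame (isInvertible_ideal hI) x
    obtain ⟨W, hW, hxW, hWV⟩ := exists_isAffineOpen_mem_and_subset (show x ∈ W₀ ⊓ (V x).1 from ⟨hx₀, hxV x⟩)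
    have h1 : W ≤ W₀ := fun z hz => (hWV hz).1
    have h2 : W ≤ (V x).1 := fun z hz => (hWV hz).2
    let d := AModX.res _ h1 d₀
    have hd : InvX.IsFrame d := hd₀.res _
    refine ⟨W, hxW, AModX.res _ h2 (t x), (ht x).res _, ?_⟩
    let e' := u.app W (AModX.res _ h2 (t x))
    change InvX.IsFrame e'
    let g : Γ(X, W) := AModX.resR h2 (AModX.resR (hVU x) (c x))
    have hg : I.ideal ⟨W, hW⟩ = Ideal.span {g} := by
      rw [← I.map_ideal (U := ⟨W, hW⟩) (V := V x) h2, hgen x, Ideal.map_span, Set.image_singleton]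
      rfl
    have hval : OmegaSh.idealSect I W e' = g * AModX.resR h2 (w x) := by
      rw [← map_mul]
      refine Eq.trans ?_ (congrArg (AModX.resR h2) (hψ x))
      refine Eq.trans ?_ (AModX.app_res ψ h2 (t x))
      rw [← hu]
      rfl
    have hmem := OmegaLib.idealSect_mem I ⟨W, hW⟩ d
    rw [hg, Ideal.mem_span_singleton'] at hmem
    obtain ⟨r₁, hr₁⟩ := hmem
    obtain ⟨w', hw'⟩ := ((hw x).map (AModX.resR h2)).exists_right_inv
    obtain ⟨r, hr⟩ := hd.exists_coord le_rfl e'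
    rw [AModX.res_self] at hr
    have hsd : (r₁ * w') • e' = d := OmegaLib.idealSect_injective I W (by
      rw [OmegaLib.idealSect_smul, hval, ← hr₁]
      calc r₁ * w' * (g * AModX.resR h2 (w x)) = r₁ * g * (AModX.resR h2 (w x) * w') := by ring
        _ = r₁ * g := by rw [hw', mul_one])
    have hsr : r₁ * w' * r = 1 := hd.coord_unique le_rfl (by
      rw [AModX.res_self, mul_smul, ← hr, hsd, one_smul])
    rw [hr]
    exact hd.isUnit_smul (IsUnit.of_mul_eq_one_right _ hsr)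
  rw [← cl_eq_iff.2 ⟨asIso u⟩, cl_tensor, one_mul_cl, ← cl_tensor, H23.PicMul.one_def]
  exact cl_eq_iff.2 ⟨φ⟩

end Groth.Agent.Big

namespace Groth.Agent.Big

open Groth.Agent

/-- The coordinate of a global section of `O(1)` in a frame. -/
theorem globalOf_eq_smul {R A : Type u} [CommRing R] [CommRing A] [Algebra R A] {𝒜 : ℕ → Submodule R A}
    [GradedAlgebra 𝒜] {a t : A} (ha : a ∈ 𝒜 1) (ht : t ∈ 𝒜 1) :
    AModX.res (Twist.twist 𝒜 ((1 : ℕ) : ℤ)) (le_top : Proj.basicOpen 𝒜 t ≤ ⊤) (Twist.globalOf 𝒜 ⟨a, ha⟩) =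
      PnCoh.Finite.ratio ht ha • PnCoh.Chow.twF ht ((1 : ℕ) : ℤ) := by
  refine Subtype.ext (funext fun x => Subtype.ext ?_)
  refine Eq.trans ?_ (Twist.coe_smul_val ((1 : ℕ) : ℤ) x.1 _ _).symm
  show (Localization.mk a _ : Twist.Loc 𝒜 x.1) = ((PnCoh.Finite.ratio ht ha).1 x).val *
    Localization.mk (t ^ (((1 : ℕ) : ℤ)).toNat) _
  erw [PnCoh.Finite.ratio_val]
  rw [Localization.mk_mul, Localization.mk_eq_mk_iff, Localization.r_iff_exists]
  exact ⟨1, by simp [mul_comm]⟩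

/-- The inverse image of a hyperplane. -/
theorem exists_linForm_divisor {K : Type u} [Field K] {N : ℕ} {Z : Scheme.{u}} [IsIntegral Z]
    (p : Z ⟶ CohB1.ProjSpace N K) (a : MvPolynomial (Fin (N + 1)) K) (ha : a ∈ CohB1.polyGrading N K 1)
    (hη : p (genericPoint Z) ∈ Proj.basicOpen (CohB1.polyGrading N K) a) :
    ∃ I : Z.IdealSheafData, BlowUp.IsEffCartierIdeal I ∧
      (I.support : Set Z) = ((p ⁻¹ᵁ Proj.basicOpen (CohB1.polyGrading N K) a : Z.Opens) : Set Z)ᶜ ∧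
      PicF.cl (PnCoh.Chow.pullTw p ((1 : ℕ) : ℤ)) * PicF.cl (ClSub.idealMod I) = 1 := by
  classical
  let 𝒜 := CohB1.polyGrading N K
  let D : Fin (N + 1) → (Proj 𝒜).Opens := fun i => Proj.basicOpen 𝒜 (MvPolynomial.X i)
  have hcov : ⨆ i, D i = ⊤ := top_le_iff.1 (PnCoh.iSup_mOpen_single (ι := Fin (N + 1)) (R := K)).ge
  let L := PnCoh.Chow.pullTw p ((1 : ℕ) : ℤ)
  have hL : PicF.IsInvertible L := InvX.isInvertible_of_frames fun z => by
    obtain ⟨i, hi⟩ := Opens.mem_iSup.1 (hcov.ge (trivial : p z ∈ (⊤ : (Proj 𝒜).Opens)))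
    exact ⟨p ⁻¹ᵁ D i, hi, _, PnCoh.Chow.isFrame_pFrame p (ProjPt.X_mem i) _⟩
  let σ : Γ(L, (⊤ : Z.Opens)) := InvX.pullElt p (U := ⊤) (Twist.globalOf 𝒜 ⟨a, ha⟩)
  let s := QCoh.homOfTop σ
  have hsv : ∀ U : Z.Opens, ZeroSchX.sv s U = AModX.res L le_top σ := fun U => by
    refine Eq.trans ?_ (one_smul Γ(Z, U) _)
    exact QCoh.homOfTop_app σ (1 : Γ(Z, U))
  have hcoord : ∀ (i : Fin (N + 1)), ZeroSchX.sv s (p ⁻¹ᵁ D i) =
      p.app (D i) (PnCoh.Finite.ratio (ProjPt.X_mem i) ha) • PnCoh.Chow.pFrame p (ProjPt.X_mem i) ((1 : ℕ) : ℤ) :=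
    fun i => by
    rw [hsv]
    let η := (Scheme.Modules.pullbackPushforwardAdjunction p).unit.app (Twist.twist 𝒜 ((1 : ℕ) : ℤ))
    have h1 := congrArg (η.app (D i)) (globalOf_eq_smul ha (ProjPt.X_mem i))
    rw [Scheme.Modules.Hom.app_smul] at h1
    exact (AModX.app_res η (le_top : D i ≤ ⊤) (Twist.globalOf 𝒜 ⟨a, ha⟩)).symm.trans h1
  have key : ∀ z : Z, ∃ (U : Z.affineOpens) (_ : z ∈ U.1) (e : Γ(L, U.1)) (c : Γ(Z, U.1)),
      InvX.IsFrame e ∧ ZeroSchX.sv s U.1 = c • e ∧ c ≠ 0 ∧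
        (Z.basicOpen c : Set Z) = (U.1 : Set Z) ∩ ((p ⁻¹ᵁ Proj.basicOpen 𝒜 a : Z.Opens) : Set Z) := fun z => by
    obtain ⟨i, hi⟩ := Opens.mem_iSup.1 (hcov.ge (trivial : p z ∈ (⊤ : (Proj 𝒜).Opens)))
    obtain ⟨U, hU, hzU, hUV⟩ := exists_isAffineOpen_mem_and_subset (show z ∈ p ⁻¹ᵁ D i from hi)
    have hle : U ≤ p ⁻¹ᵁ D i := fun y hy => hUV hy
    let c₀ : Γ(Z, p ⁻¹ᵁ D i) := p.app (D i) (PnCoh.Finite.ratio (ProjPt.X_mem i) ha)
    have hb : Z.basicOpen (AModX.resR hle c₀) = U ⊓ p ⁻¹ᵁ Proj.basicOpen 𝒜 a := by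
      show Z.basicOpen (Z.presheaf.map (homOfLE hle).op c₀) = _
      rw [Scheme.basicOpen_res, ← Scheme.preimage_basicOpen]
      erw [PnCoh.Finite.basicOpen_ratio (ProjPt.X_mem i) ha]
      exact le_antisymm (inf_le_inf_left _ fun y hy => hy.2) fun y hy => ⟨hy.1, hle hy.1, hy.2⟩
    refine ⟨⟨U, hU⟩, hzU, AModX.res L hle (PnCoh.Chow.pFrame p (ProjPt.X_mem i) _), AModX.resR hle c₀,
      (PnCoh.Chow.isFrame_pFrame p _ _).res _, ?_, fun h => ?_, by rw [hb]; rfl⟩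
    · show ZeroSchX.sv s U = _
      rw [← ZeroSchX.res_sv s hle, hcoord i]
      exact AModX.res_smul _ _ _
    · have hmem : genericPoint Z ∈ U ⊓ p ⁻¹ᵁ Proj.basicOpen 𝒜 a :=
        ⟨((genericPoint_spec Z).mem_open_set_iff U.2).2 ⟨z, Set.mem_univ z, hzU⟩, hη⟩
      rw [← hb, h, Scheme.basicOpen_zero] at hmem
      exact hmem
  obtain ⟨hI, hcl⟩ := zeroScheme_divisor hL s fun z =>
    let ⟨U, hz, e, c, he, hc, hne, _⟩ := key z
    ⟨U, hz, e, c, he, hc, hne⟩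
  refine ⟨_, hI, ?_, hcl⟩
  ext z
  obtain ⟨U, hz, e, c, he, hc, -, hb⟩ := key z
  rw [SetLike.mem_coe, Scheme.IdealSheafData.mem_support_iff_of_mem hz, ZeroSchX.ideal_zeroScheme hL s U,
    ZeroSchX.zeroIdealOn_eq_span s he hc, Scheme.zeroLocus_span, Scheme.zeroLocus_singleton]
  show z ∉ (Z.basicOpen c : Set Z) ↔ _
  rw [hb]
  exact ⟨fun h h' => h ⟨hz, h'⟩, fun h h' => h h'.2⟩

/-- The inverse image of a coordinate hyperplane. -/
theorem exists_hyperplane_divisor {K : Type u} [Field K] {N : ℕ} {Z : Scheme.{u}} [IsIntegral Z]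
    (p : Z ⟶ CohB1.ProjSpace N K) (i₀ : Fin (N + 1))
    (hη : p (genericPoint Z) ∈ Proj.basicOpen (CohB1.polyGrading N K) (MvPolynomial.X i₀)) :
    ∃ I : Z.IdealSheafData, BlowUp.IsEffCartierIdeal I ∧
      (I.support : Set Z) = ((p ⁻¹ᵁ Proj.basicOpen (CohB1.polyGrading N K) (MvPolynomial.X i₀) : Z.Opens) : Set Z)ᶜ ∧
      PicF.cl (PnCoh.Chow.pullTw p ((1 : ℕ) : ℤ)) * PicF.cl (ClSub.idealMod I) = 1 :=
  exists_linForm_divisor p _ (ProjPt.X_mem _) hη

end Groth.Agent.Big
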