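import Groth.Agent.Big.NumDim
import Groth.Agent.AmpleX.Locus

/-!
# Values of global sections along chains of points
-/

set_option autoImplicit false
set_option linter.style.haveILetI false
set_option linter.unusedSectionVars false
set_option backward.isDefEq.respectTransparency false
set_option backward.isDefEq.respectTransparency.types false
set_option maxHeartbeats 1000000

universe u

open CategoryTheory CategoryTheory.Limits AlgebraicGeometry TopologicalSpace Opposite
open Groth.Agent.H23.PicMul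

noncomputable section

namespace Groth.Agent.Big

open Groth.Agent

variable {X : Scheme.{u}} {M N : X.Modules}

theorem locus_tmul (hM : PicF.IsInvertible M) (hN : PicF.IsInvertible N) (a : Γ(M, ⊤)) (b : Γ(N, ⊤)) :
    AmpleX.locus (InvX.tmul a b) = AmpleX.locus a ⊓ AmpleX.locus b := by
  have h := InvX.genLocus_mulHom hM hN (InvX.ofSect a) (InvX.ofSect b)
  rw [AmpleX.genLocus_eq_locus, AmpleX.genLocus_eq_locus, AmpleX.genLocus_eq_locus, InvX.mulHom,
    InvX.one_ofSect, InvX.one_ofSect, InvX.one_ofSect] at h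
  exact h

theorem tmul_add_left {U : X.Opens} (a a' : Γ(M, U)) (b : Γ(N, U)) :
    InvX.tmul (a + a') b = InvX.tmul a b + InvX.tmul a' b :=
  (congrArg _ (TensorProduct.add_tmul _ _ _)).trans (map_add _ _ _)

theorem notMem_locus_zero (hM : PicF.IsInvertible M) (x : X) : x ∉ AmpleX.locus (0 : Γ(M, (⊤ : X.Opens))) := by
  intro hx
  obtain ⟨U, hxU, e, he⟩ := InvX.exists_frame hM x
  have h : AmpleX.locus (0 : Γ(M, (⊤ : X.Opens))) ⊓ U = X.basicOpen (0 : Γ(X, U)) :=
    AmpleX.locus_inf _ le_top he (by rw [zero_smul]; exact map_zero _)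
  have : x ∈ AmpleX.locus (0 : Γ(M, (⊤ : X.Opens))) ⊓ U := ⟨hx, hxU⟩
  rw [h, Scheme.basicOpen_zero] at this
  exact this.elim

theorem notMem_locus_add (hM : PicF.IsInvertible M) {x : X} {a b : Γ(M, (⊤ : X.Opens))}
    (ha : x ∉ AmpleX.locus a) (hb : x ∉ AmpleX.locus b) : x ∉ AmpleX.locus (a + b) := by
  intro hx
  obtain ⟨U, hxU, e, he⟩ := InvX.exists_frame hM x
  obtain ⟨f, hf⟩ := he.exists_coord le_rfl (AModX.res M (le_top : U ≤ ⊤) a)
  obtain ⟨g, hg⟩ := he.exists_coord le_rfl (AModX.res M (le_top : U ≤ ⊤) b)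
  rw [AModX.res_self] at hf hg
  have hfg : AModX.res M (le_top : U ≤ ⊤) (a + b) = (f + g) • e := by
    rw [add_smul, ← hf, ← hg]
    exact map_add _ _ _
  have h1 : ¬ IsUnit (X.presheaf.germ U x hxU f) := fun h => ha (by
    have : x ∈ AmpleX.locus a ⊓ U := by
      rw [AmpleX.locus_inf a le_top he hf]
      exact (X.mem_basicOpen f x hxU).2 h
    exact this.1)
  have h2 : ¬ IsUnit (X.presheaf.germ U x hxU g) := fun h => hb (by
    have : x ∈ AmpleX.locus b ⊓ U := by
      rw [AmpleX.locus_inf b le_top he hg]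
      exact (X.mem_basicOpen g x hxU).2 h
    exact this.1)
  have h3 : x ∈ AmpleX.locus (a + b) ⊓ U := ⟨hx, hxU⟩
  rw [AmpleX.locus_inf (a + b) le_top he hfg, X.mem_basicOpen (f + g) x hxU, map_add] at h3
  exact IsLocalRing.nonunits_add h1 h2 h3

variable (k : Type u) [Field k] [X.Over (Spec (CommRingCat.of k))]

/-- The degree `0` cohomology as global sections. -/
def sect (M : X.Modules) : Coh.HH X M 0 ≃+ Γ(M, (⊤ : X.Opens)) :=
  Sheaf.H.equiv₀ (Coh.toAb M) isTerminalTop

theorem resTop_top (r : Coh.Γtop X) : Coh.resTop X (Opposite.op ⊤) r = r := by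
  show (X.ringCatSheaf.obj.map (homOfLE le_top).op).hom r = r
  rw [show (homOfLE (le_top : (⊤ : X.Opens) ≤ ⊤)).op = 𝟙 _ from Subsingleton.elim _ _, X.ringCatSheaf.obj.map_id]
  rfl

theorem sect_smul (M : X.Modules) (c : k) (t : Coh.HH X M 0) :
    sect M (c • t) = (show Γ(X, ⊤) from Coh.toGlobal (X ↘ Spec (CommRingCat.of k)) c) • sect M t := by
  refine (Sheaf.H.equiv₀_naturality isTerminalTop (Coh.smulAb M (Coh.toGlobal (X ↘ Spec (CommRingCat.of k)) c)) t).symm.trans ?_
  exact congrArg (fun r : Γ(X, ⊤) => r • sect M t)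
    (resTop_top (Coh.toGlobal (X ↘ Spec (CommRingCat.of k)) c))

/-- The sections not generating at a point. -/
def vanishAt (M : X.Modules) (hM : PicF.IsInvertible M) (x : X) : Submodule k (Coh.HH X M 0) where
  carrier := {t | x ∉ AmpleX.locus (sect M t)}
  add_mem' {a b} ha hb := by
    show x ∉ AmpleX.locus (sect M (a + b))
    rw [map_add]
    exact notMem_locus_add hM ha hb
  zero_mem' := by
    show x ∉ AmpleX.locus (sect M 0)
    rw [map_zero]
    exact notMem_locus_zero hM x
  smul_mem' c t ht := by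
    show x ∉ AmpleX.locus (sect M (c • t))
    rw [sect_smul, AmpleX.locus_smul hM]
    exact fun h => ht h.1

theorem mem_vanishAt {hM : PicF.IsInvertible M} {x : X} {t : Coh.HH X M 0} :
    t ∈ vanishAt k M hM x ↔ x ∉ AmpleX.locus (sect M t) := Iff.rfl

/-- The number of independent values at a point. -/
def val (M : X.Modules) (hM : PicF.IsInvertible M) (x : X) : ℕ :=
  Module.finrank k (Coh.HH X M 0 ⧸ vanishAt k M hM x)

/-- Multiplication by a global section. -/
def mulLin (s : Γ(N, (⊤ : X.Opens))) : Coh.HH X M 0 →ₗ[k] Coh.HH X (CohB1.tensorMod M N) 0 where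
  toFun t := (sect (CohB1.tensorMod M N)).symm (InvX.tmul (sect M t) s)
  map_add' a b := by rw [map_add, tmul_add_left, map_add]
  map_smul' c t := by
    refine (sect (CohB1.tensorMod M N)).injective ?_
    rw [AddEquiv.apply_symm_apply, RingHom.id_apply, sect_smul, sect_smul, AddEquiv.apply_symm_apply,
      InvX.tmul_smul_left]

variable [IsProper (X ↘ Spec (CommRingCat.of k))]

theorem val_le_h0 (hM : PicF.IsInvertible M) (x : X) : val k M hM x ≤ h0 k M := by
  haveI := CurveCohLib.isNoetherian_of_proper (k := k) (X := X)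
  haveI := CurveCohLib.finite_HH (k := k) (AmpleVan.isCoh_invertible hM) 0
  exact Submodule.finrank_quotient_le _

theorem val_pos (hM : PicF.IsInvertible M) {x : X} {t : Γ(M, (⊤ : X.Opens))} (ht : x ∈ AmpleX.locus t) :
    0 < val k M hM x := by
  haveI := CurveCohLib.isNoetherian_of_proper (k := k) (X := X)
  haveI := CurveCohLib.finite_HH (k := k) (AmpleVan.isCoh_invertible hM) 0
  haveI : Nontrivial (Coh.HH X M 0 ⧸ vanishAt k M hM x) := by
    refine Submodule.Quotient.nontrivial_iff.2 fun h => ?_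
    have hmem : (sect M).symm t ∈ vanishAt k M hM x := h ▸ Submodule.mem_top
    rw [mem_vanishAt, AddEquiv.apply_symm_apply] at hmem
    exact hmem ht
  exact Module.finrank_pos

/-- The inequality along a specialization. -/
theorem val_add_le (hM : PicF.IsInvertible M) (hN : PicF.IsInvertible N) {x y : X} (hxy : x ⤳ y)
    {s : Γ(N, (⊤ : X.Opens))} (hx : x ∈ AmpleX.locus s) (hy : y ∉ AmpleX.locus s) :
    val k M hM x + val k (CohB1.tensorMod M N) (InvX.isInvertible_tensorMod hM hN) y ≤
      val k (CohB1.tensorMod M N) (InvX.isInvertible_tensorMod hM hN) x := by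
  haveI := CurveCohLib.isNoetherian_of_proper (k := k) (X := X)
  haveI := CurveCohLib.finite_HH (k := k) (AmpleVan.isCoh_invertible hM) 0
  have hMN := InvX.isInvertible_tensorMod hM hN
  haveI := CurveCohLib.finite_HH (k := k) (AmpleVan.isCoh_invertible hMN) 0
  let Kx := vanishAt k (CohB1.tensorMod M N) hMN x
  let Ky := vanishAt k (CohB1.tensorMod M N) hMN y
  have hle : Kx ≤ Ky := fun t ht hyt =>
    ht (hxy.mem_open (AmpleX.locus (sect (CohB1.tensorMod M N) t)).isOpen hyt)
  let f : Coh.HH X M 0 →ₗ[k] Coh.HH X (CohB1.tensorMod M N) 0 := mulLin k s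
  have hloc : ∀ t, AmpleX.locus (sect (CohB1.tensorMod M N) (f t)) = AmpleX.locus (sect M t) ⊓ AmpleX.locus s :=
    fun t => by
      show AmpleX.locus (sect (CohB1.tensorMod M N) ((sect (CohB1.tensorMod M N)).symm (InvX.tmul (sect M t) s))) = _
      rw [AddEquiv.apply_symm_apply, locus_tmul hM hN]
  have hK : vanishAt k M hM x = Kx.comap f := by
    ext t
    rw [Submodule.mem_comap, mem_vanishAt, mem_vanishAt, hloc]
    exact ⟨fun h h' => h h'.1, fun h h' => h ⟨h', hx⟩⟩
  have hfy : ∀ t, f t ∈ Ky := fun t => by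
    rw [mem_vanishAt, hloc]
    exact fun h => hy h.2
  let π := Submodule.factor hle
  let g := (vanishAt k M hM x).mapQ Kx f hK.le
  have hg : Function.Injective g := by
    rw [← LinearMap.ker_eq_bot, Submodule.ker_mapQ, ← hK]
    exact Submodule.mkQ_map_self _
  have hgπ : LinearMap.range g ≤ LinearMap.ker π := by
    rintro _ ⟨z, rfl⟩
    induction z using Submodule.Quotient.induction_on with
    | _ t => exact (Submodule.Quotient.mk_eq_zero _).2 (hfy t)
  have h1 := π.finrank_range_add_finrank_ker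
  rw [LinearMap.range_eq_top.2 (Submodule.factor_surjective hle), finrank_top] at h1
  have h2 := Submodule.finrank_mono hgπ
  rw [LinearMap.finrank_range_of_inj hg] at h2
  show Module.finrank k _ + Module.finrank k _ ≤ Module.finrank k (_ ⧸ Kx)
  have h3 : Module.finrank k (Coh.HH X (CohB1.tensorMod M N) 0 ⧸ Ky) +
      Module.finrank k (LinearMap.ker π) = Module.finrank k (Coh.HH X (CohB1.tensorMod M N) 0 ⧸ Kx) := h1
  change Module.finrank k (Coh.HH X M 0 ⧸ vanishAt k M hM x) +
    Module.finrank k (Coh.HH X (CohB1.tensorMod M N) 0 ⧸ Ky) ≤ Module.finrank k (Coh.HH X (CohB1.tensorMod M N) 0 ⧸ Kx)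
  omega

/-- A chain of specializations separated by sections. -/
def Chain (M : X.Modules) : ℕ → X → Prop
  | 0, _ => True
  | m + 1, x => ∃ (y : X) (s : Γ(M, (⊤ : X.Opens))), x ⤳ y ∧ x ∈ AmpleX.locus s ∧ y ∉ AmpleX.locus s ∧ Chain M m y

theorem choose_le_val (hM : PicF.IsInvertible M) (hgen : ∀ x : X, ∃ s : Γ(M, (⊤ : X.Opens)), x ∈ AmpleX.locus s) :
    ∀ (m j : ℕ) (x : X), Chain M m x →
      (j + m).choose m ≤ val k (CohB1.tensorPow M j) (InvX.isInvertible_tensorPow hM j) x := by
  have hpos : ∀ (j : ℕ) (x : X), 0 < val k (CohB1.tensorPow M j) (InvX.isInvertible_tensorPow hM j) x := by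
    intro j x
    obtain ⟨s, hs⟩ := hgen x
    refine val_pos k _ (t := InvX.one (InvX.powHom (InvX.ofSect s) j)) ?_
    rw [← AmpleX.genLocus_eq_locus]
    cases j with
    | zero =>
      rw [AmpleX.genLocus_eq_locus]
      exact AmpleX.le_locus _ (le_refl (⊤ : X.Opens))
        (by rw [AModX.res_self]; exact InvX.isFrame_one ⊤) (Set.mem_univ x)
    | succ j =>
      rw [InvX.genLocus_powHom hM, AmpleX.genLocus_eq_locus, InvX.one_ofSect]
      exact hs
  intro m
  induction m with
  | zero =>
    intro j x _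
    rw [Nat.choose_zero_right]
    exact hpos j x
  | succ m ihm =>
    intro j
    induction j with
    | zero =>
      intro x _
      rw [Nat.zero_add, Nat.choose_self]
      exact hpos 0 x
    | succ j ihj =>
      intro x hx
      have hj := ihj x hx
      obtain ⟨y, s, hxy, hxs, hys, hy⟩ := hx
      have h := val_add_le k (InvX.isInvertible_tensorPow hM j) hM hxy hxs hys
      have hym := ihm (j + 1) y hy
      refine le_trans (le_of_eq ?_) (le_trans (Nat.add_le_add hj hym) h)
      rw [show j + 1 + (m + 1) = (j + (m + 1)) + 1 by omega, Nat.choose_succ_succ',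
        show j + 1 + m = j + (m + 1) by omega, add_comm]

end Groth.Agent.Big
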