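import Groth.Agent.Lib.AVAmple
import Groth.Agent.Big.Values
import Groth.Agent.Big.SectionDivisor
import Groth.Agent.AmpleX.ExtendQS
import Groth.Agent.GeomField.GlobalFunctions

/-!
# Sections with poles on the complement of an affine open
-/

set_option autoImplicit false
set_option linter.style.haveILetI false
set_option linter.unusedSectionVars false
set_option backward.isDefEq.respectTransparency false
set_option backward.isDefEq.respectTransparency.types false
set_option maxHeartbeats 1000000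

universe u

open CategoryTheory CategoryTheory.Limits AlgebraicGeometry TopologicalSpace
open Groth.Agent.H23.PicMul

noncomputable section

namespace Groth.Agent.Big.AffineSect

open Groth.Agent

variable {X : Scheme.{u}}

/-- The tautological section of a divisor, with its local equations. -/
theorem exists_equation_section [IsIntegral X] {I : X.IdealSheafData} (hI : BlowUp.IsEffCartierIdeal I)
    {L : X.Modules} (hL : PicF.IsInvertible L) (hLI : ClSub.IsInverseOf L (ClSub.idealMod I)) :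
    ∃ s : Γ(L, ⊤), ∀ x : X, ∃ (U : X.affineOpens) (_ : x ∈ U.1) (e : Γ(L, U.1)) (d : Γ(X, U.1)),
      InvX.IsFrame e ∧ AModX.res L (le_top : U.1 ≤ ⊤) s = d • e ∧ I.ideal U = Ideal.span {d} ∧
        d ≠ 0 := by
  open InvX in
  obtain ⟨φ⟩ := hLI
  have hIi := (S8914.result I).2 hI
  let val : ∀ {U : X.Opens}, Γ(L, U) → Γ(ClSub.idealMod I, U) → Γ(X, U) := fun {U} t k => φ.hom.app U (tmul t k)
  have val_smul : ∀ {U : X.Opens} (r r' : Γ(X, U)) (t : Γ(L, U)) (k : Γ(ClSub.idealMod I, U)),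
      val (r • t) (r' • k) = r * (r' * val t k) := fun {U} r r' t k => by
    show (show Γ(X, U) from φ.hom.app U (tmul (r • t) (r' • k))) = _
    rw [tmul_smul_left, tmul_smul_right, Scheme.Modules.Hom.app_smul, Scheme.Modules.Hom.app_smul]
    rfl
  let P : ∀ U : X.Opens, Γ(L, U) → Prop := fun U t => ∀ (V : X.Opens) (h : V ≤ U) (k : Γ(ClSub.idealMod I, V)),
    val (AModX.res L h t) k = OmegaSh.idealSect I V k
  have loc : ∀ x : X, ∃ (U : X.affineOpens) (_ : x ∈ U.1) (t e : Γ(L, U.1)) (h : Γ(ClSub.idealMod I, U.1)),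
      IsFrame e ∧ IsFrame h ∧ P U.1 t ∧ IsUnit (val e h) ∧
        ∃ d : Γ(X, U.1), t = d • e ∧ I.ideal U = Ideal.span {d} ∧ d ≠ 0 := fun x => by
    obtain ⟨U₀, hx₀, e₀, h₀, he₀, hh₀⟩ := exists_frame₂ hL hIi x
    obtain ⟨U₁, hU₁, b, hb, hIb⟩ := hI x
    obtain ⟨U, hU, hxU, hUU⟩ := exists_isAffineOpen_mem_and_subset (show x ∈ U₀ ⊓ U₁.1 from ⟨hx₀, hU₁⟩)
    have h0 : U ≤ U₀ := fun z hz => (hUU hz).1
    have h1 : U ≤ U₁.1 := fun z hz => (hUU hz).2
    let e := AModX.res L h0 e₀
    let h := AModX.res (ClSub.idealMod I) h0 h₀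
    have he : IsFrame e := he₀.res _
    have hh : IsFrame h := hh₀.res _
    have hv : IsUnit (val e h) := by
      have hf := (IsFrame.map_iso φ (isFrame_tmul he hh)) U le_rfl
      obtain ⟨r, hr⟩ := hf.2 (show Γ(Coh.structureModule X, U) from (1 : Γ(X, U)))
      rw [AModX.res_self] at hr
      exact IsUnit.of_mul_eq_one_right r hr
    obtain ⟨v, hv'⟩ := hv
    have hspan : I.ideal ⟨U, hU⟩ = Ideal.span {OmegaSh.idealSect I U h} := by
      refine le_antisymm (fun g hg => ?_)
        ((Ideal.span_singleton_le_iff_mem _).2 (OmegaLib.idealSect_mem I ⟨U, hU⟩ h))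
      obtain ⟨c, rfl⟩ := OmegaLib.exists_of_mem I ⟨U, hU⟩ g hg
      obtain ⟨r, rfl⟩ := hh.exists_coord le_rfl c
      rw [OmegaLib.idealSect_smul, AModX.res_self]
      exact Ideal.mem_span_singleton'.2 ⟨r, rfl⟩
    have hnzd : OmegaSh.idealSect I U h ≠ 0 := fun h0 => by
      have h2 := I.map_ideal (U := ⟨U, hU⟩) (V := U₁) h1
      rw [hspan, hIb, Ideal.map_span, Set.image_singleton, h0, Ideal.span_singleton_zero,
        Ideal.span_singleton_eq_bot] at h2
      haveI : Nonempty U := ⟨⟨x, hxU⟩⟩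
      haveI : Nonempty U₁.1 := ⟨⟨x, h1 hxU⟩⟩
      exact nonZeroDivisors.ne_zero hb (map_injective_of_isIntegral X (homOfLE h1) (h2.trans (map_zero _).symm))
    refine ⟨⟨U, hU⟩, hxU, ((↑v⁻¹ : Γ(X, U)) * OmegaSh.idealSect I U h) • e, e, h, he, hh, fun V hV k => ?_,
      ⟨v, hv'⟩, _, rfl, ?_, fun h0 => hnzd ((Units.isUnit v⁻¹).mul_right_eq_zero.1 h0)⟩
    · obtain ⟨r, rfl⟩ := hh.exists_coord hV k
      have hmap : OmegaSh.idealSect I V (AModX.res (ClSub.idealMod I) hV h) = AModX.resR hV (OmegaSh.idealSect I U h) :=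
        OmegaLib.idealSect_map I hV h
      rw [AModX.res_smul, val_smul, OmegaLib.idealSect_smul, hmap, map_mul,
        show val (AModX.res L hV e) (AModX.res (ClSub.idealMod I) hV h) = AModX.resR hV (val e h) by
          show φ.hom.app V _ = _
          rw [← res_tmul]
          exact AModX.app_res φ.hom hV _, ← hv']
      have h1 : AModX.resR hV (↑v⁻¹ : Γ(X, U)) * AModX.resR hV (↑v : Γ(X, U)) = 1 := by
        rw [← map_mul, Units.inv_mul, map_one]
      linear_combination (r * AModX.resR hV (OmegaSh.idealSect I U h)) * h1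
    · rw [hspan, Ideal.span_singleton_mul_left_unit (Units.isUnit _)]
  choose U hxU t e h he hh ht hv d htd hspan hnzd using loc
  obtain ⟨s, hs, -⟩ := AModX.existsUnique_glue (M := L) (V := ⊤) (fun x => (U x).1) (fun _ => le_top)
    (fun x _ => ⟨x, hxU x⟩) t fun x y => by
      have hf : IsFrame (AModX.res L (inf_le_left : (U x).1 ⊓ (U y).1 ≤ (U x).1) (e x)) := (he x).res _
      obtain ⟨a, ha⟩ := hf.exists_coord le_rfl (AModX.res L (inf_le_left : (U x).1 ⊓ (U y).1 ≤ (U x).1) (t x))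
      obtain ⟨b, hb⟩ := hf.exists_coord le_rfl (AModX.res L (inf_le_right : (U x).1 ⊓ (U y).1 ≤ (U y).1) (t y))
      rw [AModX.res_self] at ha hb
      have h1 := ht x _ inf_le_left (AModX.res (ClSub.idealMod I) (inf_le_left : (U x).1 ⊓ (U y).1 ≤ (U x).1) (h x))
      have h2 := ht y _ inf_le_right (AModX.res (ClSub.idealMod I) (inf_le_left : (U x).1 ⊓ (U y).1 ≤ (U x).1) (h x))
      have e1 : ∀ c : Γ(X, (U x).1 ⊓ (U y).1), val (c • AModX.res L (inf_le_left : (U x).1 ⊓ (U y).1 ≤ (U x).1) (e x))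
          (AModX.res (ClSub.idealMod I) (inf_le_left : (U x).1 ⊓ (U y).1 ≤ (U x).1) (h x)) =
          c * AModX.resR inf_le_left (val (e x) (h x)) := fun c => by
        have := val_smul c 1 (AModX.res L (inf_le_left : (U x).1 ⊓ (U y).1 ≤ (U x).1) (e x))
          (AModX.res (ClSub.idealMod I) (inf_le_left : (U x).1 ⊓ (U y).1 ≤ (U x).1) (h x))
        rw [one_smul, _root_.one_mul] at this
        rw [this]
        congr 1
        show φ.hom.app _ _ = _
        rw [← res_tmul]
        exact AModX.app_res φ.hom _ _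
      rw [ha, e1] at h1
      rw [hb, e1] at h2
      rw [ha, hb, ((hv x).map (AModX.resR inf_le_left)).mul_left_injective (h1.trans h2.symm)]
  exact ⟨s, fun x => ⟨U x, hxU x, e x, d x, he x, (hs x).trans (htd x), hspan x, hnzd x⟩⟩

theorem res_powElt' {L : X.Modules} {U V : X.Opens} (h : V ≤ U) (e : Γ(L, U)) (n : ℕ) :
    AModX.res (CohB1.tensorPow L n) h (AmpleX.powElt e n) = AmpleX.powElt (AModX.res L h e) n :=
  AmpleX.res_powElt h e n

/-- A nonzero section has a nonempty locus. -/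
theorem locus_ne_bot [IsIntegral X] {M : X.Modules} (hM : PicF.IsInvertible M) {t : Γ(M, (⊤ : X.Opens))} (ht : t ≠ 0) :
    genericPoint X ∈ AmpleX.locus t := by
  obtain ⟨U₀, hx, e, he⟩ := InvX.exists_frame hM (genericPoint X)
  obtain ⟨c, hc⟩ := he.exists_coord le_rfl (AModX.res M (le_top : U₀ ≤ ⊤) t)
  rw [AModX.res_self] at hc
  have h := AmpleX.locus_inf t le_top he hc
  suffices genericPoint X ∈ X.basicOpen c from (h.ge this).1
  by_contra hc'
  have hne : ¬ (X.basicOpen c : Set X).Nonempty := fun h' =>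
    hc' (((genericPoint_spec X).mem_open_set_iff (X.basicOpen c).2).2 (by simpa using h'))
  rw [Set.not_nonempty_iff_eq_empty] at hne
  have hc0 : c = 0 := (basicOpen_eq_bot_iff c).1 (Opens.ext hne)
  refine ht ((AModX.eq_of_locally (M := M) t 0) fun p hp => ?_)
  obtain ⟨W₀, hpW, f, hf⟩ := InvX.exists_frame hM p
  refine ⟨W₀, le_top, hpW, ?_⟩
  obtain ⟨a, ha⟩ := hf.exists_coord le_rfl (AModX.res M (le_top : W₀ ≤ ⊤) t)
  rw [AModX.res_self] at ha
  rw [map_zero, ha]
  have h0 : AModX.res M (le_top : U₀ ⊓ W₀ ≤ ⊤) t = 0 := by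
    rw [← AModX.res_res (le_top : U₀ ≤ ⊤) (inf_le_left : U₀ ⊓ W₀ ≤ U₀), hc, hc0, zero_smul, map_zero]
  rw [← AModX.res_res (le_top : W₀ ≤ ⊤) (inf_le_right : U₀ ⊓ W₀ ≤ W₀), ha, AModX.res_smul] at h0
  have h1 : AModX.resR (inf_le_right : U₀ ⊓ W₀ ≤ W₀) a = 0 :=
    (hf.res _).coord_unique le_rfl (r' := 0) (by rw [AModX.res_self, zero_smul]; exact h0)
  haveI : Nonempty (U₀ ⊓ W₀ : X.Opens) :=
    ⟨⟨genericPoint X, hx, ((genericPoint_spec X).mem_open_set_iff W₀.2).2 ⟨p, Set.mem_univ p, hpW⟩⟩⟩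
  have ha0 : a = 0 := map_injective_of_isIntegral X (homOfLE (inf_le_right : U₀ ⊓ W₀ ≤ W₀)) (h1.trans (map_zero _).symm)
  rw [ha0, zero_smul]

/-- A section vanishing along a reduced divisor is divisible by its equation. -/
theorem exists_descent [IsIntegral X] {I : X.IdealSheafData} [IsReduced I.subscheme] {L : X.Modules}
    (hL : PicF.IsInvertible L) {s : Γ(L, (⊤ : X.Opens))}
    (hs : ∀ x : X, ∃ (U : X.affineOpens) (_ : x ∈ U.1) (e : Γ(L, U.1)) (d : Γ(X, U.1)),
      InvX.IsFrame e ∧ AModX.res L (le_top : U.1 ≤ ⊤) s = d • e ∧ I.ideal U = Ideal.span {d} ∧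
        d ≠ 0)
    {n : ℕ} (T : Γ(CohB1.tensorMod (Coh.structureModule X) (CohB1.tensorPow L (n + 1)), (⊤ : X.Opens)))
    (hT : Disjoint (AmpleX.locus T : Set X) (I.support : Set X)) :
    ∃ T' : Γ(CohB1.tensorMod (Coh.structureModule X) (CohB1.tensorPow L n), (⊤ : X.Opens)),
      ∀ x : X, x ∉ I.support → (x ∈ AmpleX.locus T' ↔ x ∈ AmpleX.locus T) := by
  choose U hxU e d he hsd hId hd using hs
  let F : ∀ (m : ℕ) (x : X), Γ(CohB1.tensorMod (Coh.structureModule X) (CohB1.tensorPow L m), (U x).1) := fun m x =>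
    InvX.tmul (show Γ(Coh.structureModule X, (U x).1) from (1 : Γ(X, (U x).1))) (AmpleX.powElt (e x) m)
  have hF : ∀ m x, InvX.IsFrame (F m x) := fun m x =>
    InvX.isFrame_tmul (InvX.isFrame_one _) (AmpleX.isFrame_powElt (he x) m)
  have hcoord : ∀ x, ∃ c : Γ(X, (U x).1), AModX.res _ (le_top : (U x).1 ≤ ⊤) T = (d x * c) • F (n + 1) x := fun x => by
    obtain ⟨c, hc⟩ := (hF (n + 1) x).exists_coord le_rfl (AModX.res _ (le_top : (U x).1 ≤ ⊤) T)
    rw [AModX.res_self] at hc
    have hloc := AmpleX.locus_inf T le_top (hF (n + 1) x) hc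
    have hrad : (I.ideal (U x)).IsRadical := H23.RedSub.isRadical_of_isReduced_subscheme (U x)
    have hmem : c ∈ I.ideal (U x) := by
      rw [← hrad.radical, Ideal.radical_eq_sInf, Submodule.mem_sInf]
      rintro P ⟨hIP, hP⟩
      let q : PrimeSpectrum Γ(X, (U x).1) := ⟨P, hP⟩
      have hmemb : ∀ g, (U x).2.fromSpec q ∈ X.basicOpen g ↔ g ∉ P := fun g => by
        change q ∈ (U x).2.fromSpec ⁻¹ᵁ X.basicOpen g ↔ _
        rw [(U x).2.fromSpec_preimage_basicOpen]
        exact Iff.rfl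
      have hyU : (U x).2.fromSpec q ∈ (U x).1 := (U x).2.range_fromSpec.le ⟨q, rfl⟩
      have hyI : (U x).2.fromSpec q ∈ I.support := by
        rw [Scheme.IdealSheafData.mem_support_iff_of_mem hyU, Scheme.mem_zeroLocus_iff]
        exact fun g hg => fun h' => (hmemb g).1 h' (hIP hg)
      by_contra hcP
      exact Set.disjoint_left.1 hT ((hloc.ge ((hmemb c).2 hcP)).1) hyI
    rw [hId, Ideal.mem_span_singleton'] at hmem
    obtain ⟨a, ha⟩ := hmem
    exact ⟨a, by rw [hc, ← ha, mul_comm a]⟩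
  choose c hc using hcoord
  obtain ⟨T', hT', -⟩ := AModX.existsUnique_glue (M := CohB1.tensorMod (Coh.structureModule X) (CohB1.tensorPow L n))
    (V := ⊤) (fun x => (U x).1) (fun _ => le_top) (fun x _ => ⟨x, hxU x⟩) (fun x => c x • F n x) fun x y => by
      set W := (U x).1 ⊓ (U y).1
      by_cases hW : Nonempty W
      swap
      · refine AModX.eq_of_locally _ _ fun z hz => absurd ⟨⟨z, hz⟩⟩ hW
      have hl : W ≤ (U x).1 := inf_le_left
      have hr : W ≤ (U y).1 := inf_le_right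
      have hres : ∀ m z (hz : W ≤ (U z).1), AModX.res _ hz (F m z) =
          InvX.tmul (show Γ(Coh.structureModule X, W) from (1 : Γ(X, W))) (AmpleX.powElt (AModX.res L hz (e z)) m) :=
        fun m z hz => by
        show AModX.res _ hz (InvX.tmul _ _) = _
        rw [InvX.res_tmul, AmpleX.res_powElt]
        exact congrArg (fun a => InvX.tmul a _) (map_one (AModX.resR hz))
      obtain ⟨g, hg⟩ := ((he x).res hl).exists_coord le_rfl (AModX.res L hr (e y))
      rw [AModX.res_self] at hg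
      have hd' : AModX.resR hl (d x) = AModX.resR hr (d y) * g := by
        refine ((he x).res hl).coord_unique le_rfl ?_
        rw [AModX.res_self, mul_smul, ← hg]
        have h1 := congrArg (AModX.res L hl) (hsd x)
        have h2 := congrArg (AModX.res L hr) (hsd y)
        rw [AModX.res_res, AModX.res_smul] at h1 h2
        exact h1.symm.trans h2
      have hT' : (AModX.resR hl (d x) * AModX.resR hl (c x)) = AModX.resR hr (d y) * AModX.resR hr (c y) * g ^ (n + 1) := by
        refine ((hF (n + 1) x).res hl).coord_unique le_rfl ?_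
        rw [AModX.res_self, mul_smul (AModX.resR hr (d y) * AModX.resR hr (c y))]
        have h1 := congrArg (AModX.res _ hl) (hc x)
        have h2 := congrArg (AModX.res _ hr) (hc y)
        rw [AModX.res_res, AModX.res_smul, map_mul] at h1 h2
        refine (h1.symm.trans h2).trans ?_
        rw [hres (n + 1) y hr, hres (n + 1) x hl, hg, AmpleX.powElt_smul, InvX.tmul_smul_right]
      have hc' : AModX.resR hl (c x) = AModX.resR hr (c y) * g ^ n := by
        refine mul_left_cancel₀ (a := AModX.resR hl (d x)) (fun h0 => hd x ?_) (hT'.trans ?_)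
        · exact map_injective_of_isIntegral X (homOfLE hl) (h0.trans (map_zero _).symm)
        · rw [hd']; ring
      rw [AModX.res_smul, AModX.res_smul, hres n y hr, hres n x hl, hg, AmpleX.powElt_smul, InvX.tmul_smul_right,
        ← mul_smul, hc']
  refine ⟨T', fun x hx => ?_⟩
  have hb : x ∈ X.basicOpen (d x) := by
    by_contra h
    exact hx (by
      rw [Scheme.IdealSheafData.mem_support_iff_of_mem (hxU x), hId, Scheme.zeroLocus_span, Scheme.mem_zeroLocus_iff]
      rintro g rfl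
      exact h)
  have h1 := congrArg (fun V : X.Opens => x ∈ V) (AmpleX.locus_inf T le_top (hF (n + 1) x) (hc x))
  have h2 := congrArg (fun V : X.Opens => x ∈ V) (AmpleX.locus_inf T' le_top (hF n x) (hT' x))
  simp only [Scheme.basicOpen_mul, Opens.mem_inf, hxU x, hb, true_and, and_true, eq_iff_iff] at h1 h2
  exact h2.trans h1.symm

/-- The complement of a reduced Cartier divisor being affine, some power of its sheaf has a section with
prescribed zeros in the affine part which does not vanish on all of the divisor. -/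
theorem exists_pole_section {k : Type u} [Field k] [X.Over (Spec (CommRingCat.of k))]
    [IsProper (X ↘ Spec (CommRingCat.of k))] [IsIntegral X] {I : X.IdealSheafData} [IsReduced I.subscheme]
    (hI : BlowUp.IsEffCartierIdeal I) {L : X.Modules} (hL : PicF.IsInvertible L)
    (hLI : ClSub.IsInverseOf L (ClSub.idealMod I)) (hU : IsAffineOpen I.support.compl)
    (hne : genericPoint X ∉ I.support) (Q : Finset X) (hQ : ∀ q ∈ Q, q ≠ genericPoint X ∧ q ∉ I.support)
    (hQne : Q.Nonempty) :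
    ∃ (n : ℕ) (T : Γ(CohB1.tensorMod (Coh.structureModule X) (CohB1.tensorPow L n), (⊤ : X.Opens))),
      0 < n ∧ T ≠ 0 ∧ (∀ q ∈ Q, q ∉ AmpleX.locus T) ∧ ¬ Disjoint (AmpleX.locus T : Set X) (I.support : Set X) := by
  classical
  haveI := CurveCohLib.isNoetherian_of_proper (k := k) (X := X)
  haveI : CompactSpace X := QuasiCompact.compactSpace_of_compactSpace (X ↘ Spec (CommRingCat.of k))
  haveI : X.IsSeparated := AmpleVan.isSeparated_of_proper (X := X) (A := k)
  obtain ⟨s, hs⟩ := exists_equation_section hI hL hLI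
  have hslocus : ∀ x, x ∈ AmpleX.locus s ↔ x ∉ I.support := fun x => by
    obtain ⟨V, hxV, e, d, he, hsd, hId, -⟩ := hs x
    have h1 := congrArg (fun W : X.Opens => x ∈ W) (AmpleX.locus_inf s le_top he hsd)
    simp only [Opens.mem_inf, hxV, and_true, eq_iff_iff] at h1
    rw [h1, Scheme.IdealSheafData.mem_support_iff_of_mem hxV, hId, Scheme.zeroLocus_span, Scheme.mem_zeroLocus_iff]
    exact ⟨fun h h' => h' d rfl h, fun h => by by_contra h'; exact h fun g hg => hg ▸ h'⟩
  have hinv : ∀ n, PicF.IsInvertible (CohB1.tensorMod (Coh.structureModule X) (CohB1.tensorPow L n)) := fun n =>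
    InvX.isInvertible_tensorMod CurveDeg.isInvertible_structureModule (InvX.isInvertible_tensorPow hL n)
  have hex : ∃ n, ∃ T : Γ(CohB1.tensorMod (Coh.structureModule X) (CohB1.tensorPow L n), (⊤ : X.Opens)),
      T ≠ 0 ∧ ∀ q ∈ Q, q ∉ AmpleX.locus T := by
    let G := CohB1.genLocus L (InvX.ofSect s)
    have hG : G = AmpleX.locus s := by
      show CohB1.genLocus L (InvX.ofSect s) = _
      rw [AmpleX.genLocus_eq_locus, InvX.one_ofSect]
    have hGU : G = I.support.compl := Opens.ext (Set.ext fun x => by rw [hG]; exact hslocus x)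
    have hGaff : IsAffineOpen G := hGU ▸ hU
    have hηG : genericPoint X ∈ G := hGU ▸ hne
    have hex1 : ∀ q : X, q ≠ genericPoint X → ∃ g : Γ(X, G), genericPoint X ∈ X.basicOpen g ∧ q ∉ X.basicOpen g := by
      intro q hq
      have hη : genericPoint X ∈ (⟨(closure {q})ᶜ, isClosed_closure.isOpen_compl⟩ : X.Opens) := fun h =>
        hq (Specializes.antisymm ((genericPoint_spec X).specializes (Set.mem_univ q)) (specializes_iff_mem_closure.2 h)).eq.symm
      obtain ⟨g, hgV, hg⟩ := hGaff.exists_basicOpen_le ⟨genericPoint X, hη⟩ hηG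
      exact ⟨g, hg, fun h => hgV h (subset_closure rfl)⟩
    choose g hg1 hg2 using hex1
    let gt : Γ(X, G) := ∏ q ∈ Q.attach, g q.1 (hQ q.1 q.2).1
    have hgen : ∀ S : Finset Q, genericPoint X ∈ X.basicOpen (∏ q ∈ S, g q.1 (hQ q.1 q.2).1) := fun S => by
      induction S using Finset.induction_on with
      | empty => rw [Finset.prod_empty, X.basicOpen_of_isUnit isUnit_one]; exact hηG
      | @insert a S ha ih => rw [Finset.prod_insert ha, Scheme.basicOpen_mul]; exact ⟨hg1 _ _, ih⟩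
    obtain ⟨n₀, hn⟩ := AmpleX.exists_extend' (M := Coh.structureModule X) QCoh.isQCoh_structureModule hL
      (InvX.ofSect s) (show Γ(Coh.structureModule X, G) from gt)
    obtain ⟨T, hT⟩ := hn n₀ le_rfl
    have hf : InvX.IsFrame (InvX.tmul (show Γ(Coh.structureModule X, G) from (1 : Γ(X, G)))
        (AmpleX.powElt (AModX.res L (le_top : G ≤ ⊤) (InvX.one (InvX.ofSect s))) n₀)) := by
      refine InvX.isFrame_tmul (InvX.isFrame_one _) (AmpleX.isFrame_powElt ?_ _)
      rw [InvX.one_ofSect]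
      exact AmpleX.isFrame_res_of_le s hG.le
    have hTg : AModX.res _ (le_top : G ≤ ⊤) T = gt • InvX.tmul (show Γ(Coh.structureModule X, G) from (1 : Γ(X, G)))
        (AmpleX.powElt (AModX.res L (le_top : G ≤ ⊤) (InvX.one (InvX.ofSect s))) n₀) := by
      rw [← InvX.tmul_smul_left, hT]
      exact congrArg (fun a => InvX.tmul a _) (mul_one gt).symm
    have hloc := AmpleX.locus_inf T le_top hf hTg
    have hmem : genericPoint X ∈ AmpleX.locus T := (hloc.ge (hgen Q.attach)).1
    refine ⟨n₀, T, fun h0 => ?_, fun q hq hqT => ?_⟩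
    · obtain ⟨V, h, hηV, hV⟩ := AmpleX.mem_locus.1 hmem
      rw [h0, map_zero] at hV
      haveI : Nonempty V := ⟨⟨_, hηV⟩⟩
      exact zero_ne_one (hV.coord_unique le_rfl (r := (0 : Γ(X, V))) (r' := 1) (by simp))
    · have hqG : q ∈ G := hGU ▸ (hQ q hq).2
      have h1 : q ∈ X.basicOpen gt := hloc.le ⟨hqT, hqG⟩
      rw [show gt = g q (hQ q hq).1 * ∏ p ∈ Q.attach.erase ⟨q, hq⟩, g p.1 (hQ p.1 p.2).1 from
        (Finset.mul_prod_erase _ _ (Finset.mem_attach _ ⟨q, hq⟩)).symm, Scheme.basicOpen_mul] at h1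
      exact hg2 _ _ h1.1
  have hpos : ∀ T : Γ(CohB1.tensorMod (Coh.structureModule X) (CohB1.tensorPow L 0), (⊤ : X.Opens)),
      T ≠ 0 → (∀ q ∈ Q, q ∉ AmpleX.locus T) → False := fun T hT0 hTQ => by
    obtain ⟨q, hq⟩ := hQne
    have hf : InvX.IsFrame (InvX.tmul (show Γ(Coh.structureModule X, ⊤) from (1 : Γ(X, ⊤)))
        (show Γ(CohB1.tensorPow L 0, ⊤) from (1 : Γ(X, ⊤)))) :=
      InvX.isFrame_tmul (InvX.isFrame_one _) (InvX.isFrame_one _)
    obtain ⟨c, hc⟩ := hf.exists_coord le_rfl T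
    rw [AModX.res_self] at hc
    have hc0 : c ≠ 0 := fun h => hT0 (by rw [hc, h, zero_smul])
    obtain ⟨b, hb⟩ := (GeomField.isField_globalFunctions k X).mul_inv_cancel hc0
    refine hTQ q hq ?_
    have h1 := AmpleX.locus_inf T le_rfl hf (by rw [AModX.res_self]; exact hc)
    rw [Scheme.basicOpen_of_isUnit _ (IsUnit.of_mul_eq_one b hb)] at h1
    exact (h1.ge trivial).1
  obtain ⟨T, hT0, hTQ⟩ := Nat.find_spec hex
  refine ⟨Nat.find hex, T, Nat.pos_of_ne_zero fun h0 => ?_, hT0, hTQ, fun hdis => ?_⟩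
  · obtain ⟨T₀, h1, h2⟩ := h0 ▸ Nat.find_spec hex
    exact hpos T₀ h1 h2
  have hmin : ∀ m, m < Nat.find hex → ∀ T : Γ(CohB1.tensorMod (Coh.structureModule X) (CohB1.tensorPow L m), (⊤ : X.Opens)),
      T ≠ 0 → ¬ ∀ q ∈ Q, q ∉ AmpleX.locus T := fun m hm T h1 h2 => Nat.find_min hex hm ⟨T, h1, h2⟩
  revert T
  generalize Nat.find hex = N at hmin
  intro T hT0 hTQ hdis
  obtain _ | n := N
  · exact hpos T hT0 hTQ
  · obtain ⟨T', hT'⟩ := exists_descent hL hs T hdis
    refine hmin n (Nat.lt_succ_self n) T' (fun h0 => ?_) fun q hq hq' => hTQ q hq ((hT' q (hQ q hq).2).1 hq')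
    have hη := (hT' _ hne).2 (locus_ne_bot (hinv _) hT0)
    obtain ⟨V, h, hηV, hV⟩ := AmpleX.mem_locus.1 hη
    rw [h0, map_zero] at hV
    haveI : Nonempty V := ⟨⟨_, hηV⟩⟩
    exact zero_ne_one (hV.coord_unique le_rfl (r := (0 : Γ(X, V))) (r' := 1) (by simp))

end Groth.Agent.Big.AffineSect
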