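import Groth.Agent.Big.Cartier
import Groth.Agent.OmegaLib.IdealMod
import Groth.Agent.ZClosLib.Basic

/-!
# Splitting a divisor along a decomposition of its support
-/

set_option autoImplicit false
set_option linter.style.haveILetI false
set_option linter.unusedSectionVars false
set_option backward.isDefEq.respectTransparency false
set_option backward.isDefEq.respectTransparency.types false
set_option maxHeartbeats 1000000

universe u

open CategoryTheory CategoryTheory.Limits AlgebraicGeometry TopologicalSpace Opposite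
open Groth.Agent.H23.PicMul

noncomputable section

namespace Groth.Agent.Big

open Groth.Agent

variable {X : Scheme.{u}}

/-- The part of a divisor away from a closed set. -/
theorem exists_piece {I : X.IdealSheafData} (hI : BlowUp.IsEffCartierIdeal I) {A B : Set X} (hA : IsClosed A)
    (hB : IsClosed B) (hd : Disjoint A B) (hAB : (I.support : Set X) = A ∪ B) :
    ∃ J : X.IdealSheafData, BlowUp.IsEffCartierIdeal J ∧ I ≤ J ∧ (J.support : Set X) = B ∧
      ∀ U : X.affineOpens, (U.1 : Set X) ⊆ Aᶜ → J.ideal U = I.ideal U := by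
  let W : I.subscheme.Opens := I.subschemeι ⁻¹ᵁ ⟨Aᶜ, hA.isOpen_compl⟩
  have hWB : (W : Set I.subscheme) = I.subschemeι ⁻¹' B := by
    ext z
    have hz : I.subschemeι z ∈ A ∪ B := by
      rw [← hAB, ← I.range_subschemeι]; exact ⟨z, rfl⟩
    exact ⟨fun h => hz.resolve_left h, fun h hA' => Set.disjoint_left.1 hd hA' h⟩
  haveI : IsClosedImmersion W.ι := .of_isPreimmersion _ (by
    rw [Scheme.Opens.range_ι, hWB]; exact hB.preimage I.subschemeι.continuous)
  let j : W.toScheme ⟶ X := W.ι ≫ I.subschemeι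
  have hr : Set.range j = B := by
    refine Set.Subset.antisymm ?_ fun b hb => ?_
    · rintro _ ⟨z, rfl⟩
      exact hWB.subset z.2
    · obtain ⟨z, rfl⟩ : b ∈ Set.range I.subschemeι := by
        rw [I.range_subschemeι, hAB]; exact Or.inr hb
      exact ⟨⟨z, hWB.superset hb⟩, rfl⟩
  have hle : I ≤ j.ker := (I.ker_subschemeι.ge).trans (Scheme.Hom.le_ker_comp _ _)
  have hsupp : (j.ker.support : Set X) = B := by
    rw [Scheme.Hom.support_ker, hr, hB.closure_eq]
  have hideal : ∀ U : X.affineOpens, (U.1 : Set X) ⊆ Aᶜ → j.ker.ideal U = I.ideal U := fun U hU => by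
    rw [Scheme.Hom.ker_apply, ← I.ker_subschemeι_app]
    ext a
    rw [RingHom.mem_ker, RingHom.mem_ker]
    show W.ι.app (I.subschemeι ⁻¹ᵁ U.1) (I.subschemeι.app U.1 a) = 0 ↔ _
    refine ⟨fun h => ?_, fun h => by rw [h, map_zero]⟩
    rw [Scheme.Opens.ι_app] at h
    have hle' : I.subschemeι ⁻¹ᵁ U.1 ≤ W := fun z hz => hU hz
    refine (PnCoh.Chow.map_injective_of_eq ?_ _) (h.trans (map_zero _).symm)
    rw [W.ι.image_preimage_eq_opensRange_inf, Scheme.Opens.opensRange_ι, inf_eq_right.2 hle']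
  refine ⟨j.ker, fun x => ?_, hle, hsupp, hideal⟩
  by_cases hx : x ∈ A
  · obtain ⟨_, ⟨U, hU, rfl⟩, hxU, hUB⟩ := X.isBasis_affineOpens.exists_subset_of_mem_open
      (Set.disjoint_left.1 hd hx : x ∈ Bᶜ) hB.isOpen_compl
    refine ⟨⟨U, hU⟩, hxU, 1, one_mem _, ?_⟩
    rw [Ideal.span_singleton_one, Ideal.eq_top_iff_one, Scheme.Hom.ker_apply, RingHom.mem_ker]
    have hempty : j ⁻¹ᵁ U = ⊥ := eq_bot_iff.2 fun z hz => (hUB hz (hr.subset ⟨z, rfl⟩)).elim
    haveI : Subsingleton Γ(W.toScheme, j ⁻¹ᵁ U) := by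
      rw [hempty]; infer_instance
    exact Subsingleton.elim _ _
  · obtain ⟨U, hxU, f, hf, hIU⟩ := hI x
    obtain ⟨g, hgle, hxg⟩ := U.2.exists_basicOpen_le (V := ⟨Aᶜ, hA.isOpen_compl⟩) ⟨x, hx⟩ hxU
    haveI := U.2.isLocalization_basicOpen g
    haveI : IsLocalization.Away g Γ(X, X.basicOpen g) := U.2.isLocalization_basicOpen g
    refine ⟨X.affineBasicOpen g, hxg, algebraMap Γ(X, U.1) Γ(X, X.basicOpen g) f, ?_, ?_⟩
    · exact IsLocalization.map_nonZeroDivisors_le (Submonoid.powers g) Γ(X, X.basicOpen g) ⟨f, hf, rfl⟩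
    · rw [hideal _ hgle, ← I.map_ideal_basicOpen U g, hIU, Ideal.map_span, Set.image_singleton]
      rfl

/-- The inclusion of ideals. -/
theorem exists_idealIncl {I J : X.IdealSheafData} (h : I ≤ J) :
    ∃ u : ClSub.idealMod I ⟶ ClSub.idealMod J, u ≫ ClSub.idealModι J = ClSub.idealModι I := by
  refine ⟨kernel.lift _ (ClSub.idealModι I) ?_, kernel.lift_ι _ _ _⟩
  refine Scheme.Modules.hom_ext _ _ fun U => ?_
  ext s
  show J.subschemeι.app U (OmegaSh.idealSect I U s) = 0
  have e := Scheme.IdealSheafData.inclusion_subschemeι h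
  generalize Scheme.IdealSheafData.inclusion h = c at e
  rw [Scheme.Hom.congr_app e.symm U, CommRingCat.comp_apply, Scheme.Hom.comp_app, CommRingCat.comp_apply,
    OmegaLib.subschemeι_app_idealSect, map_zero, map_zero]

/-- The inclusion is an isomorphism where the ideals agree. -/
theorem isoOn_idealIncl {I J : X.IdealSheafData} {V : X.Opens}
    (hV : ∀ U : X.affineOpens, U.1 ≤ V → J.ideal U = I.ideal U) {u : ClSub.idealMod I ⟶ ClSub.idealMod J}
    (hu : u ≫ ClSub.idealModι J = ClSub.idealModι I) : Snapper.IsoOn V u := fun x hx => by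
  let F := DerSch.stalkFunctor X x
  haveI : Mono u := by
    haveI : Mono (u ≫ ClSub.idealModι J) := by rw [hu]; exact inferInstanceAs (Mono (kernel.ι _))
    exact mono_of_mono u (ClSub.idealModι J)
  haveI : Mono (F.map u) := inferInstance
  refine (ConcreteCategory.isIso_iff_bijective _).2 ⟨(ModuleCat.mono_iff_injective _).1 inferInstance, fun b => ?_⟩
  obtain ⟨W, hxW, t, rfl⟩ := TopCat.Presheaf.exists_germ_eq (ClSub.idealMod J).presheaf b
  obtain ⟨U, hU, hxU, hUW⟩ := exists_isAffineOpen_mem_and_subset (show x ∈ W ⊓ V from ⟨hxW, hx⟩)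
  have hU1 : U ≤ W := fun y hy => (hUW hy).1
  have hU2 : U ≤ V := fun y hy => (hUW hy).2
  have hm := OmegaLib.idealSect_mem J ⟨U, hU⟩ (AModX.res _ hU1 t)
  rw [hV ⟨U, hU⟩ hU2] at hm
  obtain ⟨s, hs⟩ := OmegaLib.exists_of_mem I ⟨U, hU⟩ _ hm
  refine ⟨(ClSub.idealMod I).presheaf.germ U x hxU s, ?_⟩
  have hs' : u.app U s = AModX.res _ hU1 t := OmegaLib.idealSect_injective J U (by
    refine Eq.trans ?_ hs
    exact congr(($(hu)).app U s))
  refine (TopCat.Presheaf.stalkFunctor_map_germ_apply U x hxU ((Scheme.Modules.toPresheaf X).map u) s).trans ?_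
  exact (congrArg ((ClSub.idealMod J).presheaf.germ U x hxU) hs').trans (InvX.germ_res' hU1 hxU t)

/-- The inclusion of an ideal is an isomorphism away from the divisor. -/
theorem isoOn_idealModι (D : X.IdealSheafData) {V : X.Opens} (hV : Disjoint (V : Set X) (D.support : Set X)) :
    Snapper.IsoOn V (ClSub.idealModι D) := fun x hx =>
  (ShortComplex.ShortExact.isIso_f_iff ((shortExact_ideal D).map_of_exact (DerSch.stalkFunctor X x))).2
    (Snapper.notMem_support_iff.1 fun hs => Set.disjoint_left.1 hV hx (support_quotMod_subset D hs))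

/-- Tensoring with a module supported where a map is an isomorphism. -/
theorem cl_tensor_eq_of_isoOn {V : X.Opens} {A B : X.Modules} {φ : A ⟶ B} (hφ : Snapper.IsoOn V φ)
    (hAq : Coh.IsQCoh A) (hBq : Coh.IsQCoh B) {M : X.Modules} (hM : Coh.IsQCoh M) (hMV : CohB1.support M ⊆ V) :
    Nonempty (CohB1.tensorMod A M ≅ CohB1.tensorMod B M) := by
  suffices h : IsIso ((AmpleVan.tw M).map φ) by exact ⟨@asIso _ _ _ _ _ h⟩
  refine ZClosLib.isIso_of_stalkMap_bijective _ fun x => ?_
  by_cases hx : x ∈ V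
  · haveI := (hφ.tensor M) x hx
    show Function.Bijective ((DerSch.stalkFunctor X x).map ((AmpleVan.tw M).map φ))
    exact (ConcreteCategory.isIso_iff_bijective _).1 inferInstance
  · have hz : ∀ C : X.Modules, Coh.IsQCoh C → Subsingleton ((CohB1.tensorMod C M).presheaf.stalk x) := fun C hC => by
      by_contra h
      exact hx (hMV (CurveTensor.support_tensor_subset h))
    exact ⟨fun a b _ => (hz A hAq).elim a b, fun b => ⟨0, (hz B hBq).elim _ _⟩⟩

end Groth.Agent.Big
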