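import Groth.Agent.Big.Cartier
import Groth.Agent.OmegaLib.IdealMod
import Groth.Agent.InvX.Pullback
import Groth.Agent.DivX.MeroMod
import Groth.Agent.ModPairLib.Basic

/-!
# The inverse image of the ideal of a divisor
-/

set_option autoImplicit false
set_option linter.style.haveILetI false
set_option linter.unusedSectionVars false
set_option backward.isDefEq.respectTransparency false
set_option backward.isDefEq.respectTransparency.types false
set_option maxHeartbeats 1000000

universe u

open CategoryTheory CategoryTheory.Limits AlgebraicGeometry TopologicalSpace Opposite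
open Groth.Agent.H23.PicMul

noncomputable section

namespace Groth.Agent.Big

open Groth.Agent

variable {X Y : Scheme.{u}} (f : Y ⟶ X) (I : X.IdealSheafData)

/-- Sections of the ideal pull back to sections of the inverse image ideal. -/
theorem exists_idealPush : ∃ α : ClSub.idealMod I ⟶ (Scheme.Modules.pushforward f).obj (ClSub.idealMod (I.comap f)),
    ∀ (U : X.Opens) (s : Γ(ClSub.idealMod I, U)),
      OmegaSh.idealSect (I.comap f) (f ⁻¹ᵁ U) (α.app U s) = f.app U (OmegaSh.idealSect I U s) := by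
  let J := I.comap f
  let F := Scheme.Modules.pushforward f
  have hker : I.subschemeι.ker ≤ (J.subschemeι ≫ f).ker := by
    rw [I.ker_subschemeι]
    exact Scheme.IdealSheafData.le_map_iff_comap_le.2 (le_refl J)
  let c := IsClosedImmersion.lift I.subschemeι (J.subschemeι ≫ f) hker
  have hc : c ≫ I.subschemeι = J.subschemeι ≫ f := IsClosedImmersion.lift_fac _ _ hker
  have cond : (ClSub.idealModι I ≫ ClSub.unitToPush f) ≫ F.map (ClSub.toSubscheme J) = 0 := by
    refine Scheme.Modules.hom_ext _ _ fun U => ?_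
    ext s
    show J.subschemeι.app (f ⁻¹ᵁ U) (f.app U (OmegaSh.idealSect I U s)) = 0
    generalize hg : J.subschemeι ≫ f = g at hc
    have h1 : (J.subschemeι ≫ f).app U (OmegaSh.idealSect I U s) = 0 := by
      rw [Scheme.Hom.congr_app (hg.trans hc.symm) U, CommRingCat.comp_apply, Scheme.Hom.comp_app,
        CommRingCat.comp_apply, OmegaLib.subschemeι_app_idealSect, map_zero, map_zero]
    exact h1
  obtain ⟨α, hα⟩ := KernelFork.IsLimit.lift'
    (isLimitForkMapOfIsLimit' F (kernel.condition _) (kernelIsKernel (ClSub.toSubscheme J))) _ cond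
  refine ⟨α, fun U s => ?_⟩
  exact congr(($(hα)).app U s)

/-- The inverse image of an invertible ideal is the ideal of the inverse image divisor. -/
theorem cl_idealMod_comap (hI : BlowUp.IsEffCartierIdeal I) (hJ : BlowUp.IsEffCartierIdeal (I.comap f)) :
    PicF.cl ((Scheme.Modules.pullback f).obj (ClSub.idealMod I)) = PicF.cl (ClSub.idealMod (I.comap f)) := by
  have hIi := isInvertible_ideal hI
  have hJi := isInvertible_ideal hJ
  obtain ⟨α, hα⟩ := exists_idealPush f I
  let adj := Scheme.Modules.pullbackPushforwardAdjunction f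
  let β := (adj.homEquiv _ _).symm α
  have hβ : adj.unit.app (ClSub.idealMod I) ≫ (Scheme.Modules.pushforward f).map β = α :=
    (Adjunction.homEquiv_unit _ _ _ _).symm.trans ((adj.homEquiv _ _).apply_symm_apply α)
  suffices h : IsIso β by exact cl_eq_iff.2 ⟨@asIso _ _ _ _ _ h⟩
  refine DivX.isIso_of_frames β fun y => ?_
  obtain ⟨U₀, hx₀, e₀, he₀⟩ := InvX.exists_frame hIi (f y)
  obtain ⟨U, hU, hxU, hUU⟩ := exists_isAffineOpen_mem_and_subset hx₀
  let e := AModX.res _ hUU e₀
  have he : InvX.IsFrame e := he₀.res _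
  obtain ⟨V₀, hy₀, d₀, hd₀⟩ := InvX.exists_frame hJi y
  obtain ⟨V, hV, hyV, hVV⟩ := exists_isAffineOpen_mem_and_subset
    (show y ∈ V₀ ⊓ f ⁻¹ᵁ U from ⟨hy₀, hxU⟩)
  have hV1 : V ≤ V₀ := fun z hz => (hVV hz).1
  have hV2 : V ≤ f ⁻¹ᵁ U := fun z hz => (hVV hz).2
  let d := AModX.res _ hV1 d₀
  have hd : InvX.IsFrame d := hd₀.res _
  refine ⟨V, hyV, AModX.res _ hV2 (InvX.pullElt f e), (InvX.isFrame_pullElt f he).res _, ?_⟩
  let e' := β.app V (AModX.res _ hV2 (InvX.pullElt f e))
  change InvX.IsFrame e'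
  let a := OmegaSh.idealSect I U e
  have hval : OmegaSh.idealSect (I.comap f) V e' = f.appLE U V hV2 a := by
    have e1 : e' = AModX.res _ hV2 (α.app U e) := by
      rw [← hβ]
      exact AModX.app_res β hV2 (InvX.pullElt f e)
    rw [e1]
    refine (OmegaLib.idealSect_map (I.comap f) hV2 (α.app U e)).trans ?_
    rw [hα, Scheme.Hom.appLE]
    rfl
  have hgenI : I.ideal ⟨U, hU⟩ = Ideal.span {a} := by
    refine le_antisymm (fun g hg => ?_)
      ((Ideal.span_singleton_le_iff_mem _).2 (OmegaLib.idealSect_mem I ⟨U, hU⟩ e))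
    obtain ⟨t, ht⟩ := OmegaLib.exists_of_mem I ⟨U, hU⟩ g hg
    obtain ⟨r, hr⟩ := he.exists_coord le_rfl t
    rw [AModX.res_self] at hr
    rw [← ht, hr, OmegaLib.idealSect_smul]
    exact Ideal.mul_mem_left _ r (Ideal.mem_span_singleton_self _)
  have hmem := OmegaLib.idealSect_mem (I.comap f) ⟨V, hV⟩ d
  rw [ModPairLib.ideal_comap I f ⟨U, hU⟩ ⟨V, hV⟩ hV2, hgenI, Ideal.map_span, Set.image_singleton,
    Ideal.mem_span_singleton'] at hmem
  obtain ⟨s, hs⟩ := hmem
  obtain ⟨r, hr⟩ := hd.exists_coord le_rfl e'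
  rw [AModX.res_self] at hr
  have hsd : s • e' = d := OmegaLib.idealSect_injective (I.comap f) V (by
    rw [OmegaLib.idealSect_smul, hval]; exact hs)
  have hsr : s * r = 1 := hd.coord_unique le_rfl (by
    rw [AModX.res_self, mul_smul, ← hr, hsd, one_smul])
  rw [hr]
  exact hd.isUnit_smul (IsUnit.of_mul_eq_one_right s hsr)

end Groth.Agent.Big
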