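import Groth.Agent.Big.HodgeProper
import Groth.Agent.Big.Split
import Groth.Agent.MeroX.DivDim
import Groth.Agent.FibDim.Comp
import Groth.Agent.S1617
import Groth.Agent.Big.Comap

/-!
# Connectedness of nef and big divisors on surfaces
-/

set_option autoImplicit false
set_option linter.style.haveILetI false
set_option linter.unusedSectionVars false
set_option backward.isDefEq.respectTransparency false
set_option backward.isDefEq.respectTransparency.types false
set_option maxHeartbeats 1000000

universe u

open CategoryTheory CategoryTheory.Limits AlgebraicGeometry TopologicalSpace Opposite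
open Groth.Agent.H23.PicMul

noncomputable section

namespace Groth.Agent.Big

open Groth.Agent

variable (k : Type u) [Field k] {X : Scheme.{u}} [X.Over (Spec (CommRingCat.of k))]
  [IsProper (X ↘ Spec (CommRingCat.of k))] [IsIntegral X]

include k in
/-- The pairing with the ideal of a divisor. -/
theorem pair_ideal {D : X.IdealSheafData} (hD : BlowUp.IsEffCartierIdeal D) {M : X.Modules}
    (hM : PicF.IsInvertible M) : pair k (ClSub.idealMod D) M = alt k ![M] (ClSub.quotMod D) := by
  haveI := CurveCohLib.isNoetherian_of_proper (k := k) (X := X)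
  haveI : Mono ((AmpleVan.tw (Coh.structureModule X)).map (ClSub.idealModι D)) := by
    haveI := AmpleVan.isEquivalence_tw (CurveDeg.isInvertible_structureModule (X := X))
    haveI : Mono (ClSub.idealModι D) := inferInstanceAs (Mono (kernel.ι _))
    infer_instance
  refine (alt_cons_ideal k (M := ![M]) (fun i => by fin_cases i; exact hM) (QCoh.isCoh_structureModule' (X := X))
    (isInvertible_ideal hD)).trans (alt_congr_cl k (fun _ => rfl) ?_)
  rw [cl_tensor, one_mul_cl]

include k in
/-- A divisor on a surface has a curve through it. -/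
theorem exists_curve_point (hdim : topologicalKrullDim X = 2) {D : X.IdealSheafData}
    (hD : BlowUp.IsEffCartierIdeal D) (hne : (D.support : Set X).Nonempty) :
    ∃ η, η ∈ CohB1.support (ClSub.quotMod D) ∧
      topologicalKrullDim (closure ({η} : Set X)) = ((1 : ℕ) : WithBot ℕ∞) := by
  haveI := CurveCohLib.isNoetherian_of_proper (k := k) (X := X)
  obtain ⟨x, hx⟩ := hne
  obtain ⟨z, rfl⟩ : x ∈ Set.range D.subschemeι := by rwa [D.range_subschemeι]
  obtain ⟨w, -, hmax⟩ := FibDim.exists_maximal_generization z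
  have hw : D.subschemeι w ∈ (D.support : Set X) := by rw [← D.range_subschemeι]; exact ⟨w, rfl⟩
  have hgen : ∀ y ∈ (D.support : Set X), y ⤳ D.subschemeι w → y = D.subschemeι w := fun y hy hyw => by
    rw [← D.range_subschemeι] at hy
    obtain ⟨v, rfl⟩ := hy
    rw [hmax v (D.subschemeι.isEmbedding.isInducing.specializes_iff.1 hyw)]
  refine ⟨D.subschemeι w, CurveCohLib.GlobGen.nontrivial_stalk_quotMod D hw, ?_⟩
  refine le_antisymm ((H23.TopDim.dim_le_dim_of_subset (D.support.isClosed.closure_subset_iff.2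
    (Set.singleton_subset_iff.2 hw))).trans (dim_support_le k hD (e := 1) hdim.le)) ?_
  rw [Nat.cast_one]
  by_contra hlt
  have h0 : topologicalKrullDim (closure ({D.subschemeι w} : Set X)) ≤ ((0 : ℕ) : WithBot ℕ∞) :=
    Nakai.le_pred_of_lt (not_le.1 hlt)
  have hcl := Euler.closure_eq_self_of_dim_le_zero isClosed_closure h0 (subset_closure (Set.mem_singleton _))
  have h1 := MeroX.stalk_dim_eq_one D hD _ hw hgen
  rw [← S1617.result k X _ (hcl ▸ isClosed_closure)] at h1
  have h2 : topologicalKrullDim X ≤ FlatMor.localDim X (D.subschemeι w) :=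
    le_iInf fun U => (S1618.result k X U.1 ⟨_, U.2⟩).ge
  rw [h1, hdim] at h2
  exact absurd h2 (by norm_num)

include k in
/-- A nef and big divisor on a projective surface is connected. -/
theorem isPreconnected_divisor (hdim : topologicalKrullDim X = 2) {A₀ : X.Modules} (hA₀ : CohB1.IsAmple A₀)
    {I : X.IdealSheafData} (hI : BlowUp.IsEffCartierIdeal I) (hbig : 0 < pair k (ClSub.idealMod I) (ClSub.idealMod I))
    (hnef : ∀ (Y : Scheme.{u}) (ι : Y ⟶ X) [IsClosedImmersion ι], IsIntegral Y → topologicalKrullDim Y = 1 →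
      cdeg k ι (ClSub.idealMod I) ≤ 0) : _root_.IsPreconnected (I.support : Set X) := by
  classical
  haveI := CurveCohLib.isNoetherian_of_proper (k := k) (X := X)
  rw [isPreconnected_iff_subset_of_fully_disjoint_closed I.support.isClosed]
  intro a b ha hb hsub hd
  by_contra hcon
  push Not at hcon
  obtain ⟨hna, hnb⟩ := hcon
  let A : Set X := (I.support : Set X) ∩ a
  let B : Set X := (I.support : Set X) ∩ b
  have hAc : IsClosed A := I.support.isClosed.inter ha
  have hBc : IsClosed B := I.support.isClosed.inter hb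
  have hdAB : Disjoint A B := hd.mono Set.inter_subset_right Set.inter_subset_right
  have hcov : (I.support : Set X) = A ∪ B := by
    rw [← Set.inter_union_distrib_left]; exact (Set.inter_eq_left.2 hsub).symm
  have hAne : A.Nonempty := by
    obtain ⟨x, hx, hxb⟩ := Set.not_subset.1 hnb
    exact ⟨x, hx, (hsub hx).resolve_right hxb⟩
  have hBne : B.Nonempty := by
    obtain ⟨x, hx, hxa⟩ := Set.not_subset.1 hna
    exact ⟨x, hx, (hsub hx).resolve_left hxa⟩
  obtain ⟨J, hJ, hIJ, hJs, hJi⟩ := exists_piece hI hAc hBc hdAB hcov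
  obtain ⟨J', hJ', hIJ', hJ's, hJ'i⟩ := exists_piece hI hBc hAc hdAB.symm (hcov.trans (Set.union_comm A B))
  have hN := isInvertible_ideal hI
  have hQd : ∀ {D : X.IdealSheafData}, BlowUp.IsEffCartierIdeal D →
      topologicalKrullDim ↥(CohB1.support (ClSub.quotMod D)) ≤ ((1 : ℕ) : WithBot ℕ∞) := fun hD =>
    (H23.TopDim.dim_le_dim_of_subset (support_quotMod_subset _)).trans (dim_support_le k hD (e := 1) hdim.le)
  have hswap : ∀ {D : X.IdealSheafData} {P Q : X.Modules}, PicF.IsInvertible P → PicF.IsInvertible Q →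
      Nonempty (CohB1.tensorMod P (ClSub.quotMod D) ≅ CohB1.tensorMod Q (ClSub.quotMod D)) →
      alt k ![P] (ClSub.quotMod D) = alt k ![Q] (ClSub.quotMod D) := fun {D P Q} hP hQ e => by
    rw [show (![P] : Fin 1 → X.Modules) = Fin.cons P ![] from rfl, show (![Q] : Fin 1 → X.Modules) = Fin.cons Q ![] from rfl,
      alt_cons, alt_cons]
    refine congrArg _ (alt_congr_cl k (fun _ => rfl) ?_)
    rw [cl_tensor, cl_tensor, mul_comm, ← cl_tensor, cl_eq_iff.2 e, cl_tensor, mul_comm]
  have hsq : ∀ {D : X.IdealSheafData} {C : Set X}, BlowUp.IsEffCartierIdeal D → I ≤ D → IsClosed C →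
      Disjoint C (D.support : Set X) → (∀ U : X.affineOpens, (U.1 : Set X) ⊆ Cᶜ → D.ideal U = I.ideal U) →
      pair k (ClSub.idealMod D) (ClSub.idealMod D) = pair k (ClSub.idealMod D) (ClSub.idealMod I) := by
    intro D C hD hle hC hdis hid
    rw [pair_ideal k hD (isInvertible_ideal hD), pair_ideal k hD hN]
    refine (hswap hN (isInvertible_ideal hD) ?_).symm
    obtain ⟨u, hu⟩ := exists_idealIncl hle
    exact cl_tensor_eq_of_isoOn (isoOn_idealIncl (V := ⟨Cᶜ, hC.isOpen_compl⟩) (fun U hU => hid U hU) hu)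
      (ProjUPX.isQCoh_of_isInvertible hN) (ProjUPX.isQCoh_of_isInvertible (isInvertible_ideal hD))
      (ParShLib.isCoh_quotMod D).1 fun x hx hxC =>
        Set.disjoint_left.1 hdis hxC (support_quotMod_subset D hx)
  have hnn : ∀ {D : X.IdealSheafData}, BlowUp.IsEffCartierIdeal D →
      0 ≤ pair k (ClSub.idealMod D) (ClSub.idealMod I) := fun {D} hD => by
    rw [pair_ideal k hD hN]
    have hQc := ParShLib.isCoh_quotMod D
    let T : Closeds X := ⟨_, QCoh.isClosed_support_of_isFT hQc.1 hQc.2⟩
    have hTd : topologicalKrullDim ↥(T : Set X) ≤ ((1 : ℕ) : WithBot ℕ∞) := hQd hD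
    have hfin := Snapper.finite_topPts hTd
    rw [alt_components k (M := ![ClSub.idealMod I]) (fun i => by fin_cases i; exact hN) hQc hTd subset_rfl
      hfin.toFinset fun ξ => hfin.mem_toFinset]
    refine Finset.sum_nonneg fun ξ hξ => mul_nonneg (Nat.cast_nonneg _) ?_
    obtain ⟨-, hξd⟩ := hfin.mem_toFinset.1 hξ
    let W := Scheme.IdealSheafData.vanishingIdeal (⟨closure ({ξ} : Set X), isClosed_closure⟩ : Closeds X)
    haveI : IsIntegral W.subscheme := QCoh.isIntegral_closure_point ξ
    have hWd : topologicalKrullDim W.subscheme = 1 :=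
      ((AmpleDev.dim_eq_one_of_closedImmersion W.subschemeι (H23.RedSub.range_vanishingIdeal _)).trans hξd).trans
        Nat.cast_one
    have h := hnef W.subscheme W.subschemeι inferInstance hWd
    have e : alt k ![ClSub.idealMod I] (Snapper.clMod ξ) = -cdeg k W.subschemeι (ClSub.idealMod I) := by
      rw [cdeg, neg_neg]
    rw [e]
    linarith
  have horth : pair k (ClSub.idealMod J') (ClSub.idealMod J) = 0 := by
    rw [pair_ideal k hJ' (isInvertible_ideal hJ)]
    rw [hswap (isInvertible_ideal hJ) (CurveDeg.isInvertible_structureModule (X := X))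
      (cl_tensor_eq_of_isoOn (isoOn_idealModι J (V := J.support.compl) disjoint_compl_left)
        (ProjUPX.isQCoh_of_isInvertible (isInvertible_ideal hJ)) QCoh.isQCoh_structureModule
        (ParShLib.isCoh_quotMod J').1 fun x hx hxJ => Set.disjoint_left.1 hdAB
          (hJ's.subset (support_quotMod_subset J' hx)) (hJs.subset hxJ)),
      show (![Coh.structureModule X] : Fin 1 → X.Modules) = Fin.cons (Coh.structureModule X) ![] from rfl, alt_cons, sub_eq_zero]
    exact alt_congr_cl k (fun _ => rfl) (by rw [cl_tensor, ← H23.PicMul.one_def, mul_one])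
  obtain ⟨A', hA', hAA'⟩ := H23.PicInv.exists_inverse hA₀.1
  have hApos : ∀ {D : X.IdealSheafData}, BlowUp.IsEffCartierIdeal D → (D.support : Set X).Nonempty →
      0 < pair k (ClSub.idealMod D) A' := fun {D} hD hDne => by
    rw [pair_ideal k hD hA']
    obtain ⟨η, hη, hηd⟩ := exists_curve_point k hdim hD hDne
    exact alt_pos_of_components k (pos k 1) (L := ![A₀]) (fun i => by fin_cases i; exact hA₀)
      (fun i => by fin_cases i; exact hA') (fun i => by fin_cases i; exact cl_mul_eq_one hAA')
      (ParShLib.isCoh_quotMod D) (hQd hD) hη hηd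
  have hJJ := hsq hJ hIJ hAc (by rw [hJs]; exact hdAB) hJi
  have hJ'J' := hsq hJ' hIJ' hBc (by rw [hJ's]; exact hdAB.symm) hJ'i
  have hJi' := isInvertible_ideal hJ
  have hJ'i' := isInvertible_ideal hJ'
  rcases (hnn hJ).lt_or_eq with ht | ht
  · have h0 : pair k (ClSub.idealMod J) (ClSub.idealMod J') = 0 := by rw [pair_symm]; exact horth
    have := pair_eq_zero_of_isotropic k hdim hJi' hJ'i' hA' (by rw [hJJ]; exact ht) h0
      (by rw [hJ'J']; exact hnn hJ')
    exact absurd this (hApos hJ' (by rw [hJ's]; exact hAne)).ne'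
  · have := pair_eq_zero_of_isotropic k hdim hN hJi' hA' hbig (by rw [pair_symm]; exact ht.symm)
      (by rw [hJJ]; exact hnn hJ)
    exact absurd this (hApos hJ (by rw [hJs]; exact hBne)).ne'

end Groth.Agent.Big

namespace Groth.Agent.Big

open Groth.Agent

/-- Inverse images of divisors not containing the generic image point are divisors. -/
theorem isEffCartier_comap {X Y : Scheme.{u}} (f : Y ⟶ X) [IsIntegral Y] {I : X.IdealSheafData}
    (hI : BlowUp.IsEffCartierIdeal I) (hη : f (genericPoint Y) ∉ (I.support : Set X)) :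
    BlowUp.IsEffCartierIdeal (I.comap f) := fun y => by
  obtain ⟨U, hU, a, -, haI⟩ := hI (f y)
  obtain ⟨V, hV, hyV, hVU⟩ := exists_isAffineOpen_mem_and_subset (show y ∈ f ⁻¹ᵁ U.1 from hU)
  have hle : V ≤ f ⁻¹ᵁ U.1 := fun z hz => hVU hz
  haveI : Nonempty (Scheme.Opens.toScheme V) := ⟨⟨y, hyV⟩⟩
  have hid := ModPairLib.ideal_comap I f U ⟨V, hV⟩ hle
  rw [haI, Ideal.map_span, Set.image_singleton] at hid
  refine ⟨⟨V, hV⟩, hyV, _, mem_nonZeroDivisors_of_ne_zero fun h0 => hη ?_, hid⟩
  have hbot : (I.comap f).ideal ⟨V, hV⟩ = ⊥ := by rw [hid, h0, Ideal.span_singleton_eq_bot]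
  have hηV : genericPoint Y ∈ V :=
    ((genericPoint_spec Y).mem_open_set_iff V.2).2 ⟨y, Set.mem_univ y, hyV⟩
  have h1 : genericPoint Y ∈ (I.comap f).support := by
    rw [Scheme.IdealSheafData.mem_support_iff_of_mem (U := ⟨V, hV⟩) hηV, hbot]
    simp
  rw [Scheme.IdealSheafData.support_comap] at h1
  exact h1

end Groth.Agent.Big
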