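import Groth.Agent.Big.Connected
import Groth.Agent.DivX.CodimOne
import Groth.Agent.GrpSchLib.SmoothRegular
import Groth.Agent.S2821
import Groth.Agent.S8914
import Groth.Agent.QCoh.Devissage

/-!
# Curves on a smooth surface are effective Cartier divisors
-/

set_option autoImplicit false
set_option linter.style.haveILetI false
set_option linter.unusedSectionVars false
set_option backward.isDefEq.respectTransparency false
set_option backward.isDefEq.respectTransparency.types false

universe u

open CategoryTheory CategoryTheory.Limits AlgebraicGeometry TopologicalSpace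
open Groth.Agent.H23.PicMul

noncomputable section

namespace Groth.Agent.Big

open Groth.Agent

/-- A point whose closure is a curve has a one-dimensional local ring on a surface. -/
theorem stalk_dim_curve_point {X : Scheme.{u}} [IsIntegral X] (hdim : topologicalKrullDim X = 2) {η : X}
    (hη : topologicalKrullDim (closure ({η} : Set X)) = 1) : ringKrullDim (X.presheaf.stalk η) = 1 := by
  rw [ringKrullDim_stalk_eq_coheight]
  have hX : Order.krullDim X = 2 :=
    (Order.krullDim_eq_of_orderIso (irreducibleSetEquivPoints (α := X))).symm.trans hdim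
  have hne : η ≠ genericPoint X := fun h => by
    rw [h, genericPoint_closure, (Homeomorph.Set.univ X).isHomeomorph.topologicalKrullDim_eq, hdim] at hη
    exact absurd hη (by norm_num)
  have h1 : (1 : ℕ∞) ≤ Order.coheight η := by
    have hlt : η < genericPoint X :=
      lt_of_le_not_ge ((genericPoint_spec X).specializes (Set.mem_univ η)) fun h =>
        hne (Specializes.antisymm h ((genericPoint_spec X).specializes (Set.mem_univ η))).eq
    exact le_of_add_le_right (a := Order.coheight (genericPoint X)) (Order.coheight_add_one_le hlt)
  obtain ⟨x, hx, hxη⟩ : ∃ x ∈ closure ({η} : Set X), x ≠ η := by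
    by_contra h
    push Not at h
    haveI : Subsingleton ↥(closure ({η} : Set X)) := ⟨fun a b => Subtype.ext ((h a a.2).trans (h b b.2).symm)⟩
    haveI : Subsingleton (IrreducibleCloseds ↥(closure ({η} : Set X))) := ⟨fun a b => by
      refine IrreducibleCloseds.ext (Set.ext fun z => ?_)
      obtain ⟨u, hu⟩ := a.isIrreducible.nonempty
      obtain ⟨v, hv⟩ := b.isIrreducible.nonempty
      exact ⟨fun _ => by rwa [Subsingleton.elim z v], fun _ => by rwa [Subsingleton.elim z u]⟩⟩
    have hle : topologicalKrullDim ↥(closure ({η} : Set X)) ≤ 0 := Order.krullDim_nonpos_of_subsingleton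
    rw [hη] at hle
    exact absurd hle (by norm_num)
  have hs : η ⤳ x := specializes_iff_mem_closure.2 hx
  have hlt : x < η := lt_of_le_not_ge hs fun h => hxη (Specializes.antisymm h hs).eq
  have h2 : (1 : ℕ∞) ≤ Order.height η := le_of_add_le_right (a := Order.height x) (Order.height_add_one_le hlt)
  have h3 : Order.height η + Order.coheight η ≤ 2 := by
    haveI : Nonempty X := ⟨η⟩
    have h := le_iSup (fun a : X => Order.height a + Order.coheight a) η
    rw [← WithBot.coe_le_coe, ← Order.krullDim_eq_iSup_height_add_coheight_of_nonempty, hX] at h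
    exact WithBot.coe_le_coe.1 (h.trans (le_of_eq (by norm_cast)))
  obtain ⟨a, ha⟩ := ENat.ne_top_iff_exists.1 (show Order.height η ≠ ⊤ from fun h => by simp [h] at h3)
  obtain ⟨b, hb⟩ := ENat.ne_top_iff_exists.1 (show Order.coheight η ≠ ⊤ from fun h => by simp [h] at h3)
  rw [← ha] at h2 h3
  rw [← hb] at h1 h3 ⊢
  norm_cast at h1 h2 h3 ⊢
  omega

variable (k : Type u) [Field k] {X : Scheme.{u}} [X.Over (Spec (CommRingCat.of k))]
  [IsProper (X ↘ Spec (CommRingCat.of k))] [Smooth (X ↘ Spec (CommRingCat.of k))] [IsIntegral X]

include k in
/-- A curve on a smooth surface is an effective Cartier divisor. -/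
theorem isEffCartier_closure (hdim : topologicalKrullDim X = 2) {η : X}
    (hη : topologicalKrullDim (closure ({η} : Set X)) = 1) :
    BlowUp.IsEffCartierIdeal (Scheme.IdealSheafData.vanishingIdeal (Closeds.closure {η})) := by
  haveI := CurveCohLib.isNoetherian_of_proper (k := k) (X := X)
  set I := Scheme.IdealSheafData.vanishingIdeal (Closeds.closure ({η} : Set X))
  haveI : IsIntegral I.subscheme := QCoh.isIntegral_closure_point η
  have hgen : I.subschemeι (genericPoint I.subscheme) = η := by
    have h := genericPoint_closure (α := I.subscheme)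
    have h' : closure ({I.subschemeι (genericPoint I.subscheme)} : Set X) = closure {η} := by
      rw [← Set.image_singleton, I.subschemeι.isClosedEmbedding.closure_image_eq, h, Set.image_univ]
      exact H23.RedSub.range_vanishingIdeal _
    exact (show IsGenericPoint (I.subschemeι (genericPoint I.subscheme)) _ from h').eq isGenericPoint_closure
  refine DivX.isEffCartier_of_codim_one I (hgen ▸ stalk_dim_curve_point hdim hη) fun x _ => ?_
  haveI := GrpSchLib.isRegularLocalRing_stalk_of_smooth (X ↘ Spec (CommRingCat.of k)) x
  exact S2821.result _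

omit [Smooth (X ↘ Spec (CommRingCat.of k))] in
include k in
/-- The pairing with the ideal of an invertible curve is minus the degree on it. -/
theorem pair_curve_self {I : X.IdealSheafData} (hI : PicF.IsInvertible (ClSub.idealMod I)) {M : X.Modules}
    (hM : PicF.IsInvertible M) : pair k (ClSub.idealMod I) M = -cdeg k I.subschemeι M := by
  rw [pair_ideal k ((S8914.result I).1 hI) hM, cdeg, neg_neg]

include k in
/-- Every curve on a smooth surface is cut out by an invertible ideal. -/
theorem exists_curve_ideal (hdim : topologicalKrullDim X = 2) {Y : Scheme.{u}} (ι : Y ⟶ X) [IsClosedImmersion ι]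
    [IsIntegral Y] (hY : topologicalKrullDim Y = 1) :
    ∃ I : X.IdealSheafData, IsIntegral I.subscheme ∧ topologicalKrullDim (I.support : Set X) = 1 ∧
      BlowUp.IsEffCartierIdeal I ∧ (I.support : Set X) = Set.range ι ∧
      ∀ M : X.Modules, PicF.IsInvertible M → pair k (ClSub.idealMod I) M = -cdeg k ι M := by
  set η := ι (genericPoint Y)
  have hr : closure ({η} : Set X) = Set.range ι := by
    rw [← Set.image_singleton, ι.isClosedEmbedding.closure_image_eq, genericPoint_closure, Set.image_univ]
  have hd : topologicalKrullDim (closure ({η} : Set X)) = 1 := by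
    rw [hr, ← AmpleDev.dim_eq_one_of_closedImmersion ι rfl, hY]
  have hI := isEffCartier_closure k hdim hd
  set I := Scheme.IdealSheafData.vanishingIdeal (Closeds.closure ({η} : Set X))
  have hs : (I.support : Set X) = Set.range ι := by
    rw [← I.range_subschemeι, H23.RedSub.range_vanishingIdeal]
    exact hr
  haveI : IsIntegral I.subscheme := QCoh.isIntegral_closure_point η
  refine ⟨I, inferInstance, hs ▸ hr ▸ hd, hI, hs, fun M hM => ?_⟩
  rw [pair_curve_self k ((S8914.result I).2 hI) hM, cdeg, cdeg]
  obtain ⟨φ⟩ := QCoh.push_structure_iso ι I.subschemeι (I.range_subschemeι.trans hs)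
  exact congrArg Neg.neg (congrArg Neg.neg (alt_congr_cl k (fun _ => rfl) (cl_eq_iff.2 ⟨φ⟩)))

end Groth.Agent.Big
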