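import Groth.Agent.Big.Values
import Groth.Agent.CurveEmbed.Pow
import Groth.Agent.FFun.Basic
import Groth.Agent.Snapper.DimVanish
import Groth.Agent.Lib.CurveDualPrep

/-!
# The pairing of sections with top cohomology
-/

set_option autoImplicit false
set_option linter.style.haveILetI false
set_option linter.unusedSectionVars false
set_option backward.isDefEq.respectTransparency false
set_option backward.isDefEq.respectTransparency.types false
set_option maxHeartbeats 1000000

universe u

open CategoryTheory CategoryTheory.Limits AlgebraicGeometry TopologicalSpace Opposite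
open Groth.Agent.H23.PicMul
open Groth.Agent.PnCoh.Finite (mapLin)

noncomputable section

namespace Groth.Agent.Big

open Groth.Agent

variable {X : Scheme.{u}} {N M P : X.Modules}

theorem ofSect_add (σ τ : Γ(N, (⊤ : X.Opens))) : InvX.ofSect (σ + τ) = InvX.ofSect σ + InvX.ofSect τ :=
  QCoh.hom_ext_app fun W g => by
    show (InvX.ofSect (σ + τ)).app W g = (InvX.ofSect σ).app W g + (InvX.ofSect τ).app W g
    rw [CurveEmbed.ofSect_app, CurveEmbed.ofSect_app, CurveEmbed.ofSect_app, map_add, smul_add]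

theorem tw_map_add (M : X.Modules) {A B : X.Modules} (f g : A ⟶ B) :
    (AmpleVan.tw M).map (f + g) = (AmpleVan.tw M).map f + (AmpleVan.tw M).map g :=
  AmpleVan.hom_ext_tmul fun U a b => by
    show _ = ((AmpleVan.tw M).map f).app U _ + ((AmpleVan.tw M).map g).app U _
    rw [AmpleVan.map_tmul_left, AmpleVan.map_tmul_left, AmpleVan.map_tmul_left, ← AmpleVan.tmul_add_left]
    rfl

variable (k : Type u) [Field k] [X.Over (Spec (CommRingCat.of k))]

theorem smulMod_app (M : X.Modules) (c : k) (U : X.Opens) (m : Γ(M, U)) :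
    (Formal.smulMod k M c).app U m =
      (show Γ(X, U) from Coh.resTop X (op U) (Coh.toGlobal (X ↘ Spec (CommRingCat.of k)) c)) • m :=
  rfl

theorem ofSect_smul (σ : Γ(N, (⊤ : X.Opens))) (c : k) :
    InvX.ofSect ((show Γ(X, ⊤) from Coh.toGlobal (X ↘ Spec (CommRingCat.of k)) c) • σ) =
      InvX.ofSect σ ≫ Formal.smulMod k N c :=
  QCoh.hom_ext_app fun W g => by
    show _ = (Formal.smulMod k N c).app W ((InvX.ofSect σ).app W g)
    rw [CurveEmbed.ofSect_app, CurveEmbed.ofSect_app, smulMod_app, AModX.res_smul, smul_comm]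
    rfl

theorem tw_map_smulMod (M A : X.Modules) (c : k) :
    (AmpleVan.tw M).map (Formal.smulMod k A c) = Formal.smulMod k ((AmpleVan.tw M).obj A) c :=
  AmpleVan.hom_ext_tmul fun U a b => by
    rw [AmpleVan.map_tmul_left, smulMod_app, smulMod_app, InvX.tmul_smul_left]

theorem mapLin_comp {A B C : X.Modules} (f : A ⟶ B) (g : B ⟶ C) (n : ℕ) (x : Coh.HH X A n) :
    mapLin k (f ≫ g) n x = mapLin k g n (mapLin k f n x) :=
  (PnCoh.Finite.map_map (Y := X.toPresheafedSpace.carrier) ((QCoh.toAbFunctor X).map_comp f g).symm n x).symm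

/-- The dimension of the second cohomology. -/
def h2 (M : X.Modules) : ℕ := Module.finrank k (Coh.HH X M 2)

theorem h2_congr_cl {M N : X.Modules} (e : PicF.cl M = PicF.cl N) : h2 k M = h2 k N :=
  (CurveCohLib.hhEquiv (k := k) (cl_eq_iff.1 e).some 2).finrank_eq

variable [IsProper (X ↘ Spec (CommRingCat.of k))]

/-- A section that is not zero hits the second cohomology. -/
theorem surjective_H2 [IsIntegral X] (hdim : topologicalKrullDim X ≤ 2) {B : X.Modules} (hB : PicF.IsInvertible B)
    (hM : PicF.IsInvertible M) (s : Coh.structureModule X ⟶ B) (hs : s ≠ 0) :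
    Function.Surjective (mapLin k ((AmpleVan.tw M).map s) 2) := by
  haveI := CurveCohLib.isNoetherian_of_proper (k := k) (X := X)
  haveI : X.IsSeparated := AmpleVan.isSeparated_of_proper (X := X) (A := k)
  haveI : Mono s := InvEnd.mono_of_ne_zero CurveDeg.isInvertible_structureModule hB s hs
  have hQ : Coh.IsCoh (cokernel s) :=
    QCoh.isCoh_cokernel QCoh.isQCoh_structureModule (AmpleVan.isCoh_invertible hB) s
  let T : Closeds X := ⟨_, QCoh.isClosed_support_of_isFT hQ.1 hQ.2⟩
  have hS := shortExact_tw (shortExact_cokernel s) hM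
  haveI : Subsingleton (Coh.HH X ((AmpleVan.tw M).obj (cokernel s)) 2) := by
    have hM' := ProjUPX.isQCoh_of_isInvertible hM
    refine Snapper.subsingleton_HH_of_dim_lt 2 T ?_ _ (KFlatLib.isQCoh_tensor hQ.1 hM') ?_ 2 le_rfl
    · have hne : (T : Set X) ≠ Set.univ := fun h => by
        obtain ⟨x, hx⟩ := Nakai.genLocus_nonempty hB s hs
        exact Nakai.support_cokernel_subset hB s (h.ge (Set.mem_univ x)) hx
      obtain ⟨e, he, hd⟩ := dim_nat_of_le hdim
      refine lt_of_lt_of_le (H23.TopDim.dim_lt_of_ssubset (Nakai.ne_top_of_dim_eq hd) T.isClosed hne) ?_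
      rw [hd]
      exact_mod_cast he
    · exact support_tensorMod_comm hM' hQ.1
  intro y
  have hy : y ∈ LinearMap.ker (mapLin k ((AmpleVan.tw M).map (cokernel.π s)) 2) :=
    LinearMap.mem_ker.2 (Subsingleton.elim _ _)
  exact (Euler.range_mapLin_f k hS 2).ge hy

/-- The map on second cohomology induced by a section of `B`. -/
def secMap (B M : X.Modules) (e : (AmpleVan.tw M).obj B ⟶ P) (t : Coh.HH X B 0) :
    Coh.HH X (CohB1.tensorMod (Coh.structureModule X) M) 2 →ₗ[k] Coh.HH X P 2 :=
  mapLin k ((AmpleVan.tw M).map (InvX.ofSect (sect B t)) ≫ e) 2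

theorem secMap_add (B M : X.Modules) (e : (AmpleVan.tw M).obj B ⟶ P) (a b : Coh.HH X B 0) :
    secMap k B M e (a + b) = secMap k B M e a + secMap k B M e b := LinearMap.ext fun x => by
  rw [LinearMap.add_apply, secMap, secMap, secMap, map_add (sect B), ofSect_add, tw_map_add, Preadditive.add_comp]
  exact CurveDuality.mapLin_add k _ _ 2 x

theorem secMap_smul (B M : X.Modules) (e : (AmpleVan.tw M).obj B ⟶ P) (c : k) (a : Coh.HH X B 0) :
    secMap k B M e (c • a) = c • secMap k B M e a := LinearMap.ext fun x => by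
  rw [LinearMap.smul_apply, secMap, secMap, sect_smul, ofSect_smul, Functor.map_comp, tw_map_smulMod]
  refine (mapLin_comp k _ e 2 x).trans ?_
  refine (congrArg (mapLin k e 2) ((mapLin_comp k _ _ 2 x).trans (FFun.mapLin_smulMod k _ c 2 _))).trans ?_
  exact ((mapLin k e 2).map_smul c _).trans (congrArg (c • ·) (mapLin_comp k _ e 2 x).symm)

omit [IsProper (X ↘ Spec (CommRingCat.of k))] in
/-- A pairing whose nonzero members are surjective. -/
theorem finrank_le_of_pairing {V E W : Type u} [AddCommGroup V] [Module k V] [AddCommGroup E] [Module k E]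
    [AddCommGroup W] [Module k W] [Module.Finite k E] (Φ : V →ₗ[k] E →ₗ[k] W)
    (h : ∀ v, v ≠ 0 → Function.Surjective (Φ v)) (hW : 0 < Module.finrank k W) :
    Module.finrank k V ≤ Module.finrank k E := by
  haveI : Nontrivial W := Module.nontrivial_of_finrank_pos hW
  obtain ⟨y, hy⟩ := exists_ne (0 : W)
  obtain ⟨lam, hlam⟩ := not_forall.1 (mt (Module.forall_dual_apply_eq_zero_iff k y).1 hy)
  have hinj : Function.Injective ((LinearMap.compRight k lam).comp Φ) := (injective_iff_map_eq_zero _).2 fun v hv => by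
    by_contra hv0
    obtain ⟨x, rfl⟩ := h v hv0 y
    exact hlam (LinearMap.congr_fun hv x)
  have := LinearMap.finrank_le_finrank_of_injective hinj
  rwa [Subspace.dual_finrank_eq] at this

/-- The pairing. -/
def secPair (B M : X.Modules) (e : (AmpleVan.tw M).obj B ⟶ P) :
    Coh.HH X B 0 →ₗ[k] Coh.HH X (CohB1.tensorMod (Coh.structureModule X) M) 2 →ₗ[k] Coh.HH X P 2 where
  toFun := secMap k B M e
  map_add' := secMap_add k B M e
  map_smul' := secMap_smul k B M e

theorem surjective_secPair [IsIntegral X] (hdim : topologicalKrullDim X ≤ 2) {B : X.Modules}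
    (hB : PicF.IsInvertible B) (hM : PicF.IsInvertible M) (e : (AmpleVan.tw M).obj B ≅ P) {t : Coh.HH X B 0}
    (ht : t ≠ 0) : Function.Surjective (secPair k B M e.hom t) := by
  have hs : InvX.ofSect (sect B t) ≠ 0 :=
    CurveEmbed.ofSect_ne_zero fun h0 => ht ((sect B).map_eq_zero_iff.1 h0)
  intro y
  obtain ⟨x, hx⟩ := surjective_H2 k hdim hB hM (InvX.ofSect (sect B t)) hs
    ((CurveCohLib.hhEquiv (k := k) e 2).symm y)
  refine ⟨x, (mapLin_comp k _ e.hom 2 x).trans ?_⟩
  exact (congrArg (mapLin k e.hom 2) hx).trans ((CurveCohLib.hhEquiv (k := k) e 2).apply_symm_apply y)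

/-- Sections inject into the dual of the second cohomology of the inverse twist. -/
theorem h0_le_h2 [IsIntegral X] (hdim : topologicalKrullDim X ≤ 2) {B : X.Modules} (hB : PicF.IsInvertible B)
    (hM : PicF.IsInvertible M) (hP : PicF.cl B * PicF.cl M = PicF.cl P) (h : 0 < h2 k P) :
    h0 k B ≤ h2 k M := by
  haveI := CurveCohLib.isNoetherian_of_proper (k := k) (X := X)
  obtain ⟨e⟩ : Nonempty ((AmpleVan.tw M).obj B ≅ P) := cl_eq_iff.1 (by
    show PicF.cl (CohB1.tensorMod B M) = _
    rw [cl_tensor, hP])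
  haveI := CurveCohLib.finite_HH (k := k) (M := CohB1.tensorMod (Coh.structureModule X) M)
    (AmpleVan.isCoh_tensor (QCoh.isCoh_structureModule' (X := X)) (AmpleVan.isCoh_invertible hM)) 2
  refine le_of_le_of_eq (finrank_le_of_pairing k (secPair k B M e.hom)
    (fun t ht => surjective_secPair k hdim hB hM e ht) h) ?_
  exact h2_congr_cl k (by rw [cl_tensor, one_mul_cl])

/-- The defect `h² - χ` grows at most by the sections of the quotient. -/
theorem h2_sub_euler_le {S : ShortComplex X.Modules} (hS : S.ShortExact) (h₁ : Coh.IsCoh S.X₁)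
    (h₂ : Coh.IsCoh S.X₂) (h₃ : Coh.IsCoh S.X₃) {T : Closeds X} (hT : CohB1.support S.X₃ ⊆ T)
    (hd : topologicalKrullDim ↥(T : Set X) ≤ (1 : ℕ)) :
    (h2 k S.X₁ : ℚ) - (Curv2.euler k X S.X₁ : ℚ) ≤
      (h2 k S.X₂ : ℚ) - (Curv2.euler k X S.X₂ : ℚ) + (h0 k S.X₃ : ℚ) := by
  haveI := CurveCohLib.isNoetherian_of_proper (k := k) (X := X)
  haveI : X.IsSeparated := AmpleVan.isSeparated_of_proper (X := X) (A := k)
  haveI := CurveCohLib.finite_HH (k := k) h₁ 2
  haveI := CurveCohLib.finite_HH (k := k) h₂ 2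
  haveI := CurveCohLib.finite_HH (k := k) h₃ 1
  have h := (mapLin k S.f 2).finrank_range_add_finrank_ker
  have hr : Module.finrank k (LinearMap.range (mapLin k S.f 2)) ≤ h2 k S.X₂ := Submodule.finrank_le _
  have hk : Module.finrank k (LinearMap.ker (mapLin k S.f 2)) ≤ Module.finrank k (Coh.HH X S.X₃ 1) := by
    rw [← Euler.range_deltaLin k hS 1]
    exact LinearMap.finrank_range_le _
  have hχ := CurveCohLib.euler_additive (k := k) hS h₁ h₂ h₃
  have hQ : Curv2.euler k X S.X₃ = (h0 k S.X₃ : ℤ) - Module.finrank k (Coh.HH X S.X₃ 1) := by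
    rw [Euler.euler_eq_sum k S.X₃ 2 fun i hi => Snapper.subsingleton_HH_of_dim_lt 2 T
      (lt_of_le_of_lt hd (by exact_mod_cast Nat.lt_succ_self 1)) _ h₃.1 hT i hi, Finset.sum_range_succ,
      Finset.sum_range_one]
    unfold h0
    ring
  have h' : (h2 k S.X₁ : ℤ) ≤ (h2 k S.X₂ : ℤ) + Module.finrank k (Coh.HH X S.X₃ 1) := by
    unfold h2 at *
    omega
  have h'' : (h2 k S.X₁ : ℤ) - Curv2.euler k X S.X₁ ≤
      (h2 k S.X₂ : ℤ) - Curv2.euler k X S.X₂ + (h0 k S.X₃ : ℤ) := by omega
  exact_mod_cast h''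

end Groth.Agent.Big
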