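import Groth.Agent.Big.Quad
import Groth.Agent.Big.Pairing
import Groth.Agent.Big.Semiample

/-!
# Sections of powers on a surface
-/

set_option autoImplicit false
set_option linter.style.haveILetI false
set_option linter.unusedSectionVars false
set_option backward.isDefEq.respectTransparency false
set_option backward.isDefEq.respectTransparency.types false
set_option maxHeartbeats 1000000

universe u

open CategoryTheory CategoryTheory.Limits AlgebraicGeometry TopologicalSpace Opposite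
open Groth.Agent.H23.PicMul

noncomputable section

namespace Groth.Agent.Big

open Groth.Agent

theorem exists_linear_lt (K m : ℚ) (hm : 0 < m) : ∃ N : ℕ, ∀ n : ℕ, N ≤ n → K < m * n := by
  obtain ⟨N, hN⟩ := exists_nat_gt (K / m)
  refine ⟨N, fun n hn => ?_⟩
  rw [div_lt_iff₀ hm] at hN
  have : (N : ℚ) ≤ n := Nat.cast_le.2 hn
  nlinarith

variable (k : Type u) [Field k] {X : Scheme.{u}} [X.Over (Spec (CommRingCat.of k))]
  [IsProper (X ↘ Spec (CommRingCat.of k))]

/-- `h⁰(M ⊗ Nⁿ ⊗ Dⁱ) ≤ C` for `i` large depending on `n`. -/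
def BoundN (N D M : X.Modules) : Prop :=
  ∃ C : ℕ, ∀ n : ℕ, ∃ i₀ : ℕ, ∀ i, i₀ ≤ i →
    h0 k (CohB1.tensorMod M (CohB1.tensorMod (CohB1.tensorPow N n) (CohB1.tensorPow D i))) ≤ C

include k in
/-- The uniform bound on integral schemes of dimension at most one. -/
theorem boundN_integral [IsIntegral X] (hdim : topologicalKrullDim X ≤ (1 : ℕ)) {A N D : X.Modules}
    (hA : CohB1.IsAmple A) (hN : PicF.IsInvertible N) (hD : PicF.IsInvertible D)
    (hAD : PicF.cl A * PicF.cl D = 1) (s : Coh.structureModule X ⟶ A) (hs : s ≠ 0) :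
    BoundN k N D (Coh.structureModule X) := by
  haveI := CurveCohLib.isNoetherian_of_proper (k := k) (X := X)
  have hR : ∀ n i : ℕ, PicF.IsInvertible (CohB1.tensorMod (CohB1.tensorPow N n) (CohB1.tensorPow D i)) :=
    fun n i => InvX.isInvertible_tensorMod (InvX.isInvertible_tensorPow hN n) (InvX.isInvertible_tensorPow hD i)
  obtain ⟨e, he, hXe⟩ := dim_nat_of_le hdim
  refine ⟨h0 k (Coh.structureModule X), fun n => ?_⟩
  rcases Nat.eq_zero_or_pos e with rfl | hepos
  · refine ⟨0, fun i _ => ?_⟩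
    rw [h0_congr_cl k (N := CohB1.tensorMod (CohB1.tensorPow N n) (CohB1.tensorPow D i))
      (by rw [cl_tensor, one_mul_cl])]
    rcases Nat.eq_zero_or_pos (h0 k (CohB1.tensorMod (CohB1.tensorPow N n) (CohB1.tensorPow D i))) with h | h
    · omega
    · obtain ⟨t, ht⟩ := exists_hom_of_h0_pos k h
      haveI : Mono t := InvEnd.mono_of_ne_zero CurveDeg.isInvertible_structureModule (hR n i) t ht
      have hQ : Coh.IsCoh (cokernel t) :=
        QCoh.isCoh_cokernel QCoh.isQCoh_structureModule (AmpleVan.isCoh_invertible (hR n i)) t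
      have hz : h0 k (cokernel t) = 0 := by
        refine CurveCohLib.finrank_HH_zero_eq_zero_of_isZero (k := k) (QCoh.isZero_of_app_eq_zero hQ.1 fun W z =>
          TopCat.Presheaf.section_ext ⟨(cokernel t).presheaf, (cokernel t).isSheaf⟩ _ _ _ fun y _ => ?_)
        suffices hsub : Subsingleton ((cokernel t).presheaf.stalk y) by exact Subsingleton.elim _ _
        by_contra hy
        obtain ⟨x, hx⟩ := Nakai.genLocus_nonempty (hR n i) t ht
        let T : Closeds X := ⟨_, QCoh.isClosed_support_of_isFT hQ.1 hQ.2⟩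
        have hne : (T : Set X) ≠ Set.univ := fun h =>
          Nakai.support_cokernel_subset (hR n i) t (h.ge (Set.mem_univ x)) hx
        have hlt := H23.TopDim.dim_lt_of_ssubset (Nakai.ne_top_of_dim_eq hXe) T.isClosed hne
        rw [hXe] at hlt
        haveI : Nonempty ↥(T : Set X) := ⟨⟨y, hy⟩⟩
        have h0 : (0 : WithBot ℕ∞) ≤ topologicalKrullDim ↥(T : Set X) := by
          haveI : Nonempty (IrreducibleCloseds ↥(T : Set X)) :=
            ⟨⟨closure {⟨y, hy⟩}, isIrreducible_singleton.closure, isClosed_closure⟩⟩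
          exact Order.krullDim_nonneg
        exact absurd hlt (not_lt.2 (by exact_mod_cast h0))
      have := h0_le_add k (shortExact_cokernel t) (AmpleVan.isCoh_invertible (hR n i)) hQ
      simp only at this
      omega
  · obtain rfl : e = 1 := le_antisymm he hepos
    obtain ⟨q, hq, hqn, n₀, hn₀⟩ := exists_poly_h0 k hA (QCoh.isCoh_structureModule' (X := X))
      (C := (⊤ : Closeds X)) (fun x _ => trivial) (d := 1)
      ((Topology.IsInducing.subtypeVal.topologicalKrullDim_le).trans hdim)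
    have hlead := coeff_pos_invertible k hXe hA CurveDeg.isInvertible_structureModule hqn
    obtain ⟨i₁, hi₁⟩ := exists_linear_lt ((h0 k (CohB1.tensorPow N n) : ℚ) - q.coeff 0) _ hlead
    refine ⟨max n₀ i₁, fun i hi => ?_⟩
    refine le_of_eq_of_le ?_ (Nat.zero_le _)
    rw [h0_congr_cl k (N := CohB1.tensorMod (CohB1.tensorPow N n) (CohB1.tensorPow D i))
      (by rw [cl_tensor, one_mul_cl])]
    by_contra hne
    obtain ⟨t, ht⟩ := exists_hom_of_h0_pos k (Nat.pos_of_ne_zero hne)
    have h1 : h0 k (CohB1.tensorMod (Coh.structureModule X) (CohB1.tensorPow A i)) ≤ h0 k (CohB1.tensorPow N n) := by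
      refine le_of_le_of_eq (h0_le_twist k (hR n i) (InvX.isInvertible_tensorPow hA.1 i) t ht) (h0_congr_cl k ?_)
      rw [cl_tensor, cl_tensor, cl_tensorPow, cl_tensorPow, cl_tensorPow, mul_assoc, ← mul_pow,
        mul_comm (PicF.cl D), hAD, one_pow, mul_one]
    have h2 := hn₀ i (le_trans (le_max_left _ _) hi)
    have h3 := hi₁ i (le_trans (le_max_right _ _) hi)
    have h4 : (h0 k (CohB1.tensorMod (Coh.structureModule X) (CohB1.tensorPow A i)) : ℚ) ≤
        (h0 k (CohB1.tensorPow N n) : ℚ) := Nat.cast_le.2 h1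
    rw [h2, Polynomial.eval_eq_sum_range' (Nat.lt_succ_of_le hq), Finset.sum_range_succ, Finset.sum_range_one] at h4
    simp only [pow_zero, pow_one, mul_one] at h4
    linarith

theorem BoundN.of_iso {N D M M' : X.Modules} (e : M ≅ M') : BoundN k N D M → BoundN k N D M' :=
  fun ⟨C, hC⟩ => ⟨C, fun n => (hC n).imp fun i₀ h i hi =>
    le_of_eq_of_le (h0_congr k ((AmpleVan.tw (CohB1.tensorMod (CohB1.tensorPow N n) (CohB1.tensorPow D i))).mapIso
      e).symm) (h i hi)⟩

theorem BoundN.zero {N D M : X.Modules} (hN : PicF.IsInvertible N) (hD : PicF.IsInvertible D) (h0 : IsZero M) :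
    BoundN k N D M :=
  ⟨0, fun n => ⟨0, fun i _ => by
    haveI := AmpleVan.isEquivalence_tw
      (InvX.isInvertible_tensorMod (InvX.isInvertible_tensorPow hN n) (InvX.isInvertible_tensorPow hD i))
    exact le_of_eq (CurveCohLib.finrank_HH_zero_eq_zero_of_isZero (k := k)
      ((AmpleVan.tw (CohB1.tensorMod (CohB1.tensorPow N n) (CohB1.tensorPow D i))).map_isZero h0))⟩⟩

theorem BoundN.ext {N D : X.Modules} (hN : PicF.IsInvertible N) (hD : PicF.IsInvertible D)
    {S : ShortComplex X.Modules} (hS : S.ShortExact) (h₂ : Coh.IsCoh S.X₂) (h₃ : Coh.IsCoh S.X₃) :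
    BoundN k N D S.X₁ → BoundN k N D S.X₃ → BoundN k N D S.X₂ :=
  fun ⟨C, hC⟩ ⟨C', hC'⟩ => ⟨C + C', fun n => by
    obtain ⟨a, ha⟩ := hC n
    obtain ⟨b, hb⟩ := hC' n
    exact ⟨max a b, fun i hi => (h0_add_tw k hS
      (InvX.isInvertible_tensorMod (InvX.isInvertible_tensorPow hN n) (InvX.isInvertible_tensorPow hD i)) h₂ h₃).trans
      (Nat.add_le_add (ha i (le_trans (le_max_left _ _) hi)) (hb i (le_trans (le_max_right _ _) hi)))⟩⟩

include k in
/-- The uniform bound pushed forward from a closed subscheme. -/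
theorem boundN_push {Z : Scheme.{u}} (i : Z ⟶ X) [IsClosedImmersion i] [Z.Over (Spec (CommRingCat.of k))]
    [IsProper (Z ↘ Spec (CommRingCat.of k))] (hi : i ≫ (X ↘ Spec (CommRingCat.of k)) = Z ↘ Spec (CommRingCat.of k))
    {N D : X.Modules} (hN : PicF.IsInvertible N) (hD : PicF.IsInvertible D) {I : Z.Modules} (hI : Coh.IsQCoh I)
    (ι : I ⟶ Coh.structureModule Z) [Mono ι]
    (hZ : BoundN k ((Scheme.Modules.pullback i).obj N) ((Scheme.Modules.pullback i).obj D) (Coh.structureModule Z)) :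
    BoundN k N D ((Coh.push i).obj I) := by
  haveI := CurveCohLib.isNoetherian_of_proper (k := k) (X := Z)
  obtain ⟨C, hC⟩ := hZ
  refine ⟨C, fun n => (hC n).imp fun i₀ h j hj => ?_⟩
  have hR := InvX.isInvertible_tensorMod (InvX.isInvertible_tensorPow hN n) (InvX.isInvertible_tensorPow hD j)
  obtain ⟨e⟩ := AmpleDev.push_tensor_iso i hR I
  obtain ⟨l⟩ := PnCoh.exists_linearEquiv_push k i hi
    (KFlatLib.isQCoh_tensor hI (ProjUPX.isQCoh_of_isInvertible (PicClLib.isInvertible_pullback i hR))) 0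
  refine le_of_eq_of_le ((h0_congr k e).trans l.finrank_eq.symm) ?_
  have hRi := InvX.isInvertible_tensorMod (InvX.isInvertible_tensorPow (PicClLib.isInvertible_pullback i hN) n)
    (InvX.isInvertible_tensorPow (PicClLib.isInvertible_pullback i hD) j)
  obtain ⟨ψ⟩ : Nonempty ((Scheme.Modules.pullback i).obj
      (CohB1.tensorMod (CohB1.tensorPow N n) (CohB1.tensorPow D j)) ≅
      CohB1.tensorMod (CohB1.tensorPow ((Scheme.Modules.pullback i).obj N) n)
        (CohB1.tensorPow ((Scheme.Modules.pullback i).obj D) j)) := cl_eq_iff.1 (by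
    show PicF.pullCl i (PicF.cl (CohB1.tensorMod _ _)) = _
    rw [cl_tensor, cl_tensor, pullCl_mul, cl_tensorPow, cl_tensorPow, cl_tensorPow, cl_tensorPow, pullCl_pow,
      pullCl_pow]
    rfl)
  refine le_trans (le_of_eq (h0_congr k (PicGrp.tensorModIso (Iso.refl I) ψ))) ?_
  haveI : Mono ((AmpleVan.tw _).map ι) := mono_tw hRi ι
  exact (h0_le_of_mono k ((AmpleVan.tw _).map ι)
    (AmpleVan.isCoh_tensor QCoh.isCoh_structureModule' (AmpleVan.isCoh_invertible hRi))).trans (h j hj)

include k in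
/-- The uniform bound for modules supported on curves. -/
theorem boundN_coh {A N D : X.Modules} (hA : CohB1.IsAmple A) (hN : PicF.IsInvertible N)
    (hD : PicF.IsInvertible D) (hAD : PicF.cl A * PicF.cl D = 1) (hgen : Gen A) {M : X.Modules} (hM : Coh.IsCoh M)
    {T : Closeds X} (hMT : CohB1.support M ⊆ T) (hd : topologicalKrullDim ↥(T : Set X) ≤ (1 : ℕ)) :
    BoundN k N D M := by
  haveI := CurveCohLib.isNoetherian_of_proper (k := k) (X := X)
  refine QCoh.devissage_ideals (BoundN k N D) (fun M M' ⟨e⟩ h => h.of_iso k e)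
    (fun M h0 => BoundN.zero k hN hD h0) (T : Set X)
    (fun S hS _ h2 h3 p1 p3 => BoundN.ext k hN hD hS h2 h3 p1 p3) ?_ hM hMT
  intro ξ hξT _ Z i hi hZ hr I ι hι hI _
  letI : Z.Over (Spec (CommRingCat.of k)) := ⟨i ≫ (X ↘ Spec (CommRingCat.of k))⟩
  haveI : IsProper (Z ↘ Spec (CommRingCat.of k)) :=
    inferInstanceAs (IsProper (i ≫ (X ↘ Spec (CommRingCat.of k))))
  haveI := CurveCohLib.isNoetherian_of_proper (k := k) (X := Z)
  haveI := hι
  have hdim : topologicalKrullDim Z ≤ (1 : ℕ) := dim_le_of_range i (hr.le.trans hξT) hd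
  obtain ⟨s, hs⟩ := hgen Z i hi hZ
  refine boundN_push k i rfl hN hD hI ι ?_
  exact boundN_integral k hdim (AmpleDev.isAmple_pullback_finite k i hA)
    (PicClLib.isInvertible_pullback i hN) (PicClLib.isInvertible_pullback i hD) (by
      show PicF.pullCl i (PicF.cl A) * PicF.pullCl i (PicF.cl D) = 1
      rw [← pullCl_mul, hAD, pullCl_one]) s hs

variable [IsIntegral X]

include k in
/-- The second cohomology of high powers vanishes. -/
theorem eventually_h2_eq_zero (hdim : topologicalKrullDim X = 2) {A N D : X.Modules} (hA : CohB1.IsAmple A)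
    (hN : PicF.IsInvertible N) (hD : PicF.IsInvertible D) (hAD : PicF.cl A * PicF.cl D = 1)
    (s : Coh.structureModule X ⟶ A) (hs : s ≠ 0) (hgen : Gen A) {c : Fin 6 → ℚ} (hc : Quad k N D c)
    (hneg : c 4 < 0) : ∃ n₀ : ℕ, ∀ n, n₀ ≤ n → h2 k (CohB1.tensorPow N n) = 0 := by
  haveI := CurveCohLib.isNoetherian_of_proper (k := k) (X := X)
  have hdim2 : topologicalKrullDim X ≤ ((2 : ℕ) : WithBot ℕ∞) := hdim.le
  haveI : Mono s := InvEnd.mono_of_ne_zero CurveDeg.isInvertible_structureModule hA.1 s hs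
  have hQ : Coh.IsCoh (cokernel s) :=
    QCoh.isCoh_cokernel QCoh.isQCoh_structureModule (AmpleVan.isCoh_invertible hA.1) s
  let T : Closeds X := ⟨_, QCoh.isClosed_support_of_isFT hQ.1 hQ.2⟩
  have hTd : topologicalKrullDim ↥(T : Set X) ≤ (1 : ℕ) := by
    have hne : (T : Set X) ≠ Set.univ := fun h => by
      obtain ⟨x, hx⟩ := Nakai.genLocus_nonempty hA.1 s hs
      exact Nakai.support_cokernel_subset hA.1 s (h.ge (Set.mem_univ x)) hx
    have hlt := H23.TopDim.dim_lt_of_ssubset (Nakai.ne_top_of_dim_eq (d := 2) hdim) T.isClosed hne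
    rw [hdim] at hlt
    exact Nakai.le_pred_of_lt hlt
  obtain ⟨C, hC⟩ := boundN_coh k hA hN hD hAD hgen hQ (T := T) subset_rfl hTd
  have hcA : Quad k A N (qflip (qswap c)) := (hc.symm k).flip k hdim2 hD hN hA.1 (by rw [mul_comm, hAD])
  obtain ⟨j₀, hj₀⟩ := AmpleVan.exists_vanishing (A := k) hA (QCoh.isCoh_structureModule' (X := X))
  have hχA : ∀ j, j₀ ≤ j → (h0 k (CohB1.tensorPow A j) : ℚ) = qf c 0 (-(j : ℚ)) := fun j hj => by
    have h := hcA j 0
    rw [qf_qflip, qf_qswap, Nat.cast_zero] at h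
    rw [← h, h0_congr_cl k (N := CohB1.tensorMod (Coh.structureModule X) (CohB1.tensorPow A j))
      (by rw [cl_tensor, one_mul_cl])]
    have e := CurveCohLib.euler_congr (k := k) (cl_eq_iff.1 (show
      PicF.cl (CohB1.tensorMod (CohB1.tensorPow A j) (CohB1.tensorPow N 0)) =
        PicF.cl (CohB1.tensorMod (Coh.structureModule X) (CohB1.tensorPow A j)) by
      rw [cl_tensor, cl_tensor, cl_tensorPow N, pow_zero, mul_one, one_mul_cl])).some
    rw [e, Euler.euler_eq_sum k (CohB1.tensorMod (Coh.structureModule X) (CohB1.tensorPow A j)) 1 fun i hi => by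
      obtain ⟨l, rfl⟩ := Nat.exists_eq_add_of_le' hi
      exact hj₀ j hj l]
    simp [h0]
  let M : ℕ → ℕ → X.Modules := fun n i => CohB1.tensorMod (CohB1.tensorPow N n) (CohB1.tensorPow D i)
  have hMi : ∀ n i, PicF.IsInvertible (M n i) := fun n i =>
    InvX.isInvertible_tensorMod (InvX.isInvertible_tensorPow hN n) (InvX.isInvertible_tensorPow hD i)
  let v : ℕ → ℕ → ℚ := fun n i => (h2 k (M n i) : ℚ) - qf c n i
  have hstep : ∀ n, ∃ i₀ : ℕ, ∀ i, i₀ ≤ i → v n (i + 1) ≤ v n i + C := fun n => by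
    obtain ⟨i₀, h⟩ := hC n
    refine ⟨i₀, fun i hi => ?_⟩
    have hS := shortExact_tw (shortExact_cokernel s) (hMi n (i + 1))
    have hMq := AmpleVan.isCoh_invertible (hMi n (i + 1))
    have hle := h2_sub_euler_le k hS (AmpleVan.isCoh_tensor QCoh.isCoh_structureModule' hMq)
      (AmpleVan.isCoh_tensor (AmpleVan.isCoh_invertible hA.1) hMq) (AmpleVan.isCoh_tensor hQ hMq) (T := T)
      ((support_tensorMod_comm hMq.1 hQ.1).trans subset_rfl) hTd
    simp only [ShortComplex.map_X₁, ShortComplex.map_X₂, ShortComplex.map_X₃] at hle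
    have e1 : PicF.cl (CohB1.tensorMod (Coh.structureModule X) (M n (i + 1))) = PicF.cl (M n (i + 1)) := by
      rw [cl_tensor, one_mul_cl]
    have e2 : PicF.cl (CohB1.tensorMod A (M n (i + 1))) = PicF.cl (M n i) := by
      show PicF.cl (CohB1.tensorMod A (CohB1.tensorMod (CohB1.tensorPow N n) (CohB1.tensorPow D (i + 1)))) =
        PicF.cl (CohB1.tensorMod (CohB1.tensorPow N n) (CohB1.tensorPow D i))
      rw [cl_tensor, cl_tensor, cl_tensor, cl_tensorPow, cl_tensorPow, cl_tensorPow, pow_succ',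
        mul_left_comm (PicF.cl A), ← mul_assoc (PicF.cl A), hAD, one_mul]
    have hb : (h0 k (CohB1.tensorMod (cokernel s) (M n (i + 1))) : ℚ) ≤ C :=
      Nat.cast_le.2 (h (i + 1) (Nat.le_succ_of_le hi))
    have f1 : h2 k ((AmpleVan.tw (M n (i + 1))).obj (Coh.structureModule X)) = h2 k (M n (i + 1)) := h2_congr_cl k e1
    have f2 : h2 k ((AmpleVan.tw (M n (i + 1))).obj A) = h2 k (M n i) := h2_congr_cl k e2
    have g1 : (Curv2.euler k X ((AmpleVan.tw (M n (i + 1))).obj (Coh.structureModule X)) : ℚ) =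
        qf c n (i + 1 : ℕ) := by
      rw [← hc n (i + 1)]
      exact congrArg Int.cast (CurveCohLib.euler_congr (k := k) (cl_eq_iff.1 e1).some)
    have g2 : (Curv2.euler k X ((AmpleVan.tw (M n (i + 1))).obj A) : ℚ) = qf c n i := by
      rw [← hc n i]
      exact congrArg Int.cast (CurveCohLib.euler_congr (k := k) (cl_eq_iff.1 e2).some)
    rw [f1, f2, g1, g2] at hle
    show (h2 k (M n (i + 1)) : ℚ) - qf c n (i + 1 : ℕ) ≤ (h2 k (M n i) : ℚ) - qf c n i + C
    exact hle.trans (add_le_add le_rfl hb)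
  have hlow : ∀ n, 0 < h2 k (CohB1.tensorPow N n) → ∀ j, j₀ ≤ j →
      qf c 0 (-(j : ℚ)) - qf c n j ≤ v n j := fun n hn j hj => by
    have h := h0_le_h2 k hdim2 (InvX.isInvertible_tensorPow hA.1 j) (hMi n j) (P := CohB1.tensorPow N n) (by
      rw [cl_tensor, cl_tensorPow, cl_tensorPow, cl_tensorPow, mul_left_comm, ← mul_pow, hAD, one_pow, mul_one]) hn
    have h' : (h0 k (CohB1.tensorPow A j) : ℚ) ≤ (h2 k (M n j) : ℚ) := Nat.cast_le.2 h
    rw [hχA j hj] at h'
    show _ ≤ (h2 k (M n j) : ℚ) - qf c n j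
    linarith
  obtain ⟨n₀, hn₀⟩ := exists_linear_lt (2 * c 2 + C) (-c 4) (neg_pos.2 hneg)
  refine ⟨n₀, fun n hn => ?_⟩
  by_contra hne
  obtain ⟨i₀, hi₀⟩ := hstep n
  have hup : ∀ t : ℕ, v n (i₀ + t) ≤ v n i₀ + C * (t : ℚ) := fun t => by
    induction t with
    | zero => simp
    | succ t ih =>
      refine (hi₀ (i₀ + t) (Nat.le_add_right _ _)).trans ?_
      push_cast
      linarith
  obtain ⟨J, hJ⟩ := exists_linear_lt (v n i₀ - C * (i₀ : ℚ) + c 1 * n + c 3 * (n : ℚ) ^ 2)
    (-(2 * c 2 + c 4 * n + C)) (by linarith [hn₀ n hn])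
  have hjle : i₀ ≤ max (max i₀ j₀) J := le_trans (le_max_left _ _) (le_max_left _ _)
  obtain ⟨t, ht⟩ := Nat.exists_eq_add_of_le hjle
  have h1 := hlow n (Nat.pos_of_ne_zero hne) (i₀ + t) (ht ▸ le_trans (le_max_right _ _) (le_max_left _ _))
  have h2' := hup t
  have h3 := hJ (i₀ + t) (ht ▸ le_max_right _ _)
  simp only [qf, Nat.cast_add] at h1 h3
  nlinarith

include k in
/-- `χ ≤ h⁰` when the second cohomology vanishes. -/
theorem euler_le_h0 (hdim : topologicalKrullDim X ≤ (2 : ℕ)) {M : X.Modules} (hM : PicF.IsInvertible M)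
    (h : h2 k M = 0) : (Curv2.euler k X M : ℚ) ≤ (h0 k M : ℚ) := by
  haveI := CurveCohLib.isNoetherian_of_proper (k := k) (X := X)
  haveI : X.IsSeparated := AmpleVan.isSeparated_of_proper (X := X) (A := k)
  rw [Euler.euler_eq_sum k M 3 fun i hi =>
    Snapper.subsingleton_HH_of_dim_le hdim (ProjUPX.isQCoh_of_isInvertible hM) hi, Finset.sum_range_succ,
    Finset.sum_range_succ, Finset.sum_range_one]
  unfold h2 at h
  rw [h]
  push_cast
  unfold h0
  linarith [Nat.cast_nonneg (α := ℚ) (Module.finrank k (Coh.HH X M 1))]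

include k in
/-- Positivity against an ample module gives quadratic growth of sections. -/
theorem exists_growth_of_quad (hdim : topologicalKrullDim X = 2) {H N : X.Modules} (hH : CohB1.IsAmple H)
    (hN : PicF.IsInvertible N) {c : Fin 6 → ℚ} (hc : Quad k N H c) (h3 : 0 < c 3) (h4 : 0 < c 4) :
    ∃ n₀ : ℕ, ∀ n : ℕ, n₀ ≤ n → c 3 / 2 * (n : ℚ) ^ 2 < (h0 k (CohB1.tensorPow N n) : ℚ) := by
  haveI := CurveCohLib.isNoetherian_of_proper (k := k) (X := X)
  haveI : CompactSpace X := QuasiCompact.compactSpace_of_compactSpace (X ↘ Spec (CommRingCat.of k))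
  haveI : X.IsSeparated := AmpleVan.isSeparated_of_proper (X := X) (A := k)
  have hdim2 : topologicalKrullDim X ≤ ((2 : ℕ) : WithBot ℕ∞) := hdim.le
  obtain ⟨a, ha, κ, _, σ, -, -, hcov⟩ := AmpleX.exists_cover_genLocus hH
  have hA := AmpleX.isAmple_tensorPow hH ha
  obtain ⟨j, hj⟩ := hcov (genericPoint X)
  have hgen : Gen (CohB1.tensorPow H a) := fun Z i hi hZ => by
    haveI := hZ
    obtain ⟨j, hj⟩ := hcov (i (genericPoint Z))
    obtain ⟨e⟩ := PicClLib.nonempty_pullback_structureModule i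
    refine ⟨e.inv ≫ (Scheme.Modules.pullback i).map (σ j), Nakai.ne_zero_of_mem_genLocus (x := genericPoint Z) ?_⟩
    have h := InvX.genLocus_pullback i (InvX.isInvertible_tensorPow hH.1 a) (σ j) e.symm
    rw [show e.symm.hom = e.inv from rfl] at h
    rw [h]
    exact hj
  obtain ⟨D, hD, ⟨δ⟩⟩ := H23.PicInv.exists_inverse hA.1
  have hAD : PicF.cl (CohB1.tensorPow H a) * PicF.cl D = 1 := by
    rw [← cl_tensor, cl_eq_iff.2 ⟨δ⟩, H23.PicMul.one_def]
  have hcA := hc.pow k a
  have hcD : Quad k N D (qswap (qflip (qswap (qscale c a)))) :=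
    ((hcA.symm k).flip k hdim2 hA.1 hN hD hAD).symm k
  obtain ⟨n₀, hn₀⟩ := eventually_h2_eq_zero k hdim hA hN hD hAD (σ j) (Nakai.ne_zero_of_mem_genLocus hj) hgen hcD
    (by
      have : (0 : ℚ) < a := by exact_mod_cast ha
      simp only [qswap, qflip, qscale, Matrix.cons_val]
      nlinarith)
  obtain ⟨K, hK⟩ := exists_linear_lt (|c 1| + |c 0|) (c 3 / 2) (by linarith)
  refine ⟨max (max n₀ K) 1, fun n hn => ?_⟩
  have hn1 : (1 : ℚ) ≤ n := by exact_mod_cast le_trans (le_max_right _ _) hn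
  have h := euler_le_h0 k hdim2 (InvX.isInvertible_tensorPow hN n)
    (hn₀ n (le_trans (le_trans (le_max_left _ _) (le_max_left _ _)) hn))
  have e : (Curv2.euler k X (CohB1.tensorPow N n) : ℚ) = qf c n 0 := by
    rw [← Nat.cast_zero, ← hc n 0]
    exact congrArg Int.cast (CurveCohLib.euler_congr (k := k) ((cl_eq_iff.1 (by
      rw [cl_tensor, cl_tensorPow H, pow_zero, mul_one])).some))
  rw [e] at h
  refine lt_of_lt_of_le ?_ h
  have hk := hK n (le_trans (le_trans (le_max_right _ _) (le_max_left _ _)) hn)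
  simp only [qf, mul_zero, add_zero, zero_pow two_ne_zero]
  nlinarith [neg_abs_le (c 1), neg_abs_le (c 0), abs_nonneg (c 0)]

include k in
/-- An effective power with positive square has positive degree against ample modules. -/
theorem quad_pos_of_section (hdim : topologicalKrullDim X = 2) {H N : X.Modules} (hH : CohB1.IsAmple H)
    (hN : PicF.IsInvertible N) {c : Fin 6 → ℚ} (hc : Quad k N H c) (h3 : 0 < c 3) {n : ℕ} (hn : 0 < n)
    (hsec : 0 < h0 k (CohB1.tensorPow N n)) : 0 < c 4 := by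
  haveI := CurveCohLib.isNoetherian_of_proper (k := k) (X := X)
  have hdim2 : topologicalKrullDim X ≤ ((2 : ℕ) : WithBot ℕ∞) := hdim.le
  obtain ⟨s, hs⟩ := exists_hom_of_h0_pos k hsec
  have hP := InvX.isInvertible_tensorPow hN n
  haveI : Mono s := InvEnd.mono_of_ne_zero CurveDeg.isInvertible_structureModule hP s hs
  have hQ : Coh.IsCoh (cokernel s) := QCoh.isCoh_cokernel QCoh.isQCoh_structureModule (AmpleVan.isCoh_invertible hP) s
  let T : Closeds X := ⟨_, QCoh.isClosed_support_of_isFT hQ.1 hQ.2⟩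
  have hTd : topologicalKrullDim ↥(T : Set X) ≤ ((1 : ℕ) : WithBot ℕ∞) := by
    have hne : (T : Set X) ≠ Set.univ := fun h => by
      obtain ⟨x, hx⟩ := Nakai.genLocus_nonempty hP s hs
      exact Nakai.support_cokernel_subset hP s (h.ge (Set.mem_univ x)) hx
    have hlt := H23.TopDim.dim_lt_of_ssubset (Nakai.ne_top_of_dim_eq (d := 2) hdim) T.isClosed hne
    rw [hdim] at hlt
    exact Nakai.le_pred_of_lt hlt
  have hadd : ∀ (L : X.Modules), PicF.IsInvertible L → ∀ a : ℕ,
      Snapper.χ k L (cokernel s) a = (Curv2.euler k X (CohB1.tensorMod (CohB1.tensorPow N n) (CohB1.tensorPow L a)) : ℚ)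
        - (Curv2.euler k X (CohB1.tensorPow L a) : ℚ) := fun L hL a => by
    have h := congrFun (Snapper.χ_add k hL (shortExact_cokernel s) (QCoh.isCoh_structureModule' (X := X))
      (AmpleVan.isCoh_invertible hP) hQ) a
    simp only [Pi.add_apply] at h
    have e : Snapper.χ k L (Coh.structureModule X) a = (Curv2.euler k X (CohB1.tensorPow L a) : ℚ) :=
      congrArg Int.cast (CurveCohLib.euler_congr (k := k) (cl_eq_iff.1 (by
        show PicF.cl (CohB1.tensorMod (Coh.structureModule X) (CohB1.tensorPow L a)) = _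
        rw [cl_tensor, one_mul_cl])).some)
    have e2 : Snapper.χ k L (CohB1.tensorPow N n) a =
        (Curv2.euler k X (CohB1.tensorMod (CohB1.tensorPow N n) (CohB1.tensorPow L a)) : ℚ) := rfl
    rw [e, e2] at h
    linarith
  have hN0 : ∀ a : ℕ, (Curv2.euler k X (CohB1.tensorPow N a) : ℚ) = qf c a 0 := fun a => by
    rw [← Nat.cast_zero, ← hc a 0]
    exact congrArg Int.cast (CurveCohLib.euler_congr (k := k) ((cl_eq_iff.1 (by
      rw [cl_tensor, cl_tensorPow H, pow_zero, mul_one])).some))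
  let qN : Polynomial ℚ := Polynomial.C (c 1 * n + c 3 * (n : ℚ) ^ 2) + Polynomial.C (2 * c 3 * n) * Polynomial.X
  let qH : Polynomial ℚ := Polynomial.C (c 1 * n + c 3 * (n : ℚ) ^ 2) + Polynomial.C (c 4 * n) * Polynomial.X
  have hqN : ∀ a : ℕ, Snapper.χ k N (cokernel s) a = qN.eval (a : ℚ) := fun a => by
    have e : (Curv2.euler k X (CohB1.tensorMod (CohB1.tensorPow N n) (CohB1.tensorPow N a)) : ℚ) =
        qf c (n + a : ℕ) 0 := by
      rw [← hN0 (n + a)]
      exact congrArg Int.cast (CurveCohLib.euler_congr (k := k) ((cl_eq_iff.1 (by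
        rw [cl_tensor, cl_tensorPow, cl_tensorPow, cl_tensorPow, pow_add])).some))
    rw [hadd N hN, e, hN0]
    simp [qN, qf]
    ring
  have hqH : ∀ a : ℕ, Snapper.χ k H (cokernel s) a = qH.eval (a : ℚ) := fun a => by
    have e : (Curv2.euler k X (CohB1.tensorPow H a) : ℚ) = qf c 0 a := by
      rw [← Nat.cast_zero, ← hc 0 a]
      exact congrArg Int.cast (CurveCohLib.euler_congr (k := k) ((cl_eq_iff.1 (by
        rw [cl_tensor, cl_tensorPow N, pow_zero, one_mul])).some))
    rw [hadd H hH.1, hc n a, e]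
    simp [qH, qf]
    ring
  have hnq : (0 : ℚ) < n := by exact_mod_cast hn
  have hco : ∀ u v : ℚ, (Polynomial.C u + Polynomial.C v * Polynomial.X).coeff 1 = v := fun u v => by
    rw [Polynomial.coeff_add, Polynomial.coeff_C_mul, Polynomial.coeff_X_one, Polynomial.coeff_C_of_ne_zero one_ne_zero,
      zero_add, mul_one]
  have hN1 : qN.coeff 1 ≠ 0 := by
    rw [show qN.coeff 1 = 2 * c 3 * n from hco _ _]
    exact (mul_pos (mul_pos two_pos h3) hnq).ne'
  obtain ⟨V, i, hi, hV, hVT, hVd, -⟩ := exists_component k hN hQ hTd subset_rfl hqN hN1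
  haveI := hi
  haveI := hV
  have hη : topologicalKrullDim (closure ({i (genericPoint V)} : Set X)) = ((1 : ℕ) : WithBot ℕ∞) := by
    have hcl : closure ({i (genericPoint V)} : Set X) = Set.range i := by
      rw [← Set.image_singleton, i.isClosedEmbedding.closure_image_eq, genericPoint_closure, Set.image_univ]
    rw [hcl, ← hVd]
    exact (AmpleDev.dim_eq_one_of_closedImmersion i rfl).symm
  have hpos : 0 < qH.coeff 1 := by
    refine Nakai.coeff_pos_of_components k hH.1 hQ (C := T) hTd subset_rfl hqH (fun ξ hξ p hp hpn => ?_)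
      (η := i (genericPoint V)) (hVT ⟨_, rfl⟩) hη
    let W := Scheme.IdealSheafData.vanishingIdeal (⟨closure ({ξ} : Set X), isClosed_closure⟩ : Closeds X)
    letI : W.subscheme.Over (Spec (CommRingCat.of k)) := ⟨W.subschemeι ≫ (X ↘ Spec (CommRingCat.of k))⟩
    haveI : IsProper (W.subscheme ↘ Spec (CommRingCat.of k)) :=
      inferInstanceAs (IsProper (W.subschemeι ≫ (X ↘ Spec (CommRingCat.of k))))
    haveI : IsIntegral W.subscheme := QCoh.isIntegral_closure_point ξ
    refine Nakai.coeff_pos_of_isAmple_integral k 1 ?_ (AmpleDev.isAmple_pullback_finite k W.subschemeι hH) p hp fun m =>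
      (Nakai.χ_push k W.subschemeι rfl hH.1 QCoh.isQCoh_structureModule m).symm.trans (hpn m)
    rw [AmpleDev.dim_eq_one_of_closedImmersion W.subschemeι (H23.RedSub.range_vanishingIdeal _)]
    exact hξ
  rw [show qH.coeff 1 = c 4 * n from hco _ _] at hpos
  exact pos_of_mul_pos_left hpos hnq.le

end Groth.Agent.Big

namespace Groth.Agent.Big

open Groth.Agent

variable (k : Type u) [Field k] {X : Scheme.{u}} [X.Over (Spec (CommRingCat.of k))]
  [IsProper (X ↘ Spec (CommRingCat.of k))]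

theorem cl_mul_eq_one {X : Scheme.{u}} {L L' : X.Modules} (h : Nonempty (CohB1.tensorMod L L' ≅ Coh.structureModule X)) :
    PicF.cl L * PicF.cl L' = 1 := by
  rw [← cl_tensor, H23.PicMul.one_def]
  exact cl_eq_iff.2 h

include k in
/-- The pairing is read off equally from the inverses. -/
theorem quad_inverses (hdim : topologicalKrullDim X = 2) {L L' M M' : X.Modules} (hL : PicF.IsInvertible L)
    (hL' : PicF.IsInvertible L') (hLL' : PicF.cl L * PicF.cl L' = 1) (hM : PicF.IsInvertible M)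
    (hM' : PicF.IsInvertible M') (hMM' : PicF.cl M * PicF.cl M' = 1) {c : Fin 6 → ℚ} (hc : Quad k L M c) :
    (FGA.intNum k X 2 ![L', L'] (Coh.structureModule X) : ℚ) = 2 * c 3 ∧
      (FGA.intNum k X 2 ![L', M'] (Coh.structureModule X) : ℚ) = c 4 := by
  have hdim2 : topologicalKrullDim X ≤ ((2 : ℕ) : WithBot ℕ∞) := hdim.le
  have h := (((hc.flip k hdim2 hL hM hL' hLL').symm k).flip k hdim2 hM hL' hM' hMM').symm k
  rw [intNum_self_eq k hdim2 hL' h, intNum_eq_quad k hdim2 hL' hM' h]
  simp [qflip, qswap]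

end Groth.Agent.Big
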