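import Groth.Agent.Big.Alt
import Groth.Agent.Big.Surface
import Groth.Agent.AmpleX.Generated
import Groth.Agent.AmpleNeg.Basic
import Groth.Agent.Lib.AVAmple

/-!
# The pairing on a surface and the index inequality
-/

set_option autoImplicit false
set_option linter.style.haveILetI false
set_option linter.unusedSectionVars false
set_option backward.isDefEq.respectTransparency false
set_option backward.isDefEq.respectTransparency.types false
set_option maxHeartbeats 1000000

universe u

open CategoryTheory CategoryTheory.Limits AlgebraicGeometry TopologicalSpace Opposite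
open Groth.Agent.H23.PicMul

noncomputable section

namespace Groth.Agent.Big

open Groth.Agent

variable (k : Type u) [Field k] {X : Scheme.{u}} [X.Over (Spec (CommRingCat.of k))]
  [IsProper (X ↘ Spec (CommRingCat.of k))]

/-- The intersection pairing of a surface. -/
def pair (L M : X.Modules) : ℚ := alt k ![L, M] (Coh.structureModule X)

variable {L M A H : X.Modules}

theorem inv_pair (hL : PicF.IsInvertible L) (hM : PicF.IsInvertible M) :
    ∀ i, PicF.IsInvertible ((![L, M] : Fin 2 → X.Modules) i) :=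
  Fin.forall_fin_two.2 ⟨hL, hM⟩

theorem intNum_eq_pair (hdim : topologicalKrullDim X ≤ 2) (hL : PicF.IsInvertible L) (hM : PicF.IsInvertible M) :
    (FGA.intNum k X 2 ![L, M] (Coh.structureModule X) : ℚ) = pair k L M := by
  haveI := CurveCohLib.isNoetherian_of_proper (k := k) (X := X)
  exact intNum_eq_alt k hdim (inv_pair hL hM) QCoh.isCoh_structureModule'

theorem pair_symm : pair k L M = pair k M L := by
  rw [pair, pair, ← alt_perm k (Equiv.swap (0 : Fin 2) 1) ![L, M]]
  refine alt_congr_cl k (fun i => ?_) rfl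
  fin_cases i <;> rfl

theorem pair_congr {L' : X.Modules} (h : PicF.cl L = PicF.cl L') : pair k L M = pair k L' M :=
  alt_congr_cl k (Fin.forall_fin_two.2 ⟨h, rfl⟩) rfl

theorem pair_add (hdim : topologicalKrullDim X ≤ 2) {L' : X.Modules} (hL : PicF.IsInvertible L)
    (hL' : PicF.IsInvertible L') (hM : PicF.IsInvertible M) :
    pair k (CohB1.tensorMod L L') M = pair k L M + pair k L' M := by
  haveI := CurveCohLib.isNoetherian_of_proper (k := k) (X := X)
  exact alt_cons_tensor k (M := ![M]) (fun i => by fin_cases i; exact hM) QCoh.isCoh_structureModule' hL hL'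
    ((topologicalKrullDim_subspace_le X _).trans hdim)

theorem pair_one (hdim : topologicalKrullDim X ≤ 2) (hM : PicF.IsInvertible M) :
    pair k (Coh.structureModule X) M = 0 := by
  have h := pair_add k hdim (CurveDeg.isInvertible_structureModule (X := X))
    (CurveDeg.isInvertible_structureModule (X := X)) hM
  rw [pair_congr k (L' := Coh.structureModule X) (by rw [cl_tensor, one_mul_cl])] at h
  linarith

theorem pair_pow (hdim : topologicalKrullDim X ≤ 2) (hL : PicF.IsInvertible L) (hM : PicF.IsInvertible M) :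
    ∀ n : ℕ, pair k (CohB1.tensorPow L n) M = n * pair k L M
  | 0 => by
    rw [pair_congr k (L' := Coh.structureModule X) (by rw [cl_tensorPow, pow_zero, H23.PicMul.one_def]),
      pair_one k hdim hM, Nat.cast_zero, zero_mul]
  | n + 1 => by
    rw [pair_congr k (L' := CohB1.tensorMod (CohB1.tensorPow L n) L) (by rw [cl_tensor, cl_tensorPow, cl_tensorPow, pow_succ]),
      pair_add k hdim (InvX.isInvertible_tensorPow hL n) hL hM, pair_pow hdim hL hM n, Nat.cast_succ]
    ring

theorem pair_inverse (hdim : topologicalKrullDim X ≤ 2) {D : X.Modules} (hL : PicF.IsInvertible L)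
    (hD : PicF.IsInvertible D) (hLD : PicF.cl L * PicF.cl D = 1) (hM : PicF.IsInvertible M) :
    pair k D M = -pair k L M := by
  have h := pair_add k hdim hL hD hM
  rw [pair_congr k (L' := Coh.structureModule X) (by rw [cl_tensor, hLD, H23.PicMul.one_def]),
    pair_one k hdim hM] at h
  linarith

/-- A module pairing as an integral multiple of `L`. -/
theorem exists_smul (hdim : topologicalKrullDim X ≤ 2) (hL : PicF.IsInvertible L) (a : ℤ) :
    ∃ P : X.Modules, PicF.IsInvertible P ∧
      ∀ M, PicF.IsInvertible M → pair k P M = (a : ℚ) * pair k L M := by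
  obtain ⟨D, hD, ⟨δ⟩⟩ := H23.PicInv.exists_inverse hL
  have hLD : PicF.cl L * PicF.cl D = 1 := cl_mul_eq_one ⟨δ⟩
  obtain ⟨n, rfl | rfl⟩ := Int.eq_nat_or_neg a
  · exact ⟨_, InvX.isInvertible_tensorPow hL n, fun M hM => by rw [pair_pow k hdim hL hM n, Int.cast_natCast]⟩
  · exact ⟨_, InvX.isInvertible_tensorPow hD n, fun M hM => by
      rw [pair_pow k hdim hD hM n, pair_inverse k hdim hL hD hLD hM]; push_cast; ring⟩

theorem pair_eq_of_quad (hdim : topologicalKrullDim X ≤ 2) (hL : PicF.IsInvertible L) (hM : PicF.IsInvertible M)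
    {c : Fin 6 → ℚ} (hc : Quad k L M c) : pair k L M = c 4 ∧ pair k L L = 2 * c 3 :=
  ⟨(intNum_eq_pair k hdim hL hM).symm.trans (intNum_eq_quad k hdim hL hM hc),
    (intNum_eq_pair k hdim hL hL).symm.trans (intNum_self_eq k hdim hL hc)⟩

omit [Field k] [X.Over (Spec (CommRingCat.of k))] [IsProper (X ↘ Spec (CommRingCat.of k))] in
/-- The hyperplane class is ample. -/
theorem isAmple_hyperplane (n : ℕ) (K : Type u) [Field K] : CohB1.IsAmple (Twist.twistProjSpace n K 1) := by
  classical
  let T : Finset (MvPolynomial (Fin (n + 1)) K) := Finset.univ.image MvPolynomial.X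
  refine AmpleX.isAmple_twist_one _ T (fun g hg => ?_) ?_
  · obtain ⟨i, -, rfl⟩ := Finset.mem_image.1 hg
    exact ProjPt.X_mem i
  · refine Proj.iSup_basicOpen_eq_top _ _ ((SegreX.irrelevant_le_span n K).trans ?_)
    refine Ideal.span_mono ?_
    rintro _ ⟨i, rfl⟩
    exact ⟨⟨_, Finset.mem_image.2 ⟨i, Finset.mem_univ _, rfl⟩⟩, rfl⟩

variable [IsIntegral X]

include k in
/-- The square of an ample module is positive. -/
theorem pair_self_pos (hdim : topologicalKrullDim X = 2) (hH : CohB1.IsAmple H) : 0 < pair k H H := by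
  haveI := CurveCohLib.isNoetherian_of_proper (k := k) (X := X)
  obtain ⟨c, hc⟩ := exists_quad k hdim.le hH.1 hH.1
  rw [(pair_eq_of_quad k hdim.le hH.1 hH.1 hc).2]
  let q : Polynomial ℚ := Polynomial.C (c 0) + Polynomial.C (c 1) * Polynomial.X + Polynomial.C (c 3) * Polynomial.X ^ 2
  have hq : ∀ n : ℕ, Snapper.χ k H (Coh.structureModule X) n = q.eval (n : ℚ) := fun n => by
    have e : q.eval (n : ℚ) = qf c n (0 : ℕ) := by simp [q, qf]
    rw [e, ← hc n 0]
    exact congrArg Int.cast (CurveCohLib.euler_congr (k := k) ((cl_eq_iff.1 (by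
      show PicF.cl (CohB1.tensorMod _ _) = _
      rw [cl_tensor, cl_tensor, one_mul_cl, cl_tensorPow H 0, pow_zero, mul_one])).some))
  have h := coeff_pos_invertible k (d := 2) hdim hH CurveDeg.isInvertible_structureModule hq
  have hc3 : q.coeff 2 = c 3 := by simp [q]
  rw [hc3] at h
  linarith

include k in
/-- The index inequality. -/
theorem pair_self_nonpos (hdim : topologicalKrullDim X = 2) (hH : CohB1.IsAmple H) (hL : PicF.IsInvertible L)
    (h0 : pair k L H = 0) : pair k L L ≤ 0 := by
  haveI := CurveCohLib.isNoetherian_of_proper (k := k) (X := X)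
  haveI : CompactSpace X := QuasiCompact.compactSpace_of_compactSpace (X ↘ Spec (CommRingCat.of k))
  haveI : X.IsSeparated := AmpleVan.isSeparated_of_proper (X := X) (A := k)
  by_contra hne
  push Not at hne
  obtain ⟨s, -, hs⟩ := AmpleX.eventually_ample_tensor hH hL
  obtain ⟨hA, -⟩ := hs s le_rfl
  obtain ⟨c, hc⟩ := exists_quad k hdim.le hL hA.1
  obtain ⟨e4, e3⟩ := pair_eq_of_quad k hdim.le hL hA.1 hc
  have h4 : 0 < c 4 := by
    rw [← e4, pair_symm, pair_add k hdim.le (InvX.isInvertible_tensorPow hH.1 s) hL hL,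
      pair_pow k hdim.le hH.1 hL, pair_symm k (L := H), h0, mul_zero, zero_add]
    exact hne
  obtain ⟨n₀, hn⟩ := exists_growth_of_quad k hdim hA hL hc (by linarith) h4
  obtain ⟨c', hc'⟩ := exists_quad k hdim.le hL hH.1
  obtain ⟨e4', e3'⟩ := pair_eq_of_quad k hdim.le hL hH.1 hc'
  have h' : (0 : ℚ) ≤ c 3 / 2 * ((n₀ + 1 : ℕ) : ℚ) ^ 2 :=
    mul_nonneg (by linarith) (by positivity)
  have := quad_pos_of_section k hdim hH hL hc' (by linarith) (n := n₀ + 1) (Nat.succ_pos _)
    (by exact_mod_cast lt_of_le_of_lt h' (hn (n₀ + 1) (Nat.le_succ _)))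
  linarith

include k in
/-- The orthogonal of a class of positive square is negative semidefinite. -/
theorem pair_self_nonpos_of_orth (hdim : topologicalKrullDim X = 2) (hH : CohB1.IsAmple H)
    (hL : PicF.IsInvertible L) (hM : PicF.IsInvertible M) (hpos : 0 < pair k L L) (h0 : pair k L M = 0) :
    pair k M M ≤ 0 := by
  by_contra hne
  push Not at hne
  obtain ⟨x, hx⟩ : ∃ x : ℤ, (x : ℚ) = pair k L H := ⟨_, intNum_eq_pair k hdim.le hL hH.1⟩
  obtain ⟨y, hy⟩ : ∃ y : ℤ, (y : ℚ) = pair k M H := ⟨_, intNum_eq_pair k hdim.le hM hH.1⟩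
  obtain ⟨P, hP, hPe⟩ := exists_smul k hdim.le hL y
  obtain ⟨Q, hQ, hQe⟩ := exists_smul k hdim.le hM (-x)
  have hN := InvX.isInvertible_tensorMod hP hQ
  have hN0 : pair k (CohB1.tensorMod P Q) H = 0 := by
    rw [pair_add k hdim.le hP hQ hH.1, hPe H hH.1, hQe H hH.1, Int.cast_neg, hx, hy]
    ring
  have h := pair_self_nonpos k hdim hH hN hN0
  have e : pair k (CohB1.tensorMod P Q) (CohB1.tensorMod P Q) = (y : ℚ) ^ 2 * pair k L L + (x : ℚ) ^ 2 * pair k M M := by
    rw [pair_add k hdim.le hP hQ hN, hPe _ hN, hQe _ hN, pair_symm k (L := L), pair_symm k (L := M),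
      pair_add k hdim.le hP hQ hL, pair_add k hdim.le hP hQ hM, hPe L hL, hQe L hL, hPe M hM, hQe M hM,
      pair_symm k (L := M) (M := L), h0]
    push_cast
    ring
  rw [e] at h
  have hx0 : (x : ℚ) ^ 2 * pair k M M = 0 := by
    nlinarith [mul_nonneg (sq_nonneg (y : ℚ)) hpos.le, mul_nonneg (sq_nonneg (x : ℚ)) hne.le]
  rcases mul_eq_zero.1 hx0 with hx' | hM0
  · have := pair_self_nonpos k hdim hH hL (by rw [← hx]; exact (pow_eq_zero_iff two_ne_zero).1 hx')
    linarith
  · linarith

include k in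
/-- `(D·D)(H·H) ≤ (D·H)²`. -/
theorem pair_index_le (hdim : topologicalKrullDim X = 2) (hH : CohB1.IsAmple H) (hL : PicF.IsInvertible L) :
    pair k L L * pair k H H ≤ pair k L H ^ 2 := by
  obtain ⟨x, hx⟩ : ∃ x : ℤ, (x : ℚ) = pair k L H := ⟨_, intNum_eq_pair k hdim.le hL hH.1⟩
  obtain ⟨y, hy⟩ : ∃ y : ℤ, (y : ℚ) = pair k H H := ⟨_, intNum_eq_pair k hdim.le hH.1 hH.1⟩
  obtain ⟨P, hP, hPe⟩ := exists_smul k hdim.le hL y
  obtain ⟨Q, hQ, hQe⟩ := exists_smul k hdim.le hH.1 (-x)
  have hN := InvX.isInvertible_tensorMod hP hQ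
  have h := pair_self_nonpos k hdim hH hN (by
    rw [pair_add k hdim.le hP hQ hH.1, hPe H hH.1, hQe H hH.1, Int.cast_neg, hx, hy]
    ring)
  rw [pair_add k hdim.le hP hQ hN, hPe _ hN, hQe _ hN, pair_symm k (L := L), pair_symm k (L := H),
    pair_add k hdim.le hP hQ hL, pair_add k hdim.le hP hQ hH.1, hPe L hL, hQe L hL, hPe H hH.1, hQe H hH.1,
    pair_symm k (L := H) (M := L)] at h
  push_cast at h
  rw [hx, hy] at h
  have hp := pair_self_pos k hdim hH
  nlinarith

end Groth.Agent.Big
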