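import Groth.Agent.Big.Basic
import Groth.Agent.H23.PicInv
import Groth.Agent.Lib.CurveTensor
import Groth.Agent.AmpleX.QuasiAffine

/-!
# Kodaira's lemma
-/

set_option autoImplicit false
set_option linter.style.haveILetI false
set_option linter.unusedSectionVars false
set_option backward.isDefEq.respectTransparency false
set_option backward.isDefEq.respectTransparency.types false
set_option maxHeartbeats 1000000

universe u

open CategoryTheory CategoryTheory.Limits AlgebraicGeometry TopologicalSpace Opposite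
open Groth.Agent.H23.PicMul

noncomputable section

namespace Groth.Agent.Big

open Groth.Agent

variable (k : Type u) [Field k] {X : Scheme.{u}} [X.Over (Spec (CommRingCat.of k))]
  [IsProper (X ↘ Spec (CommRingCat.of k))]

omit [Field k] [X.Over (Spec (CommRingCat.of k))] [IsProper (X ↘ Spec (CommRingCat.of k))] in
theorem one_mul_cl (c : PicF.Cl X) : PicF.cl (Coh.structureModule X) * c = c := by
  rw [← H23.PicMul.one_def, one_mul]

omit [Field k] [X.Over (Spec (CommRingCat.of k))] [IsProper (X ↘ Spec (CommRingCat.of k))] in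
theorem support_tensorMod_comm {M N : X.Modules} (hM : Coh.IsQCoh M) (hN : Coh.IsQCoh N) :
    CohB1.support (CohB1.tensorMod N M) ⊆ CohB1.support N := by
  obtain ⟨c⟩ := H23.PicMul.comm M N
  rw [← QCoh.support_iso c (KFlatLib.isQCoh_tensor hM hN)]
  exact CurveTensor.support_tensor_subset

omit [Field k] [X.Over (Spec (CommRingCat.of k))] [IsProper (X ↘ Spec (CommRingCat.of k))] in
theorem tw_tw_iso (M P R : X.Modules) :
    Nonempty (CohB1.tensorMod (CohB1.tensorMod M P) R ≅ CohB1.tensorMod M (CohB1.tensorMod P R)) :=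
  ⟨(AmpleVan.twComp P R).app M⟩

theorem h0_add_tw {S : ShortComplex X.Modules} (hS : S.ShortExact) {R : X.Modules} (hR : PicF.IsInvertible R)
    (h₂ : Coh.IsCoh S.X₂) (h₃ : Coh.IsCoh S.X₃) :
    h0 k (CohB1.tensorMod S.X₂ R) ≤ h0 k (CohB1.tensorMod S.X₁ R) + h0 k (CohB1.tensorMod S.X₃ R) := by
  haveI := CurveCohLib.isNoetherian_of_proper (k := k) (X := X)
  refine (h0_le_add k (shortExact_tw hS hR) (AmpleVan.isCoh_tensor h₂ (AmpleVan.isCoh_invertible hR))
    (AmpleVan.isCoh_tensor h₃ (AmpleVan.isCoh_invertible hR))).trans ?_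
  exact le_rfl

include k in
/-- If the sections of `P ⊗ Lᵐ` outgrow `m^e` then some `P ⊗ Lᵐ` receives `H`, for `H` with a nonzero section. -/
theorem exists_mono_of_growth [IsIntegral X] {e : ℕ} (hdim : topologicalKrullDim X = (e + 1 : ℕ)) {A : X.Modules}
    (hA : CohB1.IsAmple A) {H L P : X.Modules} (hH : PicF.IsInvertible H) (hL : PicF.IsInvertible L)
    (hP : PicF.IsInvertible P) (s : Coh.structureModule X ⟶ H) (hs : s ≠ 0)
    (hgrow : ∀ C : ℕ, ∃ m, C * (m + 1) ^ e < h0 k (CohB1.tensorMod P (CohB1.tensorPow L m))) :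
    ∃ (m : ℕ) (φ : H ⟶ CohB1.tensorMod P (CohB1.tensorPow L m)), 0 < m ∧ Mono φ := by
  haveI := CurveCohLib.isNoetherian_of_proper (k := k) (X := X)
  obtain ⟨D, hD, ⟨δ⟩⟩ := H23.PicInv.exists_inverse hH
  haveI : Mono s := InvEnd.mono_of_ne_zero CurveDeg.isInvertible_structureModule hH s hs
  let Q := cokernel s
  have hQ : Coh.IsCoh Q := QCoh.isCoh_cokernel QCoh.isQCoh_structureModule (AmpleVan.isCoh_invertible hH) s
  let T : Closeds X := ⟨_, QCoh.isClosed_support_of_isFT hQ.1 hQ.2⟩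
  have hTd : topologicalKrullDim ↥(T : Set X) ≤ (e : WithBot ℕ∞) := by
    have hne : (T : Set X) ≠ Set.univ := fun h => by
      obtain ⟨x, hx⟩ := Nakai.genLocus_nonempty hH s hs
      exact Nakai.support_cokernel_subset hH s (h.ge (Set.mem_univ x)) hx
    have hlt := H23.TopDim.dim_lt_of_ssubset (Nakai.ne_top_of_dim_eq hdim) T.isClosed hne
    rw [hdim] at hlt
    exact Nakai.le_pred_of_lt hlt
  have hDP := InvX.isInvertible_tensorMod hD hP
  let Q' := CohB1.tensorMod Q (CohB1.tensorMod D P)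
  have hQ' : Coh.IsCoh Q' := AmpleVan.isCoh_tensor hQ (AmpleVan.isCoh_invertible hDP)
  have hQT : CohB1.support Q' ⊆ T := support_tensorMod_comm (ProjUPX.isQCoh_of_isInvertible hDP) hQ.1
  obtain ⟨C, hC⟩ := bound_coh k hA hL hQ' hQT hTd
  obtain ⟨m, hm⟩ := hgrow (C + h0 k (CohB1.tensorMod P (CohB1.tensorPow L 0)))
  have hm0 : 0 < m := Nat.pos_of_ne_zero fun h => by
    subst h
    simp at hm
  refine ⟨m, ?_⟩
  have hLm := InvX.isInvertible_tensorPow hL m
  let R := CohB1.tensorMod (CohB1.tensorMod D P) (CohB1.tensorPow L m)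
  have hR : PicF.IsInvertible R := InvX.isInvertible_tensorMod hDP hLm
  let S : ShortComplex X.Modules := ShortComplex.mk s (cokernel.π s) (cokernel.condition s)
  have hS : S.ShortExact := shortExact_cokernel s
  have hle : h0 k (CohB1.tensorMod H R) ≤ h0 k (CohB1.tensorMod (Coh.structureModule X) R) + h0 k (CohB1.tensorMod Q R) :=
    h0_add_tw k hS hR (AmpleVan.isCoh_invertible hH) hQ
  obtain ⟨ω⟩ := tw_tw_iso Q (CohB1.tensorMod D P) (CohB1.tensorPow L m)
  have hQR : h0 k (CohB1.tensorMod Q R) ≤ C * (m + 1) ^ e := le_of_eq_of_le (h0_congr k ω.symm) (hC m)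
  have hHR : h0 k (CohB1.tensorMod H R) = h0 k (CohB1.tensorMod P (CohB1.tensorPow L m)) := h0_congr_cl k (by
    rw [cl_tensor, cl_tensor, cl_tensor, cl_tensor, ← mul_assoc, ← mul_assoc, ← cl_tensor H D, cl_eq_iff.2 ⟨δ⟩, one_mul_cl])
  have hpos : 0 < h0 k (CohB1.tensorMod (Coh.structureModule X) R) := by
    have : C * (m + 1) ^ e ≤ (C + h0 k (CohB1.tensorMod P (CohB1.tensorPow L 0))) * (m + 1) ^ e :=
      Nat.mul_le_mul_right _ (Nat.le_add_right _ _)
    omega
  obtain ⟨r, hr⟩ := exists_hom_of_h0_pos k hpos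
  haveI : Mono r := InvEnd.mono_of_ne_zero CurveDeg.isInvertible_structureModule
    (InvX.isInvertible_tensorMod CurveDeg.isInvertible_structureModule hR) r hr
  haveI := mono_tw hH r
  obtain ⟨α⟩ : Nonempty (H ≅ (AmpleVan.tw H).obj (Coh.structureModule X)) := cl_eq_iff.1 (by
    show _ = PicF.cl (CohB1.tensorMod _ _)
    rw [cl_tensor, one_mul_cl])
  obtain ⟨β⟩ : Nonempty ((AmpleVan.tw H).obj (CohB1.tensorMod (Coh.structureModule X) R) ≅
      CohB1.tensorMod P (CohB1.tensorPow L m)) := cl_eq_iff.1 (by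
    show PicF.cl (CohB1.tensorMod _ _) = _
    rw [cl_tensor, cl_tensor, one_mul_cl, cl_tensor, cl_tensor, cl_tensor, mul_comm _ (PicF.cl H), ← mul_assoc,
      ← mul_assoc, ← cl_tensor H D, cl_eq_iff.2 ⟨δ⟩, one_mul_cl])
  exact ⟨α.hom ≫ (AmpleVan.tw H).map r ≫ β.hom, hm0, inferInstance⟩

include k in
/-- A power of an ample module embeds into a power of a module of maximal growth. -/
theorem exists_ample_mono [IsIntegral X] {n : ℕ} (hdim : topologicalKrullDim X = n) {A : X.Modules}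
    (hA : CohB1.IsAmple A) {L : X.Modules} (hL : PicF.IsInvertible L)
    (hgrow : ∀ e : ℕ, n = e + 1 → ∀ C : ℕ, ∃ m, C * (m + 1) ^ e < h0 k (CohB1.tensorPow L m)) :
    ∃ (ν : ℕ) (B : X.Modules) (φ : B ⟶ CohB1.tensorPow L ν), 0 < ν ∧ CohB1.IsAmple B ∧ Mono φ := by
  haveI := CurveCohLib.isNoetherian_of_proper (k := k) (X := X)
  rcases Nat.eq_zero_or_pos n with rfl | hn
  · haveI : Subsingleton X := by
      refine ⟨fun x y => ?_⟩
      have huniv : ∀ z : X, closure ({z} : Set X) = Set.univ := fun z => by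
        refine Snapper.eq_of_dim_eq isClosed_closure (IrreducibleSpace.isIrreducible_univ X) (Set.subset_univ _)
          (d := 0) ((Topology.IsInducing.subtypeVal.topologicalKrullDim_le).trans hdim.le) (le_antisymm ?_ ?_)
        · exact (Topology.IsInducing.subtypeVal.topologicalKrullDim_le).trans hdim.le
        · haveI : Nonempty ↥(closure ({z} : Set X)) := ⟨⟨z, subset_closure rfl⟩⟩
          haveI : Nonempty (IrreducibleCloseds ↥(closure ({z} : Set X))) :=
            ⟨⟨closure {⟨z, subset_closure rfl⟩}, isIrreducible_singleton.closure, isClosed_closure⟩⟩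
          exact Order.krullDim_nonneg
      exact (inseparable_iff_closure_eq.2 ((huniv x).trans (huniv y).symm)).eq
    exact ⟨1, _, 𝟙 _, one_pos, AmpleX.isAmple_of_isQuasiAffine (InvX.isInvertible_tensorPow hL 1), inferInstance⟩
  obtain ⟨e, rfl⟩ := Nat.exists_eq_add_of_le' hn
  obtain ⟨a, ha, s, hs⟩ := exists_section_twist k hdim.le hA CurveDeg.isInvertible_structureModule
  have hAa := AmpleX.isAmple_tensorPow hA ha
  obtain ⟨ε⟩ : Nonempty (CohB1.tensorMod (Coh.structureModule X) (CohB1.tensorPow A a) ≅ CohB1.tensorPow A a) :=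
    cl_eq_iff.1 (by rw [cl_tensor, one_mul_cl])
  have hs' : s ≫ ε.hom ≠ 0 := fun h => hs (by rw [← cancel_mono ε.hom, h, zero_comp])
  obtain ⟨m, φ, hm, hφ⟩ := exists_mono_of_growth k hdim hA hAa.1 hL CurveDeg.isInvertible_structureModule (s ≫ ε.hom) hs'
    fun C => by
      obtain ⟨m, hm⟩ := hgrow e rfl C
      exact ⟨m, lt_of_lt_of_eq hm (h0_congr_cl k (by rw [cl_tensor, one_mul_cl]))⟩
  obtain ⟨γ⟩ : Nonempty (CohB1.tensorMod (Coh.structureModule X) (CohB1.tensorPow L m) ≅ CohB1.tensorPow L m) :=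
    cl_eq_iff.1 (by rw [cl_tensor, one_mul_cl])
  haveI := hφ
  exact ⟨m, _, φ ≫ γ.hom, hm, hAa, inferInstance⟩

/-- Converse of Kodaira's lemma: growth of maximal order. -/
theorem exists_growth_of_mono [IsIntegral X] {n : ℕ} (hdim : topologicalKrullDim X = n) {A L : X.Modules}
    (hA : CohB1.IsAmple A) (hL : PicF.IsInvertible L) {ν : ℕ} (φ : A ⟶ CohB1.tensorPow L ν) [Mono φ] :
    ∃ N a : ℕ, 0 < N ∧ 0 < a ∧ ∀ μ : ℕ, 1 ≤ μ →
      μ ^ n ≤ a * h0 k (CohB1.tensorPow L (ν * (N * μ))) := by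
  haveI := CurveCohLib.isNoetherian_of_proper (k := k) (X := X)
  obtain ⟨q, hq, hqn, n₀, hn₀⟩ := exists_poly_h0 k hA (QCoh.isCoh_structureModule' (X := X)) (C := (⊤ : Closeds X))
    (fun x _ => trivial) (d := n) ((Topology.IsInducing.subtypeVal.topologicalKrullDim_le).trans hdim.le)
  have hlead : 0 < q.coeff n := coeff_pos_invertible k hdim hA CurveDeg.isInvertible_structureModule hqn
  obtain ⟨t₀, ht₀⟩ : ∃ t₀ : ℕ, ∀ t : ℕ, t₀ ≤ t → q.coeff n / 2 * (t : ℚ) ^ n ≤ q.eval (t : ℚ) := by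
    let p := q - Polynomial.C (q.coeff n / 2) * Polynomial.X ^ n
    have hpd : p.natDegree ≤ n :=
      (Polynomial.natDegree_sub_le _ _).trans (max_le hq (Polynomial.natDegree_C_mul_X_pow_le _ _))
    have hpc : p.coeff n = q.coeff n / 2 := by
      simp only [p, Polynomial.coeff_sub, Polynomial.coeff_C_mul_X_pow, if_true]
      ring
    have hev : ∀ t : ℕ, p.eval (t : ℚ) = q.eval (t : ℚ) - q.coeff n / 2 * (t : ℚ) ^ n := fun t => by simp [p]
    rcases Nat.eq_zero_or_pos n with rfl | hn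
    · refine ⟨0, fun t _ => ?_⟩
      have h := hev t
      rw [Polynomial.eq_C_of_natDegree_le_zero hpd, Polynomial.eval_C, hpc] at h
      linarith
    · have hpd' : p.natDegree = n := le_antisymm hpd (Polynomial.le_natDegree_of_ne_zero (by rw [hpc]; positivity))
      have htend : Filter.Tendsto (fun t : ℕ => p.eval (t : ℚ)) Filter.atTop Filter.atTop := by
        refine (Polynomial.tendsto_atTop_of_leadingCoeff_nonneg p ?_ ?_).comp tendsto_natCast_atTop_atTop
        · exact Polynomial.natDegree_pos_iff_degree_pos.1 (hpd' ▸ hn)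
        · rw [Polynomial.leadingCoeff, hpd', hpc]; positivity
      obtain ⟨j, hj⟩ := Filter.eventually_atTop.1 (htend.eventually_gt_atTop (0 : ℚ))
      exact ⟨j, fun t ht => by linarith [hj t ht, hev t]⟩
  let N := max n₀ t₀ + 1
  obtain ⟨a, ha⟩ := exists_nat_gt (2 / (q.coeff n * (N : ℚ) ^ n))
  refine ⟨N, a, Nat.succ_pos _, ?_, fun μ hμ => ?_⟩
  · have : (0 : ℚ) < a := lt_of_le_of_lt (by positivity) ha
    exact_mod_cast this
  obtain ⟨D, hD, ⟨δ⟩⟩ := H23.PicInv.exists_inverse hA.1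
  have hLν := InvX.isInvertible_tensorPow hL ν
  let T := CohB1.tensorMod (CohB1.tensorPow L ν) D
  have hT : PicF.IsInvertible T := InvX.isInvertible_tensorMod hLν hD
  let ψ : (AmpleVan.tw D).obj A ⟶ (AmpleVan.tw D).obj (CohB1.tensorPow L ν) := (AmpleVan.tw D).map φ
  haveI : Mono ψ := mono_tw hD φ
  have hs : δ.inv ≫ ψ ≠ 0 := fun h => by
    have h1 : δ.inv = 0 := (cancel_mono ψ).1 (h.trans zero_comp.symm)
    have h2 : 𝟙 (Coh.structureModule X) = 0 := by rw [← δ.inv_hom_id, h1, zero_comp]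
    exact one_ne_zero (α := Γ(X, ⊤)) (congrArg (fun f : Coh.structureModule X ⟶ Coh.structureModule X => f.app ⊤ (1 : Γ(X, ⊤))) h2)
  obtain ⟨j, hj⟩ := Nat.exists_eq_add_of_le' (show 1 ≤ N * μ from Nat.mul_pos (Nat.succ_pos _) hμ)
  obtain ⟨x, hx⟩ := Nakai.genLocus_nonempty hT (δ.inv ≫ ψ) hs
  have hS : InvX.powHom (δ.inv ≫ ψ) (j + 1) ≠ 0 := Nakai.ne_zero_of_mem_genLocus (x := x)
    ((InvX.genLocus_powHom hT (δ.inv ≫ ψ) j).symm ▸ hx)
  have h1 := h0_le_twist k (InvX.isInvertible_tensorPow hT (j + 1)) (InvX.isInvertible_tensorPow hA.1 (j + 1))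
    (InvX.powHom (δ.inv ≫ ψ) (j + 1)) hS
  have h2 : h0 k (CohB1.tensorMod (CohB1.tensorPow T (j + 1)) (CohB1.tensorPow A (j + 1))) =
      h0 k (CohB1.tensorPow L (ν * (N * μ))) := h0_congr_cl k (by
    rw [cl_tensor, cl_tensorPow, cl_tensorPow, cl_tensorPow, cl_tensor, cl_tensorPow, mul_pow, ← pow_mul, hj,
      mul_assoc, ← mul_pow, mul_comm (PicF.cl D), ← cl_tensor, cl_eq_iff.2 ⟨δ⟩, ← H23.PicMul.one_def, one_pow, mul_one])
  have h3 : q.coeff n / 2 * ((N * μ : ℕ) : ℚ) ^ n ≤ (h0 k (CohB1.tensorPow L (ν * (N * μ))) : ℚ) := by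
    have hN : N ≤ N * μ := Nat.le_mul_of_pos_right _ hμ
    refine (ht₀ _ (le_trans (by omega) hN)).trans ?_
    rw [← hn₀ _ (le_trans (by omega) hN), ← h2, hj]
    exact_mod_cast h1
  have h4 : (μ : ℚ) ^ n ≤ (a : ℚ) * (h0 k (CohB1.tensorPow L (ν * (N * μ))) : ℚ) := by
    refine le_trans ?_ (mul_le_mul_of_nonneg_left h3 (Nat.cast_nonneg a))
    rw [div_lt_iff₀ (by positivity)] at ha
    push_cast
    rw [mul_pow]
    have hμn : (0 : ℚ) ≤ (μ : ℚ) ^ n := by positivity
    nlinarith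
  exact_mod_cast h4

end Groth.Agent.Big
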