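import Groth.Agent.Big.Positive
import Groth.Agent.Nakai.NefProper
import Groth.Agent.Nakai.Corollaries

/-!
# Degrees on curves and numerical equivalence
-/

set_option autoImplicit false
set_option linter.style.haveILetI false
set_option linter.unusedSectionVars false
set_option backward.isDefEq.respectTransparency false
set_option backward.isDefEq.respectTransparency.types false
set_option maxHeartbeats 1000000

universe u

open CategoryTheory CategoryTheory.Limits AlgebraicGeometry TopologicalSpace Opposite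
open Groth.Agent.H23.PicMul

noncomputable section

namespace Groth.Agent.Big

open Groth.Agent

variable (k : Type u) [Field k] {X : Scheme.{u}} [X.Over (Spec (CommRingCat.of k))]
  [IsProper (X ↘ Spec (CommRingCat.of k))]

/-- The degree of `L` on a closed subscheme. -/
def cdeg {Y : Scheme.{u}} (ι : Y ⟶ X) (L : X.Modules) : ℚ := -alt k ![L] ((Coh.push ι).obj (Coh.structureModule Y))

theorem alt_empty (F : X.Modules) (M : Fin 0 → X.Modules) : alt k M F = (Curv2.euler k X F : ℚ) := by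
  rw [alt, Fintype.sum_unique]
  simp only [sgn, Finset.univ_eq_empty, Finset.prod_empty, one_mul]
  rfl

theorem cdeg_eq {Y : Scheme.{u}} (ι : Y ⟶ X) (L : X.Modules) :
    cdeg k ι L = (Curv2.euler k X (CohB1.tensorMod ((Coh.push ι).obj (Coh.structureModule Y)) L) : ℚ) -
      (Curv2.euler k X ((Coh.push ι).obj (Coh.structureModule Y)) : ℚ) := by
  rw [cdeg, show (![L] : Fin 1 → X.Modules) = Fin.cons L ![] from rfl, alt_cons, alt_empty, alt_empty]
  ring

variable {Y : Scheme.{u}} (ι : Y ⟶ X) [IsClosedImmersion ι]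

theorem cdeg_congr {L L' : X.Modules} (h : PicF.cl L = PicF.cl L') : cdeg k ι L = cdeg k ι L' :=
  congrArg Neg.neg (alt_congr_cl k (fun i => by fin_cases i; exact h) rfl)

theorem cdeg_add (hY : topologicalKrullDim Y ≤ (1 : ℕ)) {A B : X.Modules} (hA : PicF.IsInvertible A)
    (hB : PicF.IsInvertible B) : cdeg k ι (CohB1.tensorMod A B) = cdeg k ι A + cdeg k ι B := by
  haveI := CurveCohLib.isNoetherian_of_proper (k := k) (X := X)
  haveI : IsNoetherian Y :=
    { __ := LocallyOfFiniteType.isLocallyNoetherian ι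
      __ := QuasiCompact.compactSpace_of_compactSpace ι }
  have hd : topologicalKrullDim ↥(CohB1.support ((Coh.push ι).obj (Coh.structureModule Y))) ≤ ((0 + 1 : ℕ) : WithBot ℕ∞) := by
    refine (H23.TopDim.dim_le_dim_of_subset (QCoh.support_push_subset ι QCoh.isQCoh_structureModule)).trans ?_
    exact (AmpleDev.dim_eq_one_of_closedImmersion ι rfl).symm.trans_le hY
  have h := alt_cons_tensor k (M := (![] : Fin 0 → X.Modules)) (fun i => i.elim0)
    (QCoh.isCoh_push ι QCoh.isCoh_structureModule') hA hB hd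
  unfold cdeg
  show -alt k (Fin.cons _ ![]) _ = -alt k (Fin.cons _ ![]) _ + -alt k (Fin.cons _ ![]) _
  rw [h]; ring

theorem cdeg_inverse (hY : topologicalKrullDim Y ≤ (1 : ℕ)) {A B : X.Modules} (hA : PicF.IsInvertible A)
    (hB : PicF.IsInvertible B) (h : PicF.cl A * PicF.cl B = 1) : cdeg k ι B = -cdeg k ι A := by
  have h1 := cdeg_add k ι hY hA hB
  have h0 : cdeg k ι (CohB1.tensorMod A B) = 0 := by
    rw [cdeg_eq, sub_eq_zero]
    refine congrArg Int.cast (CurveCohLib.euler_congr (k := k) (cl_eq_iff.1 ?_).some)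
    rw [cl_tensor, cl_tensor, h, mul_one]
  linarith

theorem curveDeg_eq (hY : topologicalKrullDim Y ≤ (1 : ℕ)) {L : X.Modules} (hL : PicF.IsInvertible L) :
    (Pic13.curveDeg k (ι ≫ (X ↘ Spec (CommRingCat.of k))) ((Scheme.Modules.pullback ι).obj L) : ℚ) = cdeg k ι L := by
  letI : Y.Over (Spec (CommRingCat.of k)) := ⟨ι ≫ (X ↘ Spec (CommRingCat.of k))⟩
  haveI : IsProper (Y ↘ Spec (CommRingCat.of k)) :=
    inferInstanceAs (IsProper (ι ≫ (X ↘ Spec (CommRingCat.of k))))
  haveI := CurveCohLib.isNoetherian_of_proper (k := k) (X := Y)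
  have hLY := PicClLib.isInvertible_pullback ι hL
  have e : cdeg k ι L = -alt k (fun j => (Scheme.Modules.pullback ι).obj ((![L] : Fin 1 → X.Modules) j))
      (Coh.structureModule Y) :=
    congrArg Neg.neg (alt_push k ι rfl (fun j => by fin_cases j; exact hL) QCoh.isQCoh_structureModule)
  rw [e, show (fun j => (Scheme.Modules.pullback ι).obj ((![L] : Fin 1 → X.Modules) j)) =
    Fin.cons ((Scheme.Modules.pullback ι).obj L) ![] from funext fun j => by fin_cases j; rfl,
    alt_cons, alt_empty, alt_empty]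
  show ((@FGA.eulerCharLE k _ Y ⟨ι ≫ (X ↘ Spec (CommRingCat.of k))⟩ _ 1 - @FGA.eulerCharLE k _ Y ⟨ι ≫ (X ↘ Spec (CommRingCat.of k))⟩ _ 1 : ℤ) : ℚ) = _
  rw [Int.cast_sub, Nakai.eulerCharLE_eq_euler k hY (ProjUPX.isQCoh_of_isInvertible hLY),
    Nakai.eulerCharLE_eq_euler k hY QCoh.isQCoh_structureModule]
  rw [neg_sub]
  refine congrArg₂ (fun a b : ℤ => (a : ℚ) - (b : ℚ)) ?_ rfl
  exact CurveCohLib.euler_congr (k := k) (cl_eq_iff.1 (by rw [cl_tensor, one_mul_cl])).some

/-- Nefness through degrees on curves. -/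
theorem nef_iff {L : X.Modules} (hL : PicF.IsInvertible L) :
    Nakai.Nef k L ↔ ∀ (Y : Scheme.{u}) (ι : Y ⟶ X) [IsClosedImmersion ι], IsIntegral Y → topologicalKrullDim Y = 1 →
      0 ≤ cdeg k ι L := by
  constructor
  · intro h Y ι hι hY hd
    haveI := hY
    obtain ⟨q, hq, hqn⟩ := Nakai.exists_push_poly k ι hL (hd.trans Nat.cast_one.symm)
    rw [cdeg_eq, ← Nakai.coeff_one_eq_sub k hq hqn]
    exact h Y ι inferInstance inferInstance hd q hq hqn
  · intro h Y ι hι hY hd q hq hqn
    haveI := hι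
    rw [Nakai.coeff_one_eq_sub k hq hqn, ← cdeg_eq]
    exact h Y ι hY hd

/-- Numerical equivalence as two nefness conditions. -/
theorem numEq_iff {L N L' N' : X.Modules} (hL : PicF.IsInvertible L) (hN : PicF.IsInvertible N)
    (hL' : PicF.IsInvertible L') (hN' : PicF.IsInvertible N') (hLL' : PicF.cl L * PicF.cl L' = 1)
    (hNN' : PicF.cl N * PicF.cl N' = 1) :
    (∀ (Y : Scheme.{u}) (ι : Y ⟶ X) [IsClosedImmersion ι], IsIntegral Y → topologicalKrullDim Y = 1 →
      Pic13.curveDeg k (ι ≫ (X ↘ Spec (CommRingCat.of k))) ((Scheme.Modules.pullback ι).obj L) =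
        Pic13.curveDeg k (ι ≫ (X ↘ Spec (CommRingCat.of k))) ((Scheme.Modules.pullback ι).obj N)) ↔
    Nakai.Nef k (CohB1.tensorMod L N') ∧ Nakai.Nef k (CohB1.tensorMod N L') := by
  rw [nef_iff k (InvX.isInvertible_tensorMod hL hN'), nef_iff k (InvX.isInvertible_tensorMod hN hL')]
  have key : ∀ (Y : Scheme.{u}) (ι : Y ⟶ X) [IsClosedImmersion ι], topologicalKrullDim Y = 1 →
      cdeg k ι (CohB1.tensorMod L N') = cdeg k ι L - cdeg k ι N ∧
      cdeg k ι (CohB1.tensorMod N L') = cdeg k ι N - cdeg k ι L := fun Y ι _ hd => by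
    have hd' : topologicalKrullDim Y ≤ ((1 : ℕ) : WithBot ℕ∞) := hd.le
    rw [cdeg_add k ι hd' hL hN', cdeg_add k ι hd' hN hL', cdeg_inverse k ι hd' hL hL' hLL',
      cdeg_inverse k ι hd' hN hN' hNN']
    exact ⟨by ring, by ring⟩
  constructor
  · intro h
    constructor <;> intro Y ι _ hY hd <;>
    · have e := h Y ι hY hd
      rw [← Int.cast_inj (α := ℚ), curveDeg_eq k ι hd.le hL, curveDeg_eq k ι hd.le hN] at e
      obtain ⟨e1, e2⟩ := key Y ι hd
      linarith
  · rintro ⟨h1, h2⟩ Y ι _ hY hd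
    have a := h1 Y ι hY hd
    have b := h2 Y ι hY hd
    obtain ⟨e1, e2⟩ := key Y ι hd
    rw [← Int.cast_inj (α := ℚ), curveDeg_eq k ι hd.le hL, curveDeg_eq k ι hd.le hN]
    linarith

end Groth.Agent.Big

namespace Groth.Agent.Big

open Groth.Agent

theorem nef_of_cl (k : Type u) [Field k] {X : Scheme.{u}} [X.Over (Spec (CommRingCat.of k))]
    {L L' : X.Modules} (h : PicF.cl L = PicF.cl L') (hn : Nakai.Nef k L) : Nakai.Nef k L' :=
  fun Z i hi hZ hd q hq hqn => hn Z i hi hZ hd q hq fun n => by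
    rw [← hqn n]
    exact Nakai.χ_congr_left k h _ n

end Groth.Agent.Big

namespace Groth.Agent.Big

open Groth.Agent

theorem cl_pull_one {X X' : Scheme.{u}} (g : X' ⟶ X) {A B : X.Modules} (h : PicF.cl A * PicF.cl B = 1) :
    PicF.cl ((Scheme.Modules.pullback g).obj A) * PicF.cl ((Scheme.Modules.pullback g).obj B) = 1 := by
  show PicF.pullCl g (PicF.cl A) * PicF.pullCl g (PicF.cl B) = 1
  rw [← pullCl_mul, h, pullCl_one]

theorem cl_pull_tensor {X X' : Scheme.{u}} (g : X' ⟶ X) (A B : X.Modules) :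
    PicF.cl ((Scheme.Modules.pullback g).obj (CohB1.tensorMod A B)) =
      PicF.cl (CohB1.tensorMod ((Scheme.Modules.pullback g).obj A) ((Scheme.Modules.pullback g).obj B)) := by
  show PicF.pullCl g (PicF.cl (CohB1.tensorMod A B)) = _
  rw [cl_tensor, pullCl_mul, cl_tensor]
  rfl

end Groth.Agent.Big
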