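import Groth.Agent.Big.Alt
import Groth.Agent.Big.Semiample

/-!
# Positivity of intersection symbols of ample modules
-/

set_option autoImplicit false
set_option linter.style.haveILetI false
set_option linter.unusedSectionVars false
set_option backward.isDefEq.respectTransparency false
set_option backward.isDefEq.respectTransparency.types false
set_option maxHeartbeats 1000000

universe u

open CategoryTheory CategoryTheory.Limits AlgebraicGeometry TopologicalSpace Opposite
open Groth.Agent.H23.PicMul

noncomputable section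

namespace Groth.Agent.Big

open Groth.Agent

/-- The closure of the image of a point under a closed immersion. -/
theorem dim_closure_image {X Z : Scheme.{u}} (i : Z ⟶ X) [IsClosedImmersion i] (z : Z) :
    topologicalKrullDim (closure ({i z} : Set X)) = topologicalKrullDim (closure ({z} : Set Z)) := by
  rw [← Set.image_singleton, i.isClosedEmbedding.closure_image_eq]
  exact ((i.isClosedEmbedding.isEmbedding.homeomorphImage _).isHomeomorph.topologicalKrullDim_eq).symm

/-- A closed subset has a point whose closure has the same dimension. -/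
theorem exists_topPt {X : Scheme.{u}} (C : Closeds X) {r : ℕ} (hC : topologicalKrullDim ↥(C : Set X) = r) :
    ∃ ξ, ξ ∈ Snapper.topPts C r := by
  let W := Scheme.IdealSheafData.vanishingIdeal C
  have hr : Set.range W.subschemeι = (C : Set X) := H23.RedSub.range_vanishingIdeal C
  obtain ⟨z, hz⟩ := Nakai.exists_point_dim (X := W.subscheme)
    ((AmpleDev.dim_eq_one_of_closedImmersion W.subschemeι hr).trans hC)
  exact ⟨W.subschemeι z, hr.subset ⟨z, rfl⟩, (dim_closure_image W.subschemeι z).trans hz⟩

variable (k : Type u) [Field k]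

theorem alt_push {X Z : Scheme.{u}} [X.Over (Spec (CommRingCat.of k))] [Z.Over (Spec (CommRingCat.of k))]
    [IsProper (X ↘ Spec (CommRingCat.of k))] [IsProper (Z ↘ Spec (CommRingCat.of k))] (i : Z ⟶ X)
    [IsClosedImmersion i] (hi : i ≫ (X ↘ Spec (CommRingCat.of k)) = Z ↘ Spec (CommRingCat.of k)) {r : ℕ}
    {M : Fin r → X.Modules} (hM : ∀ j, PicF.IsInvertible (M j)) {G : Z.Modules} (hG : Coh.IsQCoh G) :
    alt k M ((Coh.push i).obj G) = alt k (fun j => (Scheme.Modules.pullback i).obj (M j)) G := by
  refine Finset.sum_congr rfl fun f _ => congrArg (sgn f * ·) ?_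
  haveI := CurveCohLib.isNoetherian_of_proper (k := k) (X := X)
  let P := Curv2.tensorPows (Coh.structureModule X) r M (cube f)
  have hP : PicF.IsInvertible P := by
    clear * - hM
    have : ∀ (r : ℕ) (M : Fin r → X.Modules) (n : Fin r → ℕ), (∀ j, PicF.IsInvertible (M j)) →
        PicF.IsInvertible (Curv2.tensorPows (Coh.structureModule X) r M n) := by
      intro r
      induction r with
      | zero => intro M n _; exact CurveDeg.isInvertible_structureModule
      | succ r ih =>
        intro M n h
        exact InvX.isInvertible_tensorMod (ih _ _ fun j => h j.castSucc) (InvX.isInvertible_tensorPow (h _) _)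
    exact this r M _ hM
  obtain ⟨e⟩ := AmpleDev.push_tensor_iso i hP G
  obtain ⟨e'⟩ : Nonempty (Curv2.tensorPows ((Coh.push i).obj G) r M (cube f) ≅
      CohB1.tensorMod ((Coh.push i).obj G) P) := cl_eq_iff.1 (by
    rw [cl_tensor, cl_tensorPows, cl_tensorPows, one_mul_cl])
  obtain ⟨ψ⟩ : Nonempty (CohB1.tensorMod G ((Scheme.Modules.pullback i).obj P) ≅
      Curv2.tensorPows G r (fun j => (Scheme.Modules.pullback i).obj (M j)) (cube f)) := cl_eq_iff.1 (by
    rw [cl_tensor, cl_tensorPows]
    show PicF.cl G * PicF.pullCl i (PicF.cl P) = _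
    rw [cl_tensorPows, one_mul_cl]
    congr 1
    induction (Finset.univ : Finset (Fin r)) using Finset.cons_induction with
    | empty => rw [Finset.prod_empty, pullCl_one, Finset.prod_empty]
    | cons a s ha ih =>
      rw [Finset.prod_cons, pullCl_mul, ih, pullCl_pow, Finset.prod_cons]
      rfl)
  have h1 : ∀ n, Module.finrank k (Coh.HH X ((Coh.push i).obj (CohB1.tensorMod G ((Scheme.Modules.pullback i).obj P))) n) =
      Module.finrank k (Coh.HH Z (CohB1.tensorMod G ((Scheme.Modules.pullback i).obj P)) n) := fun n => by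
    obtain ⟨l⟩ := PnCoh.exists_linearEquiv_push k i hi
      (KFlatLib.isQCoh_tensor hG (ProjUPX.isQCoh_of_isInvertible (PicClLib.isInvertible_pullback i hP))) n
    exact l.finrank_eq.symm
  refine congrArg Int.cast ((CurveCohLib.euler_congr (k := k) (e' ≪≫ e)).trans ?_)
  refine Eq.trans ?_ (CurveCohLib.euler_congr (k := k) ψ)
  exact finsum_congr fun n => by rw [h1 n]

/-- Positivity on integral schemes of dimension `n`. -/
def Pos (n : ℕ) : Prop :=
  ∀ (Z : Scheme.{u}) [Z.Over (Spec (CommRingCat.of k))] [IsProper (Z ↘ Spec (CommRingCat.of k))] [IsIntegral Z],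
    topologicalKrullDim Z = n → ∀ L M : Fin n → Z.Modules, (∀ j, CohB1.IsAmple (L j)) → (∀ j, PicF.IsInvertible (M j)) →
      (∀ j, PicF.cl (L j) * PicF.cl (M j) = 1) → 0 < alt k M (Coh.structureModule Z)

variable {X : Scheme.{u}} [X.Over (Spec (CommRingCat.of k))] [IsProper (X ↘ Spec (CommRingCat.of k))]

/-- Positivity passes from integral schemes to coherent modules. -/
theorem alt_pos_of_components {n : ℕ} (IH : Pos k n) {L M : Fin n → X.Modules} (hL : ∀ j, CohB1.IsAmple (L j))
    (hM : ∀ j, PicF.IsInvertible (M j)) (hLM : ∀ j, PicF.cl (L j) * PicF.cl (M j) = 1) {F : X.Modules}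
    (hF : Coh.IsCoh F) (hr : topologicalKrullDim ↥(CohB1.support F) ≤ n) {η : X} (hη : η ∈ CohB1.support F)
    (hηd : topologicalKrullDim (closure ({η} : Set X)) = (n : WithBot ℕ∞)) : 0 < alt k M F := by
  classical
  haveI := CurveCohLib.isNoetherian_of_proper (k := k) (X := X)
  let C : Closeds X := ⟨_, QCoh.isClosed_support_of_isFT hF.1 hF.2⟩
  have hfin := Snapper.finite_topPts (C := C) hr
  rw [alt_components k hM hF (C := C) hr subset_rfl hfin.toFinset fun ξ => hfin.mem_toFinset]
  have hpos : ∀ ξ ∈ hfin.toFinset, 0 < Snapper.len F ξ * alt k M (Snapper.clMod ξ) := fun ξ hξ => by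
    obtain ⟨hξC, hξd⟩ := hfin.mem_toFinset.1 hξ
    refine mul_pos ?_ ?_
    · have hlt := CycLib.length_stalk_lt_top F hF (ξ := ξ) fun y hy hyx =>
        Snapper.eq_of_specializes_topPts hr ⟨hξC, hξd⟩ (not_subsingleton_iff_nontrivial.2 hy) hyx
      have hne : Module.length (X.presheaf.stalk ξ) (F.presheaf.stalk ξ) ≠ 0 := fun h => by
        rw [Module.length_eq_zero_iff] at h
        exact hξC h
      exact Nat.cast_pos.2 (Nat.pos_of_ne_zero fun h => by
        rcases ENat.toNat_eq_zero.1 h with h | h
        · exact hne h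
        · exact hlt.ne h)
    · let W := Scheme.IdealSheafData.vanishingIdeal (⟨closure ({ξ} : Set X), isClosed_closure⟩ : Closeds X)
      letI : W.subscheme.Over (Spec (CommRingCat.of k)) := ⟨W.subschemeι ≫ (X ↘ Spec (CommRingCat.of k))⟩
      haveI : IsProper (W.subscheme ↘ Spec (CommRingCat.of k)) :=
        inferInstanceAs (IsProper (W.subschemeι ≫ (X ↘ Spec (CommRingCat.of k))))
      haveI : IsIntegral W.subscheme := QCoh.isIntegral_closure_point ξ
      have hd : topologicalKrullDim W.subscheme = n :=
        (AmpleDev.dim_eq_one_of_closedImmersion W.subschemeι (H23.RedSub.range_vanishingIdeal _)).trans hξd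
      refine lt_of_lt_of_eq (IH W.subscheme hd (fun j => (Scheme.Modules.pullback W.subschemeι).obj (L j))
        (fun j => (Scheme.Modules.pullback W.subschemeι).obj (M j))
        (fun j => AmpleDev.isAmple_pullback_finite k W.subschemeι (hL j))
        (fun j => PicClLib.isInvertible_pullback _ (hM j)) fun j => ?_)
        (alt_push k W.subschemeι rfl hM QCoh.isQCoh_structureModule).symm
      show PicF.pullCl W.subschemeι (PicF.cl (L j)) * PicF.pullCl W.subschemeι (PicF.cl (M j)) = 1
      rw [← pullCl_mul, hLM, pullCl_one]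
  exact Finset.sum_pos hpos ⟨η, hfin.mem_toFinset.2 ⟨hη, hηd⟩⟩

include k in
theorem alt_cons_pow [IsIntegral X] {n : ℕ} (hd : topologicalKrullDim X ≤ (n + 1 : ℕ)) {M : Fin n → X.Modules}
    (hM : ∀ j, PicF.IsInvertible (M j)) {B : X.Modules} (hB : PicF.IsInvertible B) :
    ∀ m : ℕ, alt k (Fin.cons (CohB1.tensorPow B m) M) (Coh.structureModule X) =
      m * alt k (Fin.cons B M) (Coh.structureModule X)
  | 0 => by
    rw [alt_cons, Nat.cast_zero, zero_mul, sub_eq_zero]
    exact alt_congr_cl k (fun _ => rfl) (by rw [cl_tensor, cl_tensorPow, pow_zero, mul_one])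
  | m + 1 => by
    haveI := CurveCohLib.isNoetherian_of_proper (k := k) (X := X)
    rw [alt_congr_cl k (M := Fin.cons (CohB1.tensorPow B (m + 1)) M) (N := Fin.cons (CohB1.tensorMod (CohB1.tensorPow B m) B) M) (Fin.cases
        (by simp only [Fin.cons_zero]; rw [cl_tensor, cl_tensorPow, cl_tensorPow, pow_succ]) fun _ => rfl) rfl,
      alt_cons_tensor k hM QCoh.isCoh_structureModule' (InvX.isInvertible_tensorPow hB m) hB
        ((topologicalKrullDim_subspace_le X _).trans hd), alt_cons_pow hd hM hB m, Nat.cast_succ]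
    ring

include k in
/-- The inductive step. -/
theorem pos_succ {n : ℕ} (IH : Pos k n) : Pos k (n + 1) := fun Z _ _ _ hdim L M hL hM hLM => by
  haveI := CurveCohLib.isNoetherian_of_proper (k := k) (X := Z)
  have hle : topologicalKrullDim Z ≤ ((n + 1 : ℕ) : WithBot ℕ∞) := hdim.le
  obtain ⟨a, ha, s, hs⟩ := exists_section_twist k hle (hL 0) (CurveDeg.isInvertible_structureModule (X := Z))
  have hLa := InvX.isInvertible_tensorPow (hL 0).1 a
  have hN := InvX.isInvertible_tensorMod (CurveDeg.isInvertible_structureModule (X := Z)) hLa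
  have hclN : PicF.cl (CohB1.tensorMod (Coh.structureModule Z) (CohB1.tensorPow (L 0) a)) = PicF.cl (L 0) ^ a := by
    rw [cl_tensor, one_mul_cl, cl_tensorPow]
  obtain ⟨q, hq, hqn⟩ := Nakai.exists_poly k (hL 0).1 (QCoh.isCoh_structureModule' (X := Z)) (C := (⊤ : Closeds Z))
    (fun x _ => trivial) (d := n + 1) ((Topology.IsInducing.subtypeVal.topologicalKrullDim_le).trans hle)
  have hlead := coeff_pos_invertible k hdim (hL 0) CurveDeg.isInvertible_structureModule hqn
  haveI : Mono s := InvEnd.mono_of_ne_zero CurveDeg.isInvertible_structureModule hN s hs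
  have hQ : Coh.IsCoh (cokernel s) := QCoh.isCoh_cokernel QCoh.isQCoh_structureModule (AmpleVan.isCoh_invertible hN) s
  let T : Closeds Z := ⟨_, QCoh.isClosed_support_of_isFT hQ.1 hQ.2⟩
  have hTd : topologicalKrullDim ↥(T : Set Z) ≤ (n : WithBot ℕ∞) := by
    have hne : (T : Set Z) ≠ Set.univ := fun h => by
      obtain ⟨x, hx⟩ := Nakai.genLocus_nonempty hN s hs
      exact Nakai.support_cokernel_subset hN s (h.ge (Set.mem_univ x)) hx
    have hlt := H23.TopDim.dim_lt_of_ssubset (Nakai.ne_top_of_dim_eq hdim) T.isClosed hne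
    rw [hdim] at hlt
    exact Nakai.le_pred_of_lt hlt
  obtain ⟨p, -, hpn⟩ := Nakai.exists_poly k (hL 0).1 hQ (C := T) subset_rfl hTd
  have hrel : p = q.comp (Polynomial.X + Polynomial.C (a : ℚ)) - q :=
    Polynomial.eq_of_infinite_eval_eq _ _ ((Set.infinite_range_of_injective (Nat.cast_injective (R := ℚ))).mono (by
      rintro _ ⟨j, rfl⟩
      show p.eval (j : ℚ) = (q.comp (Polynomial.X + Polynomial.C (a : ℚ)) - q).eval (j : ℚ)
      have hadd := congrFun (Snapper.χ_add k (hL 0).1 (shortExact_cokernel s)
        (QCoh.isCoh_structureModule' (X := Z)) (AmpleVan.isCoh_invertible hN) hQ) j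
      simp only [Pi.add_apply] at hadd
      have h2 : Snapper.χ k (L 0) (CohB1.tensorMod (Coh.structureModule Z) (CohB1.tensorPow (L 0) a)) j =
          q.eval ((j + a : ℕ) : ℚ) := by
        rw [← hqn (j + a)]
        refine congrArg Int.cast (CurveCohLib.euler_congr (k := k) ((cl_eq_iff.1 ?_).some))
        show PicF.cl (CohB1.tensorMod (CohB1.tensorMod (Coh.structureModule Z) (CohB1.tensorPow (L 0) a))
          (CohB1.tensorPow (L 0) j)) = PicF.cl (CohB1.tensorMod (Coh.structureModule Z) (CohB1.tensorPow (L 0) (j + a)))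
        rw [cl_tensor, hclN, cl_tensor, one_mul_cl, cl_tensorPow, cl_tensorPow, pow_add, mul_comm]
      rw [h2, hqn j, hpn j, Nat.cast_add] at hadd
      simp only [Polynomial.eval_sub, Polynomial.eval_comp, Polynomial.eval_add, Polynomial.eval_X, Polynomial.eval_C]
      linarith))
  have hpc : p.coeff n ≠ 0 := by
    rw [hrel, Nakai.coeff_comp_sub q hq]
    have : (0 : ℚ) < a := by exact_mod_cast ha
    exact ne_of_gt (by positivity)
  obtain ⟨V, i, hi, hV, hVT, hVd, -⟩ := exists_component k (hL 0).1 hQ hTd subset_rfl hpn hpc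
  haveI := hi
  haveI := hV
  have hη : topologicalKrullDim (closure ({i (genericPoint V)} : Set Z)) = (n : WithBot ℕ∞) := by
    rw [dim_closure_image, genericPoint_closure]
    exact ((Homeomorph.Set.univ V).isHomeomorph.topologicalKrullDim_eq).trans hVd
  have hpos := alt_pos_of_components k IH (L := fun j => L j.succ) (M := fun j => M j.succ) (fun j => hL _)
    (fun j => hM _) (fun j => hLM _) hQ hTd (hVT ⟨_, rfl⟩) hη
  have hMa := InvX.isInvertible_tensorPow (hM 0) a
  have hS := shortExact_tw (shortExact_cokernel s) hMa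
  have hadd := alt_add k (M := fun j => M j.succ) (fun j => hM _) hS
    (isCoh_twist k hMa QCoh.isCoh_structureModule') (isCoh_twist k hMa (AmpleVan.isCoh_invertible hN))
    (isCoh_twist k hMa hQ)
  simp only [ShortComplex.map_X₁, ShortComplex.map_X₂, ShortComplex.map_X₃] at hadd
  have e1 : alt k (fun j => M j.succ) ((AmpleVan.tw (CohB1.tensorPow (M 0) a)).obj
      (CohB1.tensorMod (Coh.structureModule Z) (CohB1.tensorPow (L 0) a))) =
      alt k (fun j => M j.succ) (Coh.structureModule Z) := alt_congr_cl k (fun _ => rfl) (by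
    show PicF.cl (CohB1.tensorMod _ _) = _
    rw [cl_tensor, hclN, cl_tensorPow, ← mul_pow, hLM, one_pow, H23.PicMul.one_def])
  have e3 : alt k (fun j => M j.succ) ((AmpleVan.tw (CohB1.tensorPow (M 0) a)).obj (cokernel s)) =
      alt k (fun j => M j.succ) (cokernel s) := alt_twist k (fun j => hM _) hQ hMa hTd
  rw [e1, e3] at hadd
  have e : alt k (Fin.cons (CohB1.tensorPow (M 0) a) fun j => M j.succ) (Coh.structureModule Z) =
      alt k (fun j => M j.succ) (cokernel s) := by
    rw [alt_cons, hadd]
    exact add_sub_cancel_left _ _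
  rw [alt_cons_pow k hle (fun j => hM _) (hM 0) a] at e
  have hM0 : (Fin.cons (M 0) fun j => M j.succ : Fin (n + 1) → Z.Modules) = M := Fin.cons_self_tail M
  rw [hM0] at e
  rw [← e] at hpos
  exact pos_of_mul_pos_right hpos (Nat.cast_nonneg a)

include k in
theorem pos_zero : Pos.{u} k 0 := fun Z _ _ _ hdim L M hL hM hLM => by
  haveI := CurveCohLib.isNoetherian_of_proper (k := k) (X := Z)
  have hcl : ∀ x ∈ CohB1.support (Coh.structureModule Z), IsClosed ({x} : Set Z) := fun x _ => by
    rw [← Euler.closure_eq_self_of_dim_le_zero isClosed_univ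
      ((topologicalKrullDim_subspace_le Z _).trans hdim.le) (Set.mem_univ x)]
    exact isClosed_closure
  have e : alt k M (Coh.structureModule Z) = (Curv2.euler k Z (Coh.structureModule Z) : ℚ) := by
    rw [alt, Fintype.sum_unique]
    simp only [sgn, Finset.univ_eq_empty, Finset.prod_empty, one_mul]
    rfl
  rw [e, CurveCohLib.euler_eq_finrank_zero (k := k) QCoh.isCoh_structureModule' hcl]
  haveI := CurveCohLib.finite_HH (k := k) (QCoh.isCoh_structureModule' (X := Z)) 0
  haveI : Nontrivial (Coh.HH Z (Coh.structureModule Z) 0) :=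
    haveI : Nontrivial ((Coh.toAb (Coh.structureModule Z)).obj.obj (op ⊤)) :=
      inferInstanceAs (Nontrivial Γ(Z, ⊤))
    (Sheaf.H.equiv₀ (Coh.toAb (Coh.structureModule Z)) isTerminalTop).toEquiv.nontrivial
  exact_mod_cast Module.finrank_pos

include k in
theorem pos : ∀ n, Pos.{u} k n
  | 0 => pos_zero k
  | n + 1 => pos_succ k (pos n)

end Groth.Agent.Big
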