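import Groth.Agent.Big.RealForm
import Groth.Agent.Big.SectionDivisor
import Groth.Agent.Lib.InvEnd
import Groth.Agent.QCoh.Sections

/-!
# Effective classes and nef classes on a smooth surface
-/

set_option autoImplicit false
set_option linter.style.haveILetI false
set_option linter.unusedSectionVars false
set_option backward.isDefEq.respectTransparency false
set_option backward.isDefEq.respectTransparency.types false
set_option maxHeartbeats 1000000

universe u

open CategoryTheory CategoryTheory.Limits AlgebraicGeometry TopologicalSpace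
open Groth.Agent.H23.PicMul

noncomputable section

namespace Groth.Agent.Big.RealForm

open Groth.Agent NumR

/-- A nonzero section cuts out a divisor inverse to the module. -/
theorem exists_divisor_of_section {X : Scheme.{u}} [IsIntegral X] {L : X.Modules} (hL : PicF.IsInvertible L)
    (s : Coh.structureModule X ⟶ L) (hs : s ≠ 0) :
    ∃ D : X.IdealSheafData, BlowUp.IsEffCartierIdeal D ∧ PicF.cl L * PicF.cl (ClSub.idealMod D) = 1 := by
  haveI : Mono s := InvEnd.mono_of_ne_zero CurveDeg.isInvertible_structureModule hL s hs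
  refine ⟨_, zeroScheme_divisor hL s fun x => ?_⟩
  obtain ⟨U₀, hx, e, he⟩ := InvX.exists_frame hL x
  obtain ⟨U, hU, hxU, hle⟩ := exists_isAffineOpen_mem_and_subset (show x ∈ U₀ from hx)
  have hle' : U ≤ U₀ := hle
  have he' := he.res hle'
  obtain ⟨c, hc⟩ := (he' U le_rfl).2 (ZeroSchX.sv s U)
  have hce : ZeroSchX.sv s U = c • AModX.res L hle' e := by
    refine hc.symm.trans ?_
    show c • AModX.res L le_rfl (AModX.res L hle' e) = _
    rw [AModX.res_self]
  refine ⟨⟨U, hU⟩, hxU, AModX.res L hle' e, c, he', hce, fun h0 => ?_⟩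
  rw [h0, zero_smul] at hce
  haveI : Nonempty (U : Scheme) := ⟨⟨x, hxU⟩⟩
  have h1 : (1 : Γ(X, U)) = 0 := QCoh.app_injective s U (hce.trans (map_zero (s.app U).hom).symm)
  exact one_ne_zero h1

variable (k : Type u) [Field k] {X : Scheme.{u}} [X.Over (Spec (CommRingCat.of k))] [PicGrp.Law X]
  [IsProper (X ↘ Spec (CommRingCat.of k))] [Smooth (X ↘ Spec (CommRingCat.of k))] [IsIntegral X]
  (hdim : topologicalKrullDim X = 2) {B : N1R k X →ₗ[ℝ] N1R k X →ₗ[ℝ] ℝ} (hB : IsIntForm₂ k X B)

include hdim hB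

/-- The class of a divisor is a nonnegative combination of classes of curves. -/
theorem curve_decomp {D : X.IdealSheafData} (hD : BlowUp.IsEffCartierIdeal D)
    (hI : PicF.IsInvertible (ClSub.idealMod D)) :
    ∃ (T : Finset X) (w : X → ℚ) (C : X → X.IdealSheafData) (hC : ∀ ξ, PicF.IsInvertible (ClSub.idealMod (C ξ))),
      (∀ ξ ∈ T, 0 ≤ w ξ ∧ IsIntegral (C ξ).subscheme ∧ topologicalKrullDim ((C ξ).support : Set X) = 1) ∧
      ∀ x : N1R k X, B x (clR k X (ClSub.idealMod D) hI) =
        ∑ ξ ∈ T, (w ξ : ℝ) * B x (clR k X (ClSub.idealMod (C ξ)) (hC ξ)) := by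
  classical
  haveI := CurveCohLib.isNoetherian_of_proper (k := k) (X := X)
  have hQc := ParShLib.isCoh_quotMod D
  let T : Closeds X := ⟨_, QCoh.isClosed_support_of_isFT hQc.1 hQc.2⟩
  have hTd : topologicalKrullDim ↥(T : Set X) ≤ ((1 : ℕ) : WithBot ℕ∞) :=
    (H23.TopDim.dim_le_dim_of_subset (support_quotMod_subset D)).trans (dim_support_le k hD hdim.le)
  have hfin := Snapper.finite_topPts hTd
  let C : X → X.IdealSheafData := fun ξ =>
    if topologicalKrullDim (closure ({ξ} : Set X)) = 1 then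
      Scheme.IdealSheafData.vanishingIdeal (Closeds.closure {ξ}) else D
  have hC : ∀ ξ, BlowUp.IsEffCartierIdeal (C ξ) := fun ξ => by
    by_cases h : topologicalKrullDim (closure ({ξ} : Set X)) = 1
    · simp only [C, h, if_true]; exact isEffCartier_closure k hdim h
    · simp only [C, h, if_false]; exact hD
  have hCI : ∀ ξ, PicF.IsInvertible (ClSub.idealMod (C ξ)) := fun ξ => (S8914.result _).2 (hC ξ)
  have hCeq : ∀ ξ ∈ hfin.toFinset, C ξ = Scheme.IdealSheafData.vanishingIdeal (Closeds.closure {ξ}) := fun ξ hξ => by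
    have h : topologicalKrullDim (closure ({ξ} : Set X)) = 1 := (hfin.mem_toFinset.1 hξ).2.trans Nat.cast_one
    simp only [C, h, if_true]
  refine ⟨hfin.toFinset, fun ξ => Snapper.len (ClSub.quotMod D) ξ, C, hCI, fun ξ hξ => ?_, fun x => ?_⟩
  · have hd : topologicalKrullDim (closure ({ξ} : Set X)) = 1 := (hfin.mem_toFinset.1 hξ).2.trans Nat.cast_one
    rw [hCeq ξ hξ]
    refine ⟨Nat.cast_nonneg _, QCoh.isIntegral_closure_point ξ, ?_⟩
    rw [← Scheme.IdealSheafData.range_subschemeι, H23.RedSub.range_vanishingIdeal]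
    exact hd
  · let f : N1R k X →ₗ[ℝ] ℝ := B.flip (clR k X (ClSub.idealMod D) hI) -
      ∑ ξ ∈ hfin.toFinset, ((Snapper.len (ClSub.quotMod D) ξ : ℚ) : ℝ) •
        B.flip (clR k X (ClSub.idealMod (C ξ)) (hCI ξ))
    have hf : f = 0 := LinearMap.ext_on span_clR (by
      rintro _ ⟨M, hM, rfl⟩
      simp only [f, LinearMap.sub_apply, LinearMap.sum_apply, LinearMap.smul_apply, LinearMap.flip_apply,
        LinearMap.zero_apply, smul_eq_mul, B_clR hdim hB hM hI, B_clR hdim hB hM (hCI _), sub_eq_zero]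
      have h1 := pair_ideal k hD hM
      rw [alt_components k (fun i => by fin_cases i; exact hM) hQc hTd subset_rfl hfin.toFinset
        fun ξ => hfin.mem_toFinset] at h1
      rw [pair_symm, h1, Rat.cast_sum]
      refine Finset.sum_congr rfl fun ξ hξ => ?_
      rw [Rat.cast_mul, pair_symm, hCeq ξ hξ]
      refine congrArg _ (congrArg _ ?_)
      have hd : topologicalKrullDim (closure ({ξ} : Set X)) = 1 := (hfin.mem_toFinset.1 hξ).2.trans Nat.cast_one
      exact (pair_ideal k (isEffCartier_closure k hdim hd) hM).symm)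
    have := LinearMap.congr_fun hf x
    simpa [f, sub_eq_zero] using this

variable [Module.Finite ℝ (N1R k X)] {H : X.Modules} (hH : CohB1.IsAmple H)

omit [Module.Finite ℝ (N1R k X)] in
include hH in
/-- A class of positive square and degree has a multiple with a section. -/
theorem exists_section_pow {L : X.Modules} (hL : PicF.IsInvertible L) (h1 : 0 < pair k L L) (h2 : 0 < pair k L H) :
    ∃ (n : ℕ) (_ : 0 < n) (s : Coh.structureModule X ⟶ CohB1.tensorPow L n), s ≠ 0 := by
  haveI := CurveCohLib.isNoetherian_of_proper (k := k) (X := X)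
  obtain ⟨c, hc⟩ := exists_quad k hdim.le hL hH.1
  obtain ⟨e4, e3⟩ := pair_eq_of_quad k hdim.le hL hH.1 hc
  obtain ⟨n₀, hn⟩ := exists_growth_of_quad k hdim hH hL hc (by linarith) (by linarith)
  have h := hn (n₀ + 1) (Nat.le_succ _)
  have h0 : (0 : ℚ) ≤ c 3 / 2 * ((n₀ + 1 : ℕ) : ℚ) ^ 2 := mul_nonneg (by linarith) (sq_nonneg _)
  obtain ⟨s, hs⟩ := exists_hom_of_h0_pos k (M := CohB1.tensorPow L (n₀ + 1)) (by exact_mod_cast lt_of_le_of_lt h0 h)
  exact ⟨_, Nat.succ_pos _, s, hs⟩

include hH

/-- Every class in the positive cone near a rational one is a limit of effective ones: nef classes pair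
nonnegatively with the positive cone. -/
theorem nef_pair_posCone {x : N1R k X} (hx : x ∈ nefCone₂ k X B) {z : N1R k X}
    (hz : z ∈ posCone k X B H hH.1) : 0 ≤ B x z := by
  by_contra hne
  push Not at hne
  have hopen : IsOpen {z : N1R k X | z ∈ posCone k X B H hH.1 ∧ B x z < 0} :=
    ((isOpen_lt continuous_const (continuous_diag B)).inter (isOpen_lt continuous_const (continuous_right B _))).inter
      (isOpen_lt (IsModuleTopology.continuous_of_linearMap (B x)) continuous_const)
  obtain ⟨y, ⟨⟨hy1, hy2⟩, hy3⟩, hyq⟩ := (dense_ratPts k X).inter_open_nonempty _ hopen ⟨z, hz, hne⟩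
  obtain ⟨n, L, hL, hn, h⟩ := (mem_ratPts k X).1 hyq
  have hn' : (0 : ℝ) < n := by exact_mod_cast hn
  have e1 : B (clR k X L hL) (clR k X L hL) = (n : ℝ) * (n * B y y) := by
    rw [← h]; simp only [map_smul, LinearMap.smul_apply, smul_eq_mul]
  have e2 : B (clR k X L hL) (clR k X H hH.1) = (n : ℝ) * B y (clR k X H hH.1) := by
    rw [← h]; simp only [map_smul, LinearMap.smul_apply, smul_eq_mul]
  rw [B_clR hdim hB hL hL] at e1
  rw [B_clR hdim hB hL hH.1] at e2
  have hLL : 0 < pair k L L := by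
    have : (0 : ℝ) < ((pair k L L : ℚ) : ℝ) := e1 ▸ mul_pos hn' (mul_pos hn' hy1)
    exact_mod_cast this
  have hLH : 0 < pair k L H := by
    have : (0 : ℝ) < ((pair k L H : ℚ) : ℝ) := e2 ▸ mul_pos hn' hy2
    exact_mod_cast this
  obtain ⟨m, hm, s, hs⟩ := exists_section_pow k hdim hB hH hL hLL hLH
  have hP := InvX.isInvertible_tensorPow hL m
  obtain ⟨D, hD, hcl⟩ := exists_divisor_of_section hP s hs
  have hI := (S8914.result D).2 hD
  have hinv := clR_inverse k X hP hI (cl_eq_iff.1 (by rw [cl_tensor]; exact hcl.trans one_def.symm))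
  obtain ⟨T, w, C, hC, hTw, hsum⟩ := curve_decomp k hdim hB hD hI
  have h0 : 0 ≤ -B x (clR k X (ClSub.idealMod D) hI) := by
    rw [hsum x, ← Finset.sum_neg_distrib]
    refine Finset.sum_nonneg fun ξ hξ => ?_
    obtain ⟨hw, hint, hd⟩ := hTw ξ hξ
    have h := hx (C ξ) hint hd (hC ξ)
    rw [curveCl, map_neg] at h
    have hw' : (0 : ℝ) ≤ (w ξ : ℝ) := by exact_mod_cast hw
    nlinarith
  rw [hinv, clR_pow k X hL, ← h, map_neg, neg_neg, map_smul, map_smul, smul_eq_mul, smul_eq_mul] at h0
  have : (m : ℝ) * ((n : ℝ) * B x y) < 0 :=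
    mul_neg_of_pos_of_neg (by exact_mod_cast hm) (mul_neg_of_pos_of_neg hn' hy3)
  linarith

omit [Smooth (X ↘ Spec (CommRingCat.of k))] in
theorem h_mem_posCone : clR k X H hH.1 ∈ posCone k X B H hH.1 :=
  ⟨hh_pos hdim hB hH, hh_pos hdim hB hH⟩

/-- Nef classes have nonnegative square. -/
theorem nef_sq_nonneg {x : N1R k X} (hx : x ∈ nefCone₂ k X B) : 0 ≤ B x x := by
  by_contra hneg
  push Not at hneg
  set h := clR k X H hH.1
  have hp := hh_pos hdim hB hH
  have hxh : 0 ≤ B x h := nef_pair_posCone k hdim hB hH hx (h_mem_posCone k hdim hB hH)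
  set w := x - (B x h / B h h) • h with hwdef
  set a := B x h / B h h with ha
  have hs := symm hdim hB
  have hah : a * B h h = B x h := div_mul_cancel₀ _ hp.ne'
  have hwh : B w h = 0 := by
    simp only [hwdef, map_sub, map_smul, LinearMap.sub_apply, LinearMap.smul_apply, smul_eq_mul]; linarith
  have hxx : B x x = a ^ 2 * B h h + B w w := by
    simp only [hwdef, map_sub, map_smul, LinearMap.sub_apply, LinearMap.smul_apply, smul_eq_mul, hs h x]
    linear_combination (2 * a) * hah.symm
  have ha0 : 0 ≤ a := div_nonneg hxh hp.le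
  set r := -B w w / B h h with hr
  have hrh : r * B h h = -B w w := div_mul_cancel₀ _ hp.ne'
  have har : a ^ 2 < r := by
    rw [hr, lt_div_iff₀ hp]; linarith
  obtain ⟨s, hs0, hs1, hs2⟩ : ∃ s : ℝ, 0 < s ∧ r < s ^ 2 ∧ a * s < r := by
    rcases ha0.lt_or_eq with ha' | ha'
    · refine ⟨(a ^ 2 + r) / (2 * a), div_pos (by nlinarith [sq_nonneg a]) (by linarith), ?_, ?_⟩
      · rw [div_pow, lt_div_iff₀ (by positivity)]
        nlinarith [mul_pos (sub_pos.2 har) (sub_pos.2 har)]
      · have : a * ((a ^ 2 + r) / (2 * a)) = (a ^ 2 + r) / 2 := by field_simp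
        rw [this]; linarith
    · rw [← ha'] at har
      refine ⟨r + 1, by linarith, by nlinarith, by rw [← ha']; linarith⟩
  have hz : s • h + w ∈ posCone k X B H hH.1 := by
    constructor
    · simp only [map_add, map_smul, LinearMap.add_apply, LinearMap.smul_apply, smul_eq_mul, hs h w, hwh]
      nlinarith
    · show 0 < B (s • h + w) h
      simp only [map_add, map_smul, LinearMap.add_apply, LinearMap.smul_apply, smul_eq_mul, hwh]
      nlinarith [mul_pos hs0 hp]
  have h1 := nef_pair_posCone k hdim hB hH hx hz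
  have hxw : B x w = B w w := by
    have : x = w + a • h := by rw [hwdef]; abel
    conv_lhs => rw [this]
    simp only [map_add, map_smul, LinearMap.add_apply, LinearMap.smul_apply, smul_eq_mul, hs h w, hwh]
    ring
  rw [map_add, map_smul, smul_eq_mul, hxw, ← hah] at h1
  nlinarith

end Groth.Agent.Big.RealForm
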