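import Groth.Agent.Big.IntNum
import Groth.Agent.Snapper.Components

/-!
# Intersection numbers as alternating sums
-/

set_option autoImplicit false
set_option linter.style.haveILetI false
set_option linter.unusedSectionVars false
set_option backward.isDefEq.respectTransparency false
set_option backward.isDefEq.respectTransparency.types false
set_option maxHeartbeats 1000000

universe u

open CategoryTheory CategoryTheory.Limits AlgebraicGeometry TopologicalSpace Opposite
open Groth.Agent.H23.PicMul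

noncomputable section

namespace Groth.Agent.Big

open Groth.Agent

/-- The exponent vector of a point of the cube. -/
def cube {r : ℕ} (f : Fin r → Fin 2) : Fin r → ℕ := fun i => (f i : ℕ)

/-- The sign of a point of the cube. -/
def sgn {r : ℕ} (f : Fin r → Fin 2) : ℚ := ∏ i, (-1 : ℚ) ^ (f i : ℕ)

theorem alt_monomial {r : ℕ} (d : Fin r →₀ ℕ) (hd : (d.sum fun _ e => e) ≤ r) :
    ∑ f : Fin r → Fin 2, sgn f * ∏ i, (cube f i : ℚ) ^ d i =
      if d = Finsupp.equivFunOnFinite.symm (fun _ => 1) then (-1 : ℚ) ^ r else 0 := by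
  classical
  have h : ∑ f : Fin r → Fin 2, sgn f * ∏ i, (cube f i : ℚ) ^ d i = ∏ i, ((0 : ℚ) ^ d i - 1) := by
    simp only [sgn, cube, ← Finset.prod_mul_distrib]
    rw [← Fintype.prod_sum fun i (b : Fin 2) => (-1 : ℚ) ^ (b : ℕ) * ((b : ℕ) : ℚ) ^ d i]
    refine Finset.prod_congr rfl fun i _ => ?_
    simp [Fin.sum_univ_two, sub_eq_add_neg]
  rw [h]
  split_ifs with he
  · subst he
    simp
  · refine Finset.prod_eq_zero_iff.2 ?_
    obtain ⟨i, hi⟩ : ∃ i, d i = 0 := by
      by_contra hne
      push Not at hne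
      refine he (Finsupp.ext fun i => ?_)
      rw [Finsupp.sum_fintype _ _ (fun _ => rfl)] at hd
      have h1 : ∀ j ∈ (Finset.univ : Finset (Fin r)), 1 ≤ d j := fun j _ => Nat.one_le_iff_ne_zero.2 (hne j)
      have h2 : ∑ j : Fin r, d j = ∑ _j : Fin r, 1 := le_antisymm (by simpa using hd) (Finset.sum_le_sum h1)
      simpa using ((Finset.sum_eq_sum_iff_of_le h1).1 h2.symm i (Finset.mem_univ i)).symm
    exact ⟨i, Finset.mem_univ i, by rw [hi]; simp⟩

/-- The alternating sum over the cube extracts the square-free top coefficient. -/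
theorem alt_eval {r : ℕ} {P : MvPolynomial (Fin r) ℚ} (hP : P.totalDegree ≤ r) :
    ∑ f : Fin r → Fin 2, sgn f * MvPolynomial.eval (fun i => (cube f i : ℚ)) P =
      (-1 : ℚ) ^ r * P.coeff (Finsupp.equivFunOnFinite.symm fun _ => 1) := by
  classical
  simp only [MvPolynomial.eval_eq', Finset.mul_sum]
  rw [Finset.sum_comm]
  calc ∑ d ∈ P.support, ∑ f : Fin r → Fin 2, sgn f * (P.coeff d * ∏ i, (cube f i : ℚ) ^ d i)
      = ∑ d ∈ P.support, P.coeff d *
          (if d = Finsupp.equivFunOnFinite.symm (fun _ => 1) then (-1 : ℚ) ^ r else 0) := by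
        refine Finset.sum_congr rfl fun d hd => ?_
        rw [← alt_monomial d ((MvPolynomial.le_totalDegree hd).trans hP), Finset.mul_sum]
        exact Finset.sum_congr rfl fun f _ => by ring
    _ = (-1 : ℚ) ^ r * P.coeff (Finsupp.equivFunOnFinite.symm fun _ => 1) := by
        simp only [mul_ite, mul_zero, Finset.sum_ite_eq']
        split_ifs with h
        · ring
        · rw [MvPolynomial.notMem_support_iff.1 h]; ring

variable {X : Scheme.{u}} {r : ℕ}

theorem cl_tensorPows (F : X.Modules) : ∀ {r : ℕ} (L : Fin r → X.Modules) (n : Fin r → ℕ),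
    PicF.cl (Curv2.tensorPows F r L n) = PicF.cl F * ∏ i, PicF.cl (L i) ^ n i
  | 0, L, n => by simp [Curv2.tensorPows]
  | r + 1, L, n => by
    rw [Curv2.tensorPows, cl_tensor, cl_tensorPows F, cl_tensorPow, Fin.prod_univ_castSucc, mul_assoc]

theorem cl_tensorList {α : Type*} (M : α → X.Modules) : ∀ l : List α,
    PicF.cl (FGA.tensorList (l.map M)) = (l.map fun i => PicF.cl (M i)).prod
  | [] => by rw [List.map_nil, List.map_nil, List.prod_nil, H23.PicMul.one_def]; rfl
  | a :: l => by
    show PicF.cl (CohB1.tensorMod (M a) (FGA.tensorList (l.map M))) = _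
    rw [cl_tensor, cl_tensorList M l, List.map_cons, List.prod_cons]

variable (k : Type u) [Field k] [X.Over (Spec (CommRingCat.of k))] [IsProper (X ↘ Spec (CommRingCat.of k))]

/-- The intersection symbol, as a rational number. -/
def alt (M : Fin r → X.Modules) (F : X.Modules) : ℚ :=
  ∑ f : Fin r → Fin 2, sgn f * Snapper.χs k M F (cube f)

theorem χs_congr_cl {M : Fin r → X.Modules} {N : Fin r → X.Modules} {F G : X.Modules} {m n : Fin r → ℕ}
    (h : PicF.cl F * ∏ i, PicF.cl (M i) ^ m i = PicF.cl G * ∏ i, PicF.cl (N i) ^ n i) :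
    Snapper.χs k M F m = Snapper.χs k N G n :=
  congrArg Int.cast (CurveCohLib.euler_congr (k := k) (cl_eq_iff.1 (by rw [cl_tensorPows, cl_tensorPows, h])).some)

/-- The intersection number is the alternating sum. -/
theorem intNum_eq_alt {d : ℕ} (hd : topologicalKrullDim X ≤ d) {M : Fin r → X.Modules}
    (hM : ∀ i, PicF.IsInvertible (M i)) {F : X.Modules} (hF : Coh.IsCoh F) :
    (FGA.intNum k X d M F : ℚ) = alt k M F := by
  classical
  haveI := CurveCohLib.isNoetherian_of_proper (k := k) (X := X)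
  rw [FGA.intNum, Int.cast_sum, alt]
  let e : Finset (Fin r) ≃ (Fin r → Fin 2) :=
    { toFun := fun I i => if i ∈ I then 1 else 0
      invFun := fun f => Finset.univ.filter fun i => f i = 1
      left_inv := fun I => by ext i; simp
      right_inv := fun f => by
        funext i
        rcases Fin.exists_fin_two.1 ⟨f i, rfl⟩ with h | h <;> simp [h] }
  refine Fintype.sum_equiv e _ _ fun I => ?_
  have hs : sgn (e I) = (-1 : ℚ) ^ I.card := by
    simp only [sgn, e, Equiv.coe_fn_mk]
    rw [Finset.prod_pow_eq_pow_sum]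
    congr 1
    rw [Finset.sum_congr rfl fun i _ => show ((if i ∈ I then 1 else 0 : Fin 2) : ℕ) = if i ∈ I then 1 else 0 by
      split_ifs <;> rfl]
    simp
  have hcl : PicF.cl (CohB1.tensorMod (FGA.tensorList ((I.sort (· ≤ ·)).map M)) F) =
      PicF.cl (Curv2.tensorPows F r M (cube (e I))) := by
    rw [cl_tensor, cl_tensorList, cl_tensorPows, mul_comm, ← List.prod_toFinset _ (Finset.sort_nodup _ _),
      Finset.sort_toFinset, ← Finset.prod_filter_mul_prod_filter_not Finset.univ (· ∈ I)]
    congr 1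
    rw [Finset.filter_mem_eq_inter, Finset.univ_inter,
      Finset.prod_congr rfl (fun i hi => by simp [cube, e, hi] :
        ∀ i ∈ I, PicF.cl (M i) ^ cube (e I) i = PicF.cl (M i)),
      Finset.prod_congr rfl (fun i hi => by simp [cube, e, (Finset.mem_filter.1 hi).2] :
        ∀ i ∈ Finset.univ.filter (· ∉ I), PicF.cl (M i) ^ cube (e I) i = 1), Finset.prod_const_one, mul_one]
  obtain ⟨ψ⟩ := cl_eq_iff.1 hcl
  rw [hs, Snapper.χs, Nakai.eulerCharLE_eq_euler k hd
    ((QCoh.isQCoh_iff_iso ψ.symm).1 (Snapper.isCoh_tensorPows M hM _ hF).1),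
    CurveCohLib.euler_congr (k := k) ψ]
  push_cast
  rfl

theorem alt_congr_cl {M N : Fin r → X.Modules} {F G : X.Modules} (h : ∀ i, PicF.cl (M i) = PicF.cl (N i))
    (h' : PicF.cl F = PicF.cl G) : alt k M F = alt k N G :=
  Finset.sum_congr rfl fun f _ => congrArg (sgn f * ·) (χs_congr_cl k (by simp only [h, h']))

/-- Invariance under permutations. -/
theorem alt_perm (σ : Equiv.Perm (Fin r)) (M : Fin r → X.Modules) (F : X.Modules) :
    alt k (M ∘ σ) F = alt k M F := by
  refine Fintype.sum_equiv (σ.arrowCongr (Equiv.refl _)) _ _ fun f => ?_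
  have e : ∀ i, (σ.arrowCongr (Equiv.refl (Fin 2))) f i = f (σ.symm i) := fun i => rfl
  congr 1
  · simp only [sgn, e]
    exact (Equiv.prod_comp σ.symm fun i => (-1 : ℚ) ^ (f i : ℕ)).symm
  · refine χs_congr_cl k (congrArg (PicF.cl F * ·) ?_)
    simp only [cube, e, Function.comp_apply]
    refine (Fintype.prod_equiv σ _ _ fun i => ?_)
    rw [Equiv.symm_apply_apply]

/-- Splitting off the first entry. -/
theorem alt_cons (B : X.Modules) (M : Fin r → X.Modules) (F : X.Modules) :
    alt k (Fin.cons B M) F = alt k M F - alt k M (CohB1.tensorMod F B) := by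
  rw [alt, ← Equiv.sum_comp (Fin.consEquiv fun _ : Fin (r + 1) => Fin 2), Fintype.sum_prod_type, Fin.sum_univ_two,
    alt, alt, sub_eq_add_neg, ← Finset.sum_neg_distrib]
  congr 1 <;> refine Finset.sum_congr rfl fun g _ => ?_
  · congr 1
    · simp [sgn, Fin.prod_univ_succ]
    · show ((Curv2.euler k X _ : ℤ) : ℚ) = ((Curv2.euler k X _ : ℤ) : ℚ)
      refine congrArg Int.cast (CurveCohLib.euler_congr (k := k) (cl_eq_iff.1 ?_).some)
      rw [cl_tensorPows, cl_tensorPows, Fin.prod_univ_succ]
      simp [cube]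
  · rw [← neg_mul]
    congr 1
    · simp [sgn, Fin.prod_univ_succ]
    · show ((Curv2.euler k X _ : ℤ) : ℚ) = ((Curv2.euler k X _ : ℤ) : ℚ)
      refine congrArg Int.cast (CurveCohLib.euler_congr (k := k) (cl_eq_iff.1 ?_).some)
      rw [cl_tensorPows, cl_tensorPows, Fin.prod_univ_succ, cl_tensor]
      simp [cube, mul_assoc]

/-- Splitting off the last entry. -/
theorem alt_snoc (B : X.Modules) (M : Fin r → X.Modules) (F : X.Modules) :
    alt k (Fin.snoc M B) F = alt k M F - alt k M (CohB1.tensorMod F B) := by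
  rw [← alt_cons k B M F, Fin.snoc_eq_cons_rotate]
  exact alt_perm k (finRotate (r + 1)) _ F

variable {M : Fin r → X.Modules} (hM : ∀ i, PicF.IsInvertible (M i)) {F : X.Modules} (hF : Coh.IsCoh F)

include hM hF in
/-- The symbol vanishes on small supports. -/
theorem alt_eq_zero (hr : topologicalKrullDim ↥(CohB1.support F) < r) : alt k M F = 0 := by
  haveI := CurveCohLib.isNoetherian_of_proper (k := k) (X := X)
  obtain ⟨P, hP, hPn⟩ := Snapper.isMPolyLt_of_dim_lt k hM r ⟨_, QCoh.isClosed_support_of_isFT hF.1 hF.2⟩ hr F hF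
    subset_rfl
  have hdeg : P.totalDegree ≤ r := Finset.sup_le fun α hα => (hP α hα).le
  calc alt k M F = ∑ f : Fin r → Fin 2, sgn f * MvPolynomial.eval (fun i => (cube f i : ℚ)) P :=
        Finset.sum_congr rfl fun f _ => congrArg (sgn f * ·) (hPn _)
    _ = 0 := by rw [alt_eval hdeg, Snapper.coeff_eq_zero_of_degLt hP, mul_zero]

include hM hF in
/-- The symbol is a top coefficient. -/
theorem alt_eq_coeff (hr : topologicalKrullDim ↥(CohB1.support F) ≤ r) {P : MvPolynomial (Fin r) ℚ}
    (hP : ∀ n, Snapper.χs k M F n = MvPolynomial.eval (fun i => (n i : ℚ)) P) :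
    alt k M F = (-1 : ℚ) ^ r * P.coeff (Finsupp.equivFunOnFinite.symm fun _ => 1) := by
  obtain ⟨Q, hQ, hQn⟩ := Snapper.exists_mpoly k hM hF hr
  obtain rfl : P = Q := Snapper.eq_of_eval_nat fun n => (hP n).symm.trans (hQn n)
  rw [← alt_eval hQ]
  exact Finset.sum_congr rfl fun f _ => congrArg (sgn f * ·) (hP _)

include k in
theorem isCoh_twist {B : X.Modules} (hB : PicF.IsInvertible B) {F : X.Modules} (hF : Coh.IsCoh F) :
    Coh.IsCoh (CohB1.tensorMod F B) := by
  haveI := CurveCohLib.isNoetherian_of_proper (k := k) (X := X)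
  exact AmpleVan.isCoh_tensor hF (AmpleVan.isCoh_invertible hB)

include hF in
theorem dim_support_twist {B : X.Modules} (hB : PicF.IsInvertible B) {d : ℕ}
    (hr : topologicalKrullDim ↥(CohB1.support F) ≤ d) :
    topologicalKrullDim ↥(CohB1.support (CohB1.tensorMod F B)) ≤ d :=
  (H23.TopDim.dim_le_dim_of_subset (support_tensorMod_comm (ProjUPX.isQCoh_of_isInvertible hB) hF.1)).trans hr

include hM hF in
/-- Twisting by an invertible module does not change the symbol. -/
theorem alt_twist {B : X.Modules} (hB : PicF.IsInvertible B) (hr : topologicalKrullDim ↥(CohB1.support F) ≤ r) :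
    alt k M (CohB1.tensorMod F B) = alt k M F := by
  have h : ∀ i, PicF.IsInvertible ((Fin.cons B M : Fin (r + 1) → X.Modules) i) := Fin.cases hB hM
  have := alt_eq_zero k h hF (lt_of_le_of_lt hr (by exact_mod_cast Nat.lt_succ_self r))
  rw [alt_cons] at this
  linarith

include hM hF in
/-- Additivity in the first entry. -/
theorem alt_cons_tensor {A B : X.Modules} (hA : PicF.IsInvertible A) (hB : PicF.IsInvertible B)
    (hr : topologicalKrullDim ↥(CohB1.support F) ≤ (r + 1 : ℕ)) :
    alt k (Fin.cons (CohB1.tensorMod A B) M) F = alt k (Fin.cons A M) F + alt k (Fin.cons B M) F := by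
  have hB' : ∀ i, PicF.IsInvertible ((Fin.cons B M : Fin (r + 1) → X.Modules) i) := Fin.cases hB hM
  have e := alt_twist k hB' hF hA hr
  rw [alt_cons, alt_cons] at e
  rw [alt_cons, alt_cons, alt_cons]
  have e2 : alt k M (CohB1.tensorMod F (CohB1.tensorMod A B)) = alt k M (CohB1.tensorMod (CohB1.tensorMod F A) B) :=
    alt_congr_cl k (fun _ => rfl) (by rw [cl_tensor, cl_tensor, cl_tensor, cl_tensor, mul_assoc])
  rw [e2]
  linarith

include hM in
/-- Additivity in the coherent module. -/
theorem alt_add {S : ShortComplex X.Modules} (hS : S.ShortExact) (h1 : Coh.IsCoh S.X₁) (h2 : Coh.IsCoh S.X₂)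
    (h3 : Coh.IsCoh S.X₃) : alt k M S.X₂ = alt k M S.X₁ + alt k M S.X₃ := by
  simp only [alt, Snapper.χs_add k hM hS h1 h2 h3, Pi.add_apply, mul_add, Finset.sum_add_distrib]

include hM hF in
/-- The symbol is carried by the components of top dimension. -/
theorem alt_components {C : Closeds X} (hC : topologicalKrullDim ↥(C : Set X) ≤ r) (hFC : CohB1.support F ⊆ C)
    (T : Finset X) (hT : ∀ ξ, ξ ∈ T ↔ ξ ∈ Snapper.topPts C r) :
    alt k M F = ∑ ξ ∈ T, Snapper.len F ξ * alt k M (Snapper.clMod ξ) := by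
  obtain ⟨R, hR, hRn⟩ := Snapper.isMPolyLt_sub_components k hM hF hC hFC T hT
  have hdeg : R.totalDegree ≤ r := Finset.sup_le fun α hα => (hR α hα).le
  have h0 := alt_eval hdeg
  rw [Snapper.coeff_eq_zero_of_degLt hR, mul_zero] at h0
  simp only [← hRn, mul_sub, Finset.sum_sub_distrib, Finset.mul_sum] at h0
  rw [Finset.sum_comm] at h0
  have e : ∑ ξ ∈ T, Snapper.len F ξ * alt k M (Snapper.clMod ξ) =
      ∑ ξ ∈ T, ∑ f : Fin r → Fin 2, sgn f * (Snapper.len F ξ * Snapper.χs k M (Snapper.clMod ξ) (cube f)) := by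
    simp only [alt, Finset.mul_sum]
    exact Finset.sum_congr rfl fun ξ _ => Finset.sum_congr rfl fun f _ => by ring
  rw [e]
  exact sub_eq_zero.1 h0

end Groth.Agent.Big
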