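import Groth.Agent.Big.Connected
import Groth.Agent.Big.SectionDivisor
import Groth.Agent.PnCoh.Chow.Exists
import Groth.Agent.Nakai.Birat3
import Groth.Agent.Nakai.NefProper
import Groth.Agent.Lib.AVProj

/-!
# The complement of an affine open in a proper surface
-/

set_option autoImplicit false
set_option linter.style.haveILetI false
set_option linter.unusedSectionVars false
set_option backward.isDefEq.respectTransparency false
set_option backward.isDefEq.respectTransparency.types false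
set_option maxHeartbeats 1000000

universe u

open CategoryTheory CategoryTheory.Limits AlgebraicGeometry TopologicalSpace Opposite
open Groth.Agent.H23.PicMul

noncomputable section

namespace Groth.Agent.Big

open Groth.Agent

variable (k : Type u) [Field k]

/-- A locally closed subset closed in two opens has the expected trace on both. -/
theorem closure_inter_of_isClosed_preimage {P : Scheme.{u}} {S : Set P} (O : P.Opens)
    (h : IsClosed (O.ι ⁻¹' S)) : closure S ∩ (O : Set P) ⊆ S := fun z hz => by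
  have h1 : (⟨z, hz.2⟩ : O.toScheme) ∈ O.ι ⁻¹' closure S := hz.1
  rw [O.ι.isOpenEmbedding.isOpenMap.preimage_closure_eq_closure_preimage O.ι.continuous, h.closure_eq] at h1
  exact h1

/-- The reduced closure of a point as a variety, receiving maps from integral schemes. -/
theorem exists_lift_closure {U P : Scheme.{u}} [IsIntegral U] (g : U ⟶ P) :
    ∃ (Z : Scheme.{u}) (j : Z ⟶ P) (_ : IsClosedImmersion j) (_ : IsIntegral Z) (q : U ⟶ Z), q ≫ j = g ∧
      q (genericPoint U) = genericPoint Z ∧ Set.range j = closure (Set.range g) := by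
  let ζ := g (genericPoint U)
  let J := Scheme.IdealSheafData.vanishingIdeal (⟨closure ({ζ} : Set P), isClosed_closure⟩ : Closeds P)
  haveI : IsIntegral J.subscheme := QCoh.isIntegral_closure_point ζ
  have hr : Set.range J.subschemeι = closure {ζ} := H23.RedSub.range_vanishingIdeal _
  have hsub : Set.range g ⊆ closure {ζ} := by
    rintro _ ⟨u, rfl⟩
    exact (((genericPoint_spec U).specializes (Set.mem_univ u)).map g.continuous).mem_closure
  obtain ⟨q, hq⟩ := H23.RedSub.exists_lift_closed g J.subschemeι (by rw [hr]; exact hsub)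
  refine ⟨J.subscheme, J.subschemeι, inferInstance, inferInstance, q, hq, ?_, ?_⟩
  · apply J.subschemeι.isClosedEmbedding.injective
    rw [← Scheme.Hom.comp_apply, hq]
    have h := QCoh.range_eq_closure J.subschemeι
    rw [hr] at h
    exact ((show IsGenericPoint ζ (closure {ζ}) from rfl).eq
      (show IsGenericPoint (J.subschemeι (genericPoint J.subscheme)) (closure {ζ}) from h.symm))
  · rw [hr]
    exact subset_antisymm (closure_mono (Set.singleton_subset_iff.2 ⟨_, rfl⟩))
      (closure_minimal hsub isClosed_closure)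

/-- The dimension of a variety containing an embedded open copy of another. -/
theorem dim_of_range_open {U Z : Scheme.{u}} [Z.Over (Spec (CommRingCat.of k))]
    [LocallyOfFiniteType (Z ↘ Spec (CommRingCat.of k))] [IsIntegral Z] [Nonempty U] (q : U ⟶ Z)
    (hq : Topology.IsEmbedding q) (O : Z.Opens) (hO : Set.range q = (O : Set Z)) :
    topologicalKrullDim Z = topologicalKrullDim U := by
  obtain ⟨u⟩ := (inferInstance : Nonempty U)
  rw [← S1618.result k Z O ⟨q u, hO.subset ⟨u, rfl⟩⟩]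
  exact ((hq.toHomeomorph.trans (Homeomorph.setCongr hO)).isHomeomorph.topologicalKrullDim_eq).symm

variable {X : Scheme.{u}} [X.Over (Spec (CommRingCat.of k))] [IsProper (X ↘ Spec (CommRingCat.of k))]

include k in
/-- The complement of a nonempty affine open of an integral proper surface is connected. -/
theorem isConnected_compl_affine [IsIntegral X] (hdim : topologicalKrullDim X = 2) (U : X.Opens)
    (hU : IsAffineOpen U) (hne : (U : Set X).Nonempty) : _root_.IsConnected ((U : Set X)ᶜ) := by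
  classical
  let f := X ↘ Spec (CommRingCat.of k)
  haveI := CurveCohLib.isNoetherian_of_proper (k := k) (X := X)
  haveI : X.IsSeparated := AmpleVan.isSeparated_of_proper (X := X) (A := k)
  haveI : Nonempty U.toScheme := hne.to_subtype
  haveI : IsAffine U.toScheme := hU
  haveI : IsIntegral U.toScheme := isIntegral_of_isOpenImmersion U.ι
  obtain ⟨m, s, hs⟩ := PnCoh.Chow.exists_gens (U.ι ≫ f) (isAffineOpen_top U.toScheme)
  let 𝒜 := CohB1.polyGrading m k
  let t : MvPolynomial (Fin (m + 1)) k := MvPolynomial.X 0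
  let c : MvPolynomial (Fin (m + 1)) k →+* Γ(U.toScheme, ⊤) :=
    MvPolynomial.eval₂Hom (PnCoh.Chow.aHom (U.ι ≫ f) ⊤) (Fin.cons 1 s)
  have hct : c t = 1 := by simp [c, t]
  have hcu : IsUnit (c t) := by rw [hct]; exact isUnit_one
  let g : U.toScheme ⟶ CohB1.ProjSpace m k := ProjPt.pt 𝒜 c (ProjPt.X_mem 0) one_pos hcu
  have hgk : g ≫ CohB1.ProjSpace.toSpec m k = U.ι ≫ f := by
    show ProjPt.pt 𝒜 c (ProjPt.X_mem 0) one_pos hcu ≫ Proj.toSpecZero 𝒜 ≫ Spec.map _ = _
    rw [← Category.assoc, ProjPt.pt_toSpecZero, Category.assoc, ← Spec.map_comp, ProjPt.eq_toSpecΓ (U.ι ≫ f)]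
    congr 2
    refine CommRingCat.hom_ext (RingHom.ext fun a => ?_)
    show c (MvPolynomial.C a) = _
    rw [MvPolynomial.eval₂Hom_C]
    show ((Scheme.ΓSpecIso (CommRingCat.of k)).inv ≫ (U.ι ≫ f).appLE ⊤ ⊤ le_top) a = _
    rw [show (U.ι ≫ f).appLE ⊤ ⊤ le_top = (U.ι ≫ f).appTop from ((U.ι ≫ f).app_eq_appLE (U := ⊤)).symm]
  let Dt : (CohB1.ProjSpace m k).Opens := Proj.basicOpen 𝒜 t
  have hgD : g ⁻¹ᵁ Dt = ⊤ :=
    (ProjPt.pt_preimage_basicOpen 𝒜 c (ProjPt.X_mem 0) one_pos hcu (ProjPt.X_mem 0) one_pos).trans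
      (U.toScheme.basicOpen_of_isUnit hcu)
  have hgr : Set.range g ⊆ Set.range Dt.ι := by
    rintro _ ⟨u, rfl⟩
    rw [Scheme.Opens.range_ι]
    exact hgD.ge (Set.mem_univ u)
  let g' := IsOpenImmersion.lift Dt.ι g hgr
  have hg' : g' ≫ Dt.ι = g := IsOpenImmersion.lift_fac _ _ _
  haveI : IsAffine Dt.toScheme := Proj.isAffineOpen_basicOpen 𝒜 t (ProjPt.X_mem 0) one_pos
  haveI : IsClosedImmersion g' := by
    refine IsClosedImmersion.of_surjective_of_isAffine g' fun x => ?_
    obtain ⟨P, hP⟩ := hs x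
    let a : HomogeneousLocalization.Away 𝒜 t :=
      MvPolynomial.eval₂Hom (ProjPt.cst 0) (fun j : Fin m => ProjPt.crd 0 j.succ) P
    have e1 : ProjPt.coordHom 𝒜 c hcu a = x := by
      refine Eq.trans ?_ hP
      refine RingHom.congr_fun (f := (ProjPt.coordHom 𝒜 c hcu).comp
        (MvPolynomial.eval₂Hom (ProjPt.cst 0) fun j : Fin m => ProjPt.crd 0 j.succ)) ?_ P
      refine MvPolynomial.ringHom_ext (fun r => ?_) fun j => ?_
      · rw [RingHom.comp_apply, MvPolynomial.eval₂Hom_C, MvPolynomial.eval₂Hom_C]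
        have hr : ((algebraMap k (𝒜 0) r : 𝒜 0) : MvPolynomial (Fin (m + 1)) k) ∈ 𝒜 (0 • 1) := by
          rw [zero_smul]; exact (algebraMap k (𝒜 0) r).2
        have hc : ProjPt.cst (n := m) 0 r = HomogeneousLocalization.Away.mk 𝒜 (ProjPt.X_mem 0) 0 _ hr := by
          apply HomogeneousLocalization.val_injective
          rw [HomogeneousLocalization.Away.val_mk]
          simp [ProjPt.cst, HomogeneousLocalization.fromZeroRingHom]
        rw [hc]
        refine (ProjPt.coordHom_mk_eq_iff 𝒜 c hcu (ProjPt.X_mem 0) 0 _ hr _).2 ?_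
        rw [pow_zero, mul_one]
        exact (MvPolynomial.eval₂Hom_C _ _ r).symm
      · rw [RingHom.comp_apply, MvPolynomial.eval₂Hom_X', MvPolynomial.eval₂Hom_X']
        refine (ProjPt.coordHom_mk_eq_iff 𝒜 c hcu (ProjPt.X_mem 0) 1 _ _ _).2 ?_
        simp [c, t]
    have e2 := ProjPt.pt_appLE 𝒜 c (ProjPt.X_mem 0) one_pos hcu hgD.ge a
    have e3 : g.appLE Dt ⊤ hgD.ge = Dt.ι.appLE Dt ⊤ (by simp) ≫ g'.appTop := by
      rw [Scheme.Hom.appTop, Scheme.Hom.app_eq_appLE, Scheme.Hom.appLE_comp_appLE]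
      exact PnCoh.Chow.appLE_congr_hom hg'.symm _ _ _
    refine ⟨Dt.ι.appLE Dt ⊤ (by simp) ((Proj.awayToSection 𝒜 t).hom a), ?_⟩
    rw [← CommRingCat.comp_apply, ← e3]
    exact e2.trans e1
  let P := pullback f (CohB1.ProjSpace.toSpec m k)
  let fst : P ⟶ X := pullback.fst _ _
  let snd : P ⟶ CohB1.ProjSpace m k := pullback.snd _ _
  haveI := PnCoh.Chow.isProper_toSpec m k
  haveI : IsProper fst := MorphismProperty.pullback_fst _ _ inferInstance
  haveI : IsProper snd := MorphismProperty.pullback_snd _ _ inferInstance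
  let γ : U.toScheme ⟶ P := pullback.lift U.ι g hgk.symm
  have hγf : γ ≫ fst = U.ι := pullback.lift_fst _ _ _
  have hγs : γ ≫ snd = g := pullback.lift_snd _ _ _
  let O1 : P.Opens := snd ⁻¹ᵁ Dt
  let O2 : P.Opens := fst ⁻¹ᵁ U
  have hmem1 : Set.range γ ⊆ (O1 : Set P) := by
    rintro _ ⟨u, rfl⟩
    show snd (γ u) ∈ Dt
    rw [← Scheme.Hom.comp_apply, hγs]
    exact hgD.ge (Set.mem_univ u)
  have hmem2 : Set.range γ ⊆ (O2 : Set P) := by
    rintro _ ⟨u, rfl⟩
    show fst (γ u) ∈ U
    rw [← Scheme.Hom.comp_apply, hγf]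
    exact u.2
  let γ1 := IsOpenImmersion.lift O1.ι γ (by rwa [Scheme.Opens.range_ι])
  let γ2 := IsOpenImmersion.lift O2.ι γ (by rwa [Scheme.Opens.range_ι])
  have hγ1 : γ1 ≫ O1.ι = γ := IsOpenImmersion.lift_fac _ _ _
  have hγ2 : γ2 ≫ O2.ι = γ := IsOpenImmersion.lift_fac _ _ _
  haveI : IsClosedImmersion γ1 := by
    have h : γ1 ≫ (snd ∣_ Dt) = g' := by
      rw [← cancel_mono Dt.ι, Category.assoc, morphismRestrict_ι, ← Category.assoc, hγ1, hγs, hg']
    haveI : IsClosedImmersion (γ1 ≫ (snd ∣_ Dt)) := by rw [h]; infer_instance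
    exact IsClosedImmersion.of_comp γ1 (snd ∣_ Dt)
  haveI : IsClosedImmersion γ2 := by
    have h : γ2 ≫ (fst ∣_ U) = 𝟙 U.toScheme := by
      rw [← cancel_mono U.ι, Category.assoc, morphismRestrict_ι, ← Category.assoc, hγ2, hγf, Category.id_comp]
    haveI : IsClosedImmersion (γ2 ≫ (fst ∣_ U)) := by rw [h]; infer_instance
    exact IsClosedImmersion.of_comp γ2 (fst ∣_ U)
  have hcl1 : closure (Set.range γ) ∩ (O1 : Set P) = Set.range γ := by
    refine subset_antisymm (closure_inter_of_isClosed_preimage O1 ?_) fun z hz => ⟨subset_closure hz, hmem1 hz⟩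
    rw [← hγ1, show Set.range (γ1 ≫ O1.ι) = O1.ι '' Set.range γ1 from
      (congrArg Set.range (funext fun v => Scheme.Hom.comp_apply γ1 O1.ι v)).trans (Set.range_comp O1.ι γ1),
      O1.ι.isOpenEmbedding.injective.preimage_image]
    exact γ1.isClosedEmbedding.isClosed_range
  have hcl2 : closure (Set.range γ) ∩ (O2 : Set P) = Set.range γ := by
    refine subset_antisymm (closure_inter_of_isClosed_preimage O2 ?_) fun z hz => ⟨subset_closure hz, hmem2 hz⟩
    rw [← hγ2, show Set.range (γ2 ≫ O2.ι) = O2.ι '' Set.range γ2 from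
      (congrArg Set.range (funext fun v => Scheme.Hom.comp_apply γ2 O2.ι v)).trans (Set.range_comp O2.ι γ2),
      O2.ι.isOpenEmbedding.injective.preimage_image]
    exact γ2.isClosedEmbedding.isClosed_range
  obtain ⟨Z, jZ, hjZ, hZi, γ0, hγ0, hγ0η, hZr⟩ := exists_lift_closure γ
  haveI := hjZ
  haveI := hZi
  let π : Z ⟶ X := jZ ≫ fst
  let p : Z ⟶ CohB1.ProjSpace m k := jZ ≫ snd
  have hγ0π : γ0 ≫ π = U.ι := by rw [← Category.assoc, hγ0, hγf]
  have hγ0p : γ0 ≫ p = g := by rw [← Category.assoc, hγ0, hγs]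
  have htrace : ∀ {O : P.Opens}, closure (Set.range γ) ∩ (O : Set P) = Set.range γ →
      Set.range γ0 = jZ ⁻¹' (O : Set P) := fun {O} hO => by
    ext z
    constructor
    · rintro ⟨u, rfl⟩
      show jZ (γ0 u) ∈ (O : Set P)
      rw [← Scheme.Hom.comp_apply, hγ0]
      exact (hO.ge ⟨u, rfl⟩).2
    · intro hz
      obtain ⟨u, hu⟩ := hO.le ⟨hZr.subset ⟨z, rfl⟩, hz⟩
      exact ⟨u, jZ.isClosedEmbedding.injective (by rw [← Scheme.Hom.comp_apply, hγ0]; exact hu)⟩
  have hr1 : Set.range γ0 = ((p ⁻¹ᵁ Dt : Z.Opens) : Set Z) := htrace hcl1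
  have hr2 : Set.range γ0 = ((π ⁻¹ᵁ U : Z.Opens) : Set Z) := htrace hcl2
  letI : Z.Over (Spec (CommRingCat.of k)) := ⟨π ≫ f⟩
  haveI : IsProper (Z ↘ Spec (CommRingCat.of k)) := inferInstanceAs (IsProper (π ≫ f))
  have hUd : topologicalKrullDim U.toScheme = 2 := (S1618.result k X U hne).trans hdim
  have hemb : Topology.IsEmbedding γ0 := by
    refine Topology.IsEmbedding.of_comp γ0.continuous π.continuous ?_
    have h : (π ∘ γ0 : U.toScheme → X) = U.ι := funext fun u => by
      rw [Function.comp_apply, ← Scheme.Hom.comp_apply, hγ0π]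
    rw [h]
    exact U.ι.isOpenEmbedding.isEmbedding
  have hZd : topologicalKrullDim Z = 2 := (dim_of_range_open k γ0 hemb _ hr1).trans hUd
  have hpdeg : p.residueDegree (genericPoint Z) = 1 := by
    have h := CycLib.residueDegree_comp γ0 p (genericPoint U.toScheme)
    rw [H23.FiniteFibreSum.residueDegree_congr' hγ0p, hγ0η] at h
    haveI : IsPreimmersion g := by rw [← hg']; infer_instance
    rw [CycLib.residueDegree_preimmersion g] at h
    exact (Nat.eq_one_of_mul_eq_one_right h.symm)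
  obtain ⟨Z', hZ'i, π', hπ', hπ'η, hZ'd, hπ'deg, A₀, hA₀⟩ := Nakai.exists_chow k Z (d := 2) hZd
  haveI := hZ'i
  haveI := hπ'
  letI : Z'.Over (Spec (CommRingCat.of k)) := ⟨π' ≫ (Z ↘ Spec (CommRingCat.of k))⟩
  haveI : IsProper (Z' ↘ Spec (CommRingCat.of k)) :=
    inferInstanceAs (IsProper (π' ≫ (Z ↘ Spec (CommRingCat.of k))))
  let h : Z' ⟶ CohB1.ProjSpace m k := π' ≫ p
  have hgη : g (genericPoint U.toScheme) = h (genericPoint Z') := by
    rw [Scheme.Hom.comp_apply, hπ'η, ← hγ0η, ← Scheme.Hom.comp_apply, hγ0p]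
  have hhη : h (genericPoint Z') ∈ Dt := by rw [← hgη]; exact hgD.ge (Set.mem_univ _)
  obtain ⟨I, hI, hIs, hIcl⟩ := exists_hyperplane_divisor h 0 hhη
  obtain ⟨W, j, hj, hWi, gW, hgW, hgWη, hWr⟩ := exists_lift_closure g
  haveI := hj
  haveI := hWi
  letI : W.Over (Spec (CommRingCat.of k)) := ⟨j ≫ CohB1.ProjSpace.toSpec m k⟩
  haveI : IsProper (W ↘ Spec (CommRingCat.of k)) :=
    inferInstanceAs (IsProper (j ≫ CohB1.ProjSpace.toSpec m k))
  have hgW1 : Set.range gW = ((j ⁻¹ᵁ Dt : W.Opens) : Set W) := by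
    ext w
    constructor
    · rintro ⟨u, rfl⟩
      show j (gW u) ∈ Dt
      rw [← Scheme.Hom.comp_apply, hgW]
      exact hgD.ge (Set.mem_univ u)
    · intro hw
      have hg'c : IsClosed (Dt.ι ⁻¹' Set.range g) := by
        rw [← hg', show Set.range (g' ≫ Dt.ι) = Dt.ι '' Set.range g' from
      (congrArg Set.range (funext fun v => Scheme.Hom.comp_apply g' Dt.ι v)).trans (Set.range_comp Dt.ι g'),
          Dt.ι.isOpenEmbedding.injective.preimage_image]
        exact g'.isClosedEmbedding.isClosed_range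
      obtain ⟨u, hu⟩ := closure_inter_of_isClosed_preimage Dt hg'c ⟨hWr.subset ⟨w, rfl⟩, hw⟩
      exact ⟨u, j.isClosedEmbedding.injective (by rw [← Scheme.Hom.comp_apply, hgW]; exact hu)⟩
  have hWd : topologicalKrullDim W = 2 := by
    refine (dim_of_range_open k gW ?_ _ hgW1).trans hUd
    refine Topology.IsEmbedding.of_comp gW.continuous j.continuous ?_
    have h : (j ∘ gW : U.toScheme → CohB1.ProjSpace m k) = Dt.ι ∘ g' := funext fun u => by
      rw [Function.comp_apply, Function.comp_apply, ← Scheme.Hom.comp_apply, ← Scheme.Hom.comp_apply, hgW, hg']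
    rw [h]
    exact Dt.ι.isOpenEmbedding.isEmbedding.comp g'.isClosedEmbedding.isEmbedding
  obtain ⟨q, hq⟩ := H23.RedSub.exists_lift_closed h j (by
    rintro _ ⟨z, rfl⟩
    have h1 : h z ∈ closure {h (genericPoint Z')} :=
      (((genericPoint_spec Z').specializes (Set.mem_univ z)).map h.continuous).mem_closure
    rw [← hgη] at h1
    rw [hWr]
    exact closure_mono (Set.singleton_subset_iff.2 (show g (genericPoint U.toScheme) ∈ Set.range g from ⟨_, rfl⟩)) h1)
  have hqη : q (genericPoint Z') = genericPoint W := by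
    apply j.isClosedEmbedding.injective
    rw [← Scheme.Hom.comp_apply, hq, ← hgWη, ← Scheme.Hom.comp_apply, hgW]
    exact hgη.symm
  have hqdeg : q.residueDegree (genericPoint Z') = 1 := by
    have h1 := CycLib.residueDegree_comp q j (genericPoint Z')
    rw [H23.FiniteFibreSum.residueDegree_congr' hq, CycLib.residueDegree_preimmersion j, one_mul,
      CycLib.residueDegree_comp, hπ'η, hπ'deg, hpdeg] at h1
    exact h1.symm
  have hqk : q ≫ (W ↘ Spec (CommRingCat.of k)) = Z' ↘ Spec (CommRingCat.of k) := by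
    show q ≫ j ≫ CohB1.ProjSpace.toSpec m k = π' ≫ (jZ ≫ fst) ≫ f
    rw [reassoc_of% hq, Category.assoc, Category.assoc, Category.assoc]
    exact congrArg (fun φ => π' ≫ jZ ≫ φ) pullback.condition.symm
  let T := Twist.twist 𝒜 ((1 : ℕ) : ℤ)
  let A := (Scheme.Modules.pullback j).obj T
  letI : (CohB1.ProjSpace m k).Over (Spec (CommRingCat.of k)) := ⟨CohB1.ProjSpace.toSpec m k⟩
  haveI : IsProper (CohB1.ProjSpace m k ↘ Spec (CommRingCat.of k)) := PnCoh.Chow.isProper_toSpec m k
  have hA : CohB1.IsAmple A := AmpleDev.isAmple_pullback_finite k j (by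
    show CohB1.IsAmple (Twist.twistProjSpace m k ((1 : ℕ) : ℤ))
    rw [Nat.cast_one]; exact isAmple_hyperplane m k)
  let qA := (Scheme.Modules.pullback q).obj A
  have hqA := PicClLib.isInvertible_pullback q hA.1
  have hclA : PicF.cl qA = PicF.cl (PnCoh.Chow.pullTw h ((1 : ℕ) : ℤ)) :=
    cl_eq_iff.2 ⟨(Scheme.Modules.pullbackComp q j).app T ≪≫ (Scheme.Modules.pullbackCongr hq).app T⟩
  have hN := isInvertible_ideal hI
  have hAN : PicF.cl qA * PicF.cl (ClSub.idealMod I) = 1 := by rw [hclA]; exact hIcl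
  have hbig : 0 < pair k (ClSub.idealMod I) (ClSub.idealMod I) := by
    rw [pair_inverse k hZ'd.le hqA hN hAN hN, pair_symm,
      pair_inverse k hZ'd.le hqA hN hAN hqA, neg_neg, pair_pull k q hqk hqη hqdeg hZ'd hWd hA.1 hA.1]
    exact pair_self_pos k hWd hA
  have hnef : Nakai.Nef k A := by
    refine (nef_iff k hA.1).2 fun Y ι _ hY hYd => ?_
    haveI := hY
    letI : Y.Over (Spec (CommRingCat.of k)) := ⟨ι ≫ (W ↘ Spec (CommRingCat.of k))⟩
    haveI : IsProper (Y ↘ Spec (CommRingCat.of k)) :=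
      inferInstanceAs (IsProper (ι ≫ (W ↘ Spec (CommRingCat.of k))))
    obtain ⟨A', hA', hAA'⟩ := H23.PicInv.exists_inverse hA.1
    have hM : ∀ i, PicF.IsInvertible ((![A'] : Fin 1 → W.Modules) i) := fun i => by fin_cases i; exact hA'
    have hp := pos k 1 Y (hYd.trans Nat.cast_one.symm) ![(Scheme.Modules.pullback ι).obj A]
      (fun i => (Scheme.Modules.pullback ι).obj ((![A'] : Fin 1 → W.Modules) i))
      (fun i => by fin_cases i; exact AmpleDev.isAmple_pullback_finite k ι hA)
      (fun i => PicClLib.isInvertible_pullback ι (hM i))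
      (fun i => by
        fin_cases i
        show PicF.pullCl ι (PicF.cl A) * PicF.pullCl ι (PicF.cl A') = 1
        rw [← pullCl_mul, cl_mul_eq_one hAA', pullCl_one])
    rw [← alt_push k ι rfl hM QCoh.isQCoh_structureModule] at hp
    have hi := cdeg_inverse k ι (hYd.trans Nat.cast_one.symm).le hA.1 hA' (cl_mul_eq_one hAA')
    have hd : cdeg k ι A' = -alt k ![A'] ((Coh.push ι).obj (Coh.structureModule Y)) := rfl
    linarith
  have hconn := isPreconnected_divisor k hZ'd hA₀ hI hbig fun Y ι _ hY hYd => by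
    have hn := (nef_iff k hqA).1 (hnef.pullback_proper k q hqk hA.1) Y ι hY hYd
    rw [cdeg_inverse k ι (hYd.trans Nat.cast_one.symm).le hqA hN hAN]
    linarith
  have hsupp : (I.support : Set Z') = (π' ≫ π) ⁻¹' ((U : Set X)ᶜ) := by
    rw [hIs]
    show (π' ⁻¹' ((p ⁻¹ᵁ Dt : Z.Opens) : Set Z))ᶜ = _
    rw [← hr1, hr2]
    rfl
  have hsurj : Set.range (π' ≫ π) = Set.univ := by
    refine Set.eq_univ_of_univ_subset ?_
    rw [← genericPoint_closure]
    refine (π' ≫ π).isClosedMap.isClosed_range.closure_subset_iff.2 (Set.singleton_subset_iff.2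
      ⟨genericPoint Z', ?_⟩)
    rw [Scheme.Hom.comp_apply, hπ'η, ← hγ0η, ← Scheme.Hom.comp_apply, hγ0π]
    exact genericPoint_eq_of_isOpenImmersion U.ι
  have hcne : ((U : Set X)ᶜ).Nonempty := by
    by_contra hempty
    rw [Set.not_nonempty_iff_eq_empty, Set.compl_empty_iff] at hempty
    have hUtop : U = ⊤ := Opens.ext hempty
    subst hUtop
    haveI : IsAffine X := IsAffine.of_isIso X.topIso.inv
    haveI : X.IsQuasiAffine := inferInstance
    haveI := AVProj.finite_of_isProper_quasiAffine f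
    haveI : JacobsonSpace X := LocallyOfFiniteType.jacobsonSpace f
    haveI : DiscreteTopology X := inferInstance
    have h0 := topologicalKrullDim_zero_of_discreteTopology X
    rw [hdim] at h0
    exact absurd h0 (by norm_num)
  refine ⟨hcne, ?_⟩
  have := hconn.image (π' ≫ π) (π' ≫ π).continuous.continuousOn
  rwa [hsupp, Set.image_preimage_eq_inter_range, hsurj, Set.inter_univ] at this

end Groth.Agent.Big
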