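import Groth.Agent.Big.RealAmple
import Groth.Agent.AlgSpLib.CartierRegular

/-!
# Intersection matrices of curves on a surface
-/

set_option autoImplicit false
set_option linter.style.haveILetI false
set_option linter.unusedSectionVars false
set_option backward.isDefEq.respectTransparency false
set_option backward.isDefEq.respectTransparency.types false
set_option maxHeartbeats 1000000

universe u

open CategoryTheory CategoryTheory.Limits AlgebraicGeometry TopologicalSpace
open Groth.Agent.H23.PicMul

noncomputable section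

namespace Groth.Agent.Big.NegDef

open Groth.Agent

/-- For a negative definite matrix with nonnegative entries off the diagonal, nonpositive products come from
nonnegative vectors. -/
theorem nonneg_of_mul_nonpos {r : ℕ} (G : Fin r → Fin r → ℤ) (hoff : ∀ i j, i ≠ j → 0 ≤ G i j)
    (hneg : ∀ a : Fin r → ℤ, a ≠ 0 → ∑ i, ∑ j, a i * a j * G i j < 0) (s : Fin r → ℤ)
    (hs : ∀ j, ∑ i, s i * G i j ≤ 0) : ∀ i, 0 ≤ s i := by
  set m : Fin r → ℤ := fun i => max (-s i) 0 with hm
  suffices h : m = 0 by
    intro i
    have := congrFun h i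
    simp only [hm, Pi.zero_apply] at this
    have := le_max_left (-s i) 0
    omega
  by_contra hne
  have h1 := hneg m hne
  have h2 : ∑ j, m j * ∑ i, s i * G i j ≤ 0 :=
    Finset.sum_nonpos fun j _ => mul_nonpos_of_nonneg_of_nonpos (le_max_right _ _) (hs j)
  have hsp : ∀ i, s i = max (s i) 0 - m i := fun i => by
    simp only [hm]; rcases le_total (s i) 0 with h | h <;> simp [h]
  have h3 : 0 ≤ ∑ j, m j * ∑ i, max (s i) 0 * G i j := by
    refine Finset.sum_nonneg fun j _ => ?_
    rw [Finset.mul_sum]
    refine Finset.sum_nonneg fun i _ => ?_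
    rcases eq_or_ne i j with rfl | hij
    · have : m i * max (s i) 0 = 0 := by
        simp only [hm]; rcases le_total (s i) 0 with h | h <;> simp [h]
      rw [← mul_assoc, this, zero_mul]
    · exact mul_nonneg (le_max_right _ _) (mul_nonneg (le_max_right _ _) (hoff i j hij))
  have e : ∑ j, m j * ∑ i, s i * G i j =
      (∑ j, m j * ∑ i, max (s i) 0 * G i j) - ∑ i, ∑ j, m i * m j * G i j := by
    rw [Finset.sum_comm (f := fun i j => m i * m j * G i j), ← Finset.sum_sub_distrib]
    refine Finset.sum_congr rfl fun j _ => ?_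
    rw [Finset.mul_sum, Finset.mul_sum, ← Finset.sum_sub_distrib]
    exact Finset.sum_congr rfl fun i _ => by rw [hsp i]; ring_nf; rw [← hsp i]; ring
  linarith

variable (k : Type u) [Field k] {X : Scheme.{u}} [X.Over (Spec (CommRingCat.of k))]
  [IsProper (X ↘ Spec (CommRingCat.of k))] [IsIntegral X]

local notation "dot" I:max J:max =>
  FGA.intNum k X 2 ![ClSub.idealMod I, ClSub.idealMod J] (Coh.structureModule X)

include k

theorem cast_dot (hdim : topologicalKrullDim X = 2) {L M : X.Modules} (hL : PicF.IsInvertible L)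
    (hM : PicF.IsInvertible M) : (FGA.intNum k X 2 ![L, M] (Coh.structureModule X) : ℚ) = pair k L M :=
  intNum_eq_pair k hdim.le hL hM

theorem dot_symm (hdim : topologicalKrullDim X = 2) {L M : X.Modules} (hL : PicF.IsInvertible L)
    (hM : PicF.IsInvertible M) :
    FGA.intNum k X 2 ![L, M] (Coh.structureModule X) = FGA.intNum k X 2 ![M, L] (Coh.structureModule X) := by
  have h : (FGA.intNum k X 2 ![L, M] (Coh.structureModule X) : ℚ) =
      (FGA.intNum k X 2 ![M, L] (Coh.structureModule X) : ℚ) := by
    rw [cast_dot k hdim hL hM, cast_dot k hdim hM hL, pair_symm]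
  exact_mod_cast h

theorem dot_eq_euler (hdim : topologicalKrullDim X = 2) {I : X.IdealSheafData} (hI : PicF.IsInvertible (ClSub.idealMod I))
    {L : X.Modules} (hL : PicF.IsInvertible L) :
    FGA.intNum k X 2 ![ClSub.idealMod I, L] (Coh.structureModule X) =
      -(Curv2.euler k X (CohB1.tensorMod (ClSub.quotMod I) L) - Curv2.euler k X (ClSub.quotMod I)) := by
  have h : (FGA.intNum k X 2 ![ClSub.idealMod I, L] (Coh.structureModule X) : ℚ) =
      ((-(Curv2.euler k X (CohB1.tensorMod (ClSub.quotMod I) L) - Curv2.euler k X (ClSub.quotMod I)) : ℤ) : ℚ) := by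
    rw [cast_dot k hdim hI hL, pair_curve_self k hI hL, cdeg_eq]
    push_cast
    rfl
  exact_mod_cast h

theorem dot_ample_neg (hdim : topologicalKrullDim X = 2) {I : X.IdealSheafData}
    (hI : PicF.IsInvertible (ClSub.idealMod I)) (hIi : IsIntegral I.subscheme)
    (hId : topologicalKrullDim (I.support : Set X) = 1) {H : X.Modules} (hH : CohB1.IsAmple H) :
    FGA.intNum k X 2 ![ClSub.idealMod I, H] (Coh.structureModule X) < 0 := by
  haveI := hIi
  have h : (FGA.intNum k X 2 ![ClSub.idealMod I, H] (Coh.structureModule X) : ℚ) < 0 := by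
    rw [cast_dot k hdim hI hH.1, pair_curve_self k hI hH.1, neg_lt_zero]
    exact RealForm.cdeg_pos_of_ample k hH I.subschemeι
      ((AmpleDev.dim_eq_one_of_closedImmersion I.subschemeι I.range_subschemeι).trans hId)
  exact_mod_cast h

theorem dot_nonneg_of_not_subset (hdim : topologicalKrullDim X = 2) {I D : X.IdealSheafData}
    (hI : PicF.IsInvertible (ClSub.idealMod I)) (hIi : IsIntegral I.subscheme)
    (hId : topologicalKrullDim (I.support : Set X) = 1) (hD : BlowUp.IsEffCartierIdeal D)
    (hsub : ¬ (I.support : Set X) ⊆ (D.support : Set X)) : 0 ≤ dot I D := by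
  haveI := hIi
  have h : (0 : ℚ) ≤ (dot I D : ℚ) := by
    rw [cast_dot k hdim hI (isInvertible_ideal hD), pair_curve_self k hI (isInvertible_ideal hD), neg_nonneg]
    exact RealForm.cdeg_idealMod_nonpos_of_not_subset k I.subschemeι
      ((AmpleDev.dim_eq_one_of_closedImmersion I.subschemeι I.range_subschemeι).trans hId) hD
      (by rwa [I.range_subschemeι])
  exact_mod_cast h

theorem dot_nonneg_of_ne (hdim : topologicalKrullDim X = 2) {I J : X.IdealSheafData}
    (hI : PicF.IsInvertible (ClSub.idealMod I)) (hIi : IsIntegral I.subscheme)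
    (hId : topologicalKrullDim (I.support : Set X) = 1) (hJ : PicF.IsInvertible (ClSub.idealMod J))
    (hJi : IsIntegral J.subscheme) (hJd : topologicalKrullDim (J.support : Set X) = 1) (hne : I ≠ J) :
    0 ≤ dot I J := by
  haveI := hIi
  haveI := hJi
  refine dot_nonneg_of_not_subset k hdim hI hIi hId ((S8914.result J).1 hJ) fun hsub => hne ?_
  rw [AlgSpLib.CartierRegular.eq_vanishingIdeal_support I, AlgSpLib.CartierRegular.eq_vanishingIdeal_support J]
  exact congrArg _ (Closeds.ext (RealForm.eq_of_dim_eq J I.support.isClosed hJd hId hsub))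

theorem invertible_of_curve [Smooth (X ↘ Spec (CommRingCat.of k))] (hdim : topologicalKrullDim X = 2)
    {I : X.IdealSheafData} (hIi : IsIntegral I.subscheme) (hId : topologicalKrullDim (I.support : Set X) = 1) :
    PicF.IsInvertible (ClSub.idealMod I) := by
  haveI := hIi
  have h1 : topologicalKrullDim I.subscheme = 1 :=
    (AmpleDev.dim_eq_one_of_closedImmersion I.subschemeι I.range_subschemeι).trans hId
  obtain ⟨J, hJ1, hJ2, hJ3, hJs, -⟩ := exists_curve_ideal k hdim I.subschemeι h1
  haveI := hJ1
  have e : I = J := by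
    rw [AlgSpLib.CartierRegular.eq_vanishingIdeal_support I, AlgSpLib.CartierRegular.eq_vanishingIdeal_support J]
    exact congrArg _ (Closeds.ext ((I.range_subschemeι).symm.trans hJs.symm))
  rw [e]
  exact isInvertible_ideal hJ3

end Groth.Agent.Big.NegDef
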