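import Groth.Agent.Big.AffineSect
import Groth.Agent.Big.NegDef
import Groth.Agent.Big.Compactify
import Groth.Agent.CDiv6.Factorial
import Groth.Agent.S7603
import Mathlib.AlgebraicGeometry.Artinian

/-!
# An ample divisor on the boundary of an affine open of a regular proper surface
-/

set_option autoImplicit false
set_option linter.style.haveILetI false
set_option linter.unusedSectionVars false
set_option backward.isDefEq.respectTransparency false
set_option backward.isDefEq.respectTransparency.types false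
set_option maxHeartbeats 2000000

universe u

open CategoryTheory CategoryTheory.Limits AlgebraicGeometry TopologicalSpace
open Groth.Agent.H23.PicMul

noncomputable section

namespace Groth.Agent.Big.AffineBd

open Groth.Agent

variable (k : Type u) [Field k] {X : Scheme.{u}} [X.Over (Spec (CommRingCat.of k))]
  [IsProper (X ↘ Spec (CommRingCat.of k))] [IsIntegral X]

/-- A nonzero section cuts out a divisor supported off its locus. -/
theorem exists_divisor_of_locus {Y : Scheme.{u}} [IsIntegral Y] {M : Y.Modules} (hM : PicF.IsInvertible M)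
    (t : Γ(M, (⊤ : Y.Opens))) (ht : t ≠ 0) :
    ∃ B : Y.IdealSheafData, BlowUp.IsEffCartierIdeal B ∧
      (B.support : Set Y) = ((AmpleX.locus t : Y.Opens) : Set Y)ᶜ ∧
      PicF.cl M * PicF.cl (ClSub.idealMod B) = 1 := by
  let s := QCoh.homOfTop t
  have hsv : ∀ U : Y.Opens, ZeroSchX.sv s U = AModX.res M le_top t := fun U => by
    refine Eq.trans ?_ (one_smul Γ(Y, U) _)
    exact QCoh.homOfTop_app t (1 : Γ(Y, U))
  have hη := AffineSect.locus_ne_bot hM ht
  have key : ∀ x : Y, ∃ (U : Y.affineOpens) (_ : x ∈ U.1) (e : Γ(M, U.1)) (c : Γ(Y, U.1)),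
      InvX.IsFrame e ∧ ZeroSchX.sv s U.1 = c • e ∧ c ≠ 0 ∧ AmpleX.locus t ⊓ U.1 = Y.basicOpen c := fun x => by
    obtain ⟨U₀, hx, e, he⟩ := InvX.exists_frame hM x
    obtain ⟨U, hU, hxU, hle⟩ := exists_isAffineOpen_mem_and_subset (show x ∈ U₀ from hx)
    have hle' : U ≤ U₀ := hle
    obtain ⟨c, hc⟩ := (he.res hle').exists_coord le_rfl (AModX.res M (le_top : U ≤ ⊤) t)
    rw [AModX.res_self] at hc
    have hloc := AmpleX.locus_inf t le_top (he.res hle') hc
    refine ⟨⟨U, hU⟩, hxU, _, c, he.res hle', (hsv U).trans hc, fun h0 => ?_, hloc⟩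
    have := hloc.le ⟨hη, ((genericPoint_spec Y).mem_open_set_iff U.2).2 ⟨x, Set.mem_univ x, hxU⟩⟩
    rw [h0, Scheme.basicOpen_zero] at this
    exact this
  obtain ⟨hB, hcl⟩ := zeroScheme_divisor hM s fun x =>
    let ⟨U, hx, e, c, he, hc, hne, _⟩ := key x
    ⟨U, hx, e, c, he, hc, hne⟩
  refine ⟨_, hB, ?_, hcl⟩
  ext x
  obtain ⟨U, hx, e, c, he, hc, -, hb⟩ := key x
  rw [SetLike.mem_coe, Scheme.IdealSheafData.mem_support_iff_of_mem hx, ZeroSchX.ideal_zeroScheme hM s U,
    ZeroSchX.zeroIdealOn_eq_span s he hc, Scheme.zeroLocus_span, Scheme.zeroLocus_singleton]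
  show x ∉ (Y.basicOpen c : Set Y) ↔ _
  rw [← hb]
  exact ⟨fun h h' => h ⟨h', hx⟩, fun h h' => h h'.1⟩

omit [IsIntegral X] in
include k in
/-- An affine open of a proper scheme contains no curve. -/
theorem not_range_subset_affine {Y : Scheme.{u}} (ι : Y ⟶ X) [IsClosedImmersion ι] (hY : topologicalKrullDim Y = 1)
    {U : X.Opens} (hU : IsAffineOpen U) : ¬ Set.range ι ⊆ (U : Set X) := by
  intro hsub
  let l := IsOpenImmersion.lift U.ι ι (by rw [Scheme.Opens.range_ι]; exact hsub)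
  have hl : l ≫ U.ι = ι := IsOpenImmersion.lift_fac _ _ _
  haveI : IsClosedImmersion (l ≫ U.ι) := by rw [hl]; infer_instance
  haveI : IsClosedImmersion l := IsClosedImmersion.of_comp l U.ι
  haveI : IsAffine U.toScheme := hU
  haveI : IsAffine Y := isAffine_of_isAffineHom l
  let q := ι ≫ (X ↘ Spec (CommRingCat.of k))
  haveI : IsProper q := inferInstanceAs (IsProper (ι ≫ (X ↘ Spec (CommRingCat.of k))))
  haveI : IsAffineHom q := isAffineHom_of_isAffine q
  haveI : IsFinite q := IsFinite.iff_isProper_and_isAffineHom.2 ⟨inferInstance, inferInstance⟩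
  haveI : IsLocallyArtinian Y := IsLocallyArtinian.of_locallyQuasiFinite q
  have h0 : topologicalKrullDim Y ≤ 0 := topologicalKrullDim_zero_of_discreteTopology _
  rw [hY] at h0
  exact absurd h0 (by norm_num)

include k in
/-- A divisor meeting but not containing a curve has negative ideal degree on it. -/
theorem cdeg_idealMod_neg {Y : Scheme.{u}} (ι : Y ⟶ X) [IsClosedImmersion ι] [IsIntegral Y]
    (hY : topologicalKrullDim Y = 1) {D : X.IdealSheafData} (hD : BlowUp.IsEffCartierIdeal D)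
    (hsub : ¬ Set.range ι ⊆ (D.support : Set X)) (hmeet : (Set.range ι ∩ (D.support : Set X)).Nonempty) :
    cdeg k ι (ClSub.idealMod D) < 0 := by
  letI : Y.Over (Spec (CommRingCat.of k)) := ⟨ι ≫ (X ↘ Spec (CommRingCat.of k))⟩
  haveI : IsProper (Y ↘ Spec (CommRingCat.of k)) :=
    inferInstanceAs (IsProper (ι ≫ (X ↘ Spec (CommRingCat.of k))))
  haveI := CurveCohLib.isNoetherian_of_proper (k := k) (X := Y)
  have hη : ι (genericPoint Y) ∉ (D.support : Set X) := fun h => hsub (by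
    rw [← Set.image_univ, ← genericPoint_closure, ← ι.isClosedEmbedding.closure_image_eq, Set.image_singleton]
    exact D.support.isClosed.closure_subset_iff.2 (Set.singleton_subset_iff.2 h))
  have hE := isEffCartier_comap ι hD hη
  set E := D.comap ι
  rw [cdeg_self k ι rfl (isInvertible_ideal hD), cdeg_congr k (𝟙 Y) (cl_idealMod_comap ι D hD hE), cdeg,
    alt_push k (𝟙 Y) (Category.id_comp _) (fun j => by fin_cases j; exact isInvertible_ideal hE)
      QCoh.isQCoh_structureModule]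
  haveI : Mono ((AmpleVan.tw (Coh.structureModule Y)).map (ClSub.idealModι E)) := by
    haveI := AmpleVan.isEquivalence_tw (CurveDeg.isInvertible_structureModule (X := Y))
    haveI : Mono (ClSub.idealModι E) := inferInstanceAs (Mono (kernel.ι _))
    infer_instance
  have e := alt_cons_ideal k (M := (![] : Fin 0 → Y.Modules)) (fun i => i.elim0)
    (QCoh.isCoh_structureModule' (X := Y)) (isInvertible_ideal hE) (D := E)
  have hd0 : topologicalKrullDim ↥(E.support : Set Y) ≤ ((0 : ℕ) : WithBot ℕ∞) :=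
    dim_support_le k hE (e := 0) (hY.trans Nat.cast_one.symm).le
  rw [neg_lt_zero, alt_congr_cl k (N := Fin.cons (ClSub.idealMod E) ![]) (G := Coh.structureModule Y) (fun j => by
    fin_cases j; exact cl_eq_iff.2 ⟨(Scheme.Modules.pullbackId Y).app _⟩) rfl, e,
    alt_congr_cl k (N := (![] : Fin 0 → Y.Modules)) (G := ClSub.quotMod E) (fun i => i.elim0)
      (by rw [cl_tensor, one_mul_cl])]
  obtain ⟨_, ⟨y, rfl⟩, hy⟩ := hmeet
  have hyE : y ∈ E.support := by
    rw [show E.support = D.support.preimage ι.continuous from D.support_comap ι]; exact hy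
  refine alt_pos_of_components k (pos k 0) (L := (![] : Fin 0 → Y.Modules)) (fun i => i.elim0) (fun i => i.elim0)
    (fun i => i.elim0) (ParShLib.isCoh_quotMod E) ((H23.TopDim.dim_le_dim_of_subset (support_quotMod_subset _)).trans hd0)
    (CurveCohLib.GlobGen.nontrivial_stalk_quotMod E hyE) ?_
  have hcl := Euler.closure_eq_self_of_dim_le_zero E.support.isClosed hd0 (show y ∈ (E.support : Set Y) from hyE)
  rw [hcl]
  refine le_antisymm ((H23.TopDim.dim_le_dim_of_subset (Set.singleton_subset_iff.2 hyE)).trans hd0) ?_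
  haveI : Nonempty ↥({y} : Set Y) := ⟨⟨y, rfl⟩⟩
  haveI : Nonempty (IrreducibleCloseds ↥({y} : Set Y)) :=
    ⟨⟨closure {⟨y, rfl⟩}, isIrreducible_singleton.closure, isClosed_closure⟩⟩
  exact Order.krullDim_nonneg

variable (hdim : topologicalKrullDim X = 2) (hreg : ∀ x : X, IsRegularLocalRing (X.presheaf.stalk x))

/-- The ideal of the closure of a point. -/
abbrev cI (ξ : X) : X.IdealSheafData := Scheme.IdealSheafData.vanishingIdeal (Closeds.closure {ξ})

theorem support_cI (ξ : X) : ((cI ξ).support : Set X) = closure {ξ} := by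
  rw [← Scheme.IdealSheafData.range_subschemeι, H23.RedSub.range_vanishingIdeal]; rfl

include k hdim hreg

theorem isEffCartier_cI {η : X} (hη : topologicalKrullDim (closure ({η} : Set X)) = 1) :
    BlowUp.IsEffCartierIdeal (cI η) := by
  haveI := CurveCohLib.isNoetherian_of_proper (k := k) (X := X)
  haveI : IsIntegral (cI η).subscheme := QCoh.isIntegral_closure_point η
  have hgen : (cI η).subschemeι (genericPoint (cI η).subscheme) = η := by
    have h' : closure ({(cI η).subschemeι (genericPoint (cI η).subscheme)} : Set X) = closure {η} := by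
      rw [← Set.image_singleton, (cI η).subschemeι.isClosedEmbedding.closure_image_eq, genericPoint_closure,
        Set.image_univ, Scheme.IdealSheafData.range_subschemeι]
      exact support_cI η
    exact (show IsGenericPoint ((cI η).subschemeι (genericPoint (cI η).subscheme)) _ from h').eq isGenericPoint_closure
  refine DivX.isEffCartier_of_codim_one _ (by rw [hgen]; exact stalk_dim_curve_point hdim hη) fun x _ => ?_
  haveI := hreg x
  exact S2821.result _

omit hreg in
theorem coheight_eq_one {η : X} (hη : topologicalKrullDim (closure ({η} : Set X)) = 1) : Order.coheight η = 1 := by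
  have h := stalk_dim_curve_point hdim hη
  rw [ringKrullDim_stalk_eq_coheight] at h
  exact_mod_cast h

omit hreg in
theorem ne_generic {η : X} (hη : topologicalKrullDim (closure ({η} : Set X)) = 1) : η ≠ genericPoint X := fun h => by
  rw [h, genericPoint_closure, (Homeomorph.Set.univ X).isHomeomorph.topologicalKrullDim_eq, hdim] at hη
  exact absurd hη (by norm_num)

omit hreg in
theorem eq_of_mem_closure {η ξ : X} (hη : topologicalKrullDim (closure ({η} : Set X)) = 1)
    (hξ : topologicalKrullDim (closure ({ξ} : Set X)) = 1) (h : η ∈ closure ({ξ} : Set X)) : η = ξ := by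
  by_contra hne
  have hs : ξ ⤳ η := specializes_iff_mem_closure.2 h
  have h1 := Order.coheight_add_one_le (show η < ξ from lt_of_le_not_ge hs fun h' => hne (Specializes.antisymm h' hs).eq)
  rw [coheight_eq_one k hdim hη, coheight_eq_one k hdim hξ] at h1
  exact absurd h1 (by norm_num)

omit hreg in
theorem dim_closure_eq_one {q : X} (hq : q ≠ genericPoint X) {y : X} (hy : y ∈ closure ({q} : Set X)) (hyq : y ≠ q) :
    topologicalKrullDim (closure ({q} : Set X)) = 1 := by
  refine le_antisymm ?_ ?_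
  · have hne : closure ({q} : Set X) ≠ Set.univ := fun h =>
      hq ((show IsGenericPoint q Set.univ from h).eq (genericPoint_spec X))
    have hlt := H23.TopDim.dim_lt_of_ssubset (Nakai.ne_top_of_dim_eq (d := 2) hdim) isClosed_closure hne
    rw [hdim] at hlt
    exact Nakai.le_pred_of_lt (e := 1) hlt
  · by_contra h
    have h0 : topologicalKrullDim (closure ({q} : Set X)) ≤ ((0 : ℕ) : WithBot ℕ∞) :=
      Nakai.le_pred_of_lt (e := 0) (by rw [zero_add, Nat.cast_one]; exact not_le.1 h)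
    haveI := CurveCohLib.isNoetherian_of_proper (k := k) (X := X)
    have hcl := Euler.closure_eq_self_of_dim_le_zero isClosed_closure h0 hy
    have hqc : q ∈ closure ({y} : Set X) := by
      by_contra hn
      have h2 : closure ({q} : Set X) ∩ closure {y} = closure {y} :=
        Set.inter_eq_right.2 (isClosed_closure.closure_subset_iff.2 (Set.singleton_subset_iff.2 hy))
      have hq0 := Euler.closure_eq_self_of_dim_le_zero isClosed_closure h0 (subset_closure rfl)
      rw [hq0] at hy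
      exact hyq hy
    rw [hcl] at hqc
    exact hyq hqc.symm

omit hreg in
/-- Every point of a Cartier divisor lies on one of its curves. -/
theorem exists_curve_generization {D : X.IdealSheafData} (hD : BlowUp.IsEffCartierIdeal D) {x : X}
    (hx : x ∈ (D.support : Set X)) :
    ∃ η ∈ (D.support : Set X), η ⤳ x ∧ topologicalKrullDim (closure ({η} : Set X)) = 1 := by
  haveI := CurveCohLib.isNoetherian_of_proper (k := k) (X := X)
  obtain ⟨z, rfl⟩ : x ∈ Set.range D.subschemeι := by rwa [D.range_subschemeι]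
  obtain ⟨w, hwz, hmax⟩ := FibDim.exists_maximal_generization z
  have hw : D.subschemeι w ∈ (D.support : Set X) := by rw [← D.range_subschemeι]; exact ⟨w, rfl⟩
  have hgen : ∀ y ∈ (D.support : Set X), y ⤳ D.subschemeι w → y = D.subschemeι w := fun y hy hyw => by
    rw [← D.range_subschemeι] at hy
    obtain ⟨v, rfl⟩ := hy
    rw [hmax v (D.subschemeι.isEmbedding.isInducing.specializes_iff.1 hyw)]
  refine ⟨D.subschemeι w, hw, hwz.map D.subschemeι.continuous, ?_⟩
  refine le_antisymm ((H23.TopDim.dim_le_dim_of_subset (D.support.isClosed.closure_subset_iff.2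
    (Set.singleton_subset_iff.2 hw))).trans ((dim_support_le k hD (e := 1) hdim.le).trans Nat.cast_one.le)) ?_
  by_contra hlt
  have h0 : topologicalKrullDim (closure ({D.subschemeι w} : Set X)) ≤ ((0 : ℕ) : WithBot ℕ∞) :=
    Nakai.le_pred_of_lt (e := 0) (by rw [zero_add, Nat.cast_one]; exact not_le.1 hlt)
  have hcl := Euler.closure_eq_self_of_dim_le_zero isClosed_closure h0 (subset_closure (Set.mem_singleton _))
  have h1 := MeroX.stalk_dim_eq_one D hD _ hw hgen
  rw [← S1617.result k X _ (hcl ▸ isClosed_closure)] at h1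
  have h2 : topologicalKrullDim X ≤ FlatMor.localDim X (D.subschemeι w) :=
    le_iInf fun U => (S1618.result k X U.1 ⟨_, U.2⟩).ge
  rw [h1, hdim] at h2
  exact absurd h2 (by norm_num)

omit hreg in
/-- The pairing with a divisor splits along the curves through its top points. -/
theorem pair_decomp {B : X.IdealSheafData} (hB : BlowUp.IsEffCartierIdeal B) (F : Finset X)
    (hF : ∀ ξ ∈ F, topologicalKrullDim (closure ({ξ} : Set X)) = 1)
    (hBF : ∀ ξ ∈ (B.support : Set X), topologicalKrullDim (closure ({ξ} : Set X)) = 1 → ξ ∈ F)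
    {M : X.Modules} (hM : PicF.IsInvertible M) (hI : ∀ ξ ∈ F, BlowUp.IsEffCartierIdeal (cI ξ)) :
    pair k (ClSub.idealMod B) M = ∑ ξ ∈ F, Snapper.len (ClSub.quotMod B) ξ * pair k (ClSub.idealMod (cI ξ)) M := by
  classical
  haveI := CurveCohLib.isNoetherian_of_proper (k := k) (X := X)
  have hQc := ParShLib.isCoh_quotMod B
  let T : Closeds X := ⟨_, QCoh.isClosed_support_of_isFT hQc.1 hQc.2⟩
  have hTd : topologicalKrullDim ↥(T : Set X) ≤ ((1 : ℕ) : WithBot ℕ∞) :=
    (H23.TopDim.dim_le_dim_of_subset (support_quotMod_subset B)).trans (dim_support_le k hB (e := 1) hdim.le)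
  have hfin := Snapper.finite_topPts hTd
  have hM1 : ∀ i, PicF.IsInvertible ((![M] : Fin 1 → X.Modules) i) := fun i => by fin_cases i; exact hM
  rw [pair_ideal k hB hM, alt_components k hM1 hQc hTd subset_rfl hfin.toFinset fun ξ => hfin.mem_toFinset]
  refine Eq.trans (Finset.sum_congr rfl fun ξ hξ => ?_) (Finset.sum_subset (s₁ := hfin.toFinset) (fun ξ hξ =>
    hBF ξ (support_quotMod_subset B (hfin.mem_toFinset.1 hξ).1) ((hfin.mem_toFinset.1 hξ).2.trans Nat.cast_one))
    fun ξ hξF hξ => ?_)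
  · have hξF : ξ ∈ F :=
      hBF ξ (support_quotMod_subset B (hfin.mem_toFinset.1 hξ).1) ((hfin.mem_toFinset.1 hξ).2.trans Nat.cast_one)
    rw [pair_ideal k (hI ξ hξF) hM]
    rfl
  · have hns : ξ ∉ CohB1.support (ClSub.quotMod B) := fun h =>
      hξ (hfin.mem_toFinset.2 ⟨h, (hF ξ hξF).trans Nat.cast_one.symm⟩)
    rw [Snapper.len_eq_zero hns, zero_mul]

omit hreg in
theorem len_pos {B : X.IdealSheafData} (hB : BlowUp.IsEffCartierIdeal B) {ξ : X} (hξ : ξ ∈ (B.support : Set X))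
    (hd : topologicalKrullDim (closure ({ξ} : Set X)) = 1) : 0 < Snapper.len (ClSub.quotMod B) ξ := by
  haveI := CurveCohLib.isNoetherian_of_proper (k := k) (X := X)
  have hQc := ParShLib.isCoh_quotMod B
  have hn : Nontrivial ((ClSub.quotMod B).presheaf.stalk ξ) :=
    not_subsingleton_iff_nontrivial.1 (CurveCohLib.GlobGen.nontrivial_stalk_quotMod B hξ)
  have hfin := CycLib.length_stalk_lt_top _ hQc (ξ := ξ) fun y hy hyx =>
    Snapper.eq_of_specializes_topPts (C := B.support) (dim_support_le k hB (e := 1) hdim.le)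
      ⟨hξ, hd.trans Nat.cast_one.symm⟩ (support_quotMod_subset B (not_subsingleton_iff_nontrivial.2 hy)) hyx
  rw [Snapper.len, Nat.cast_pos]
  exact Nat.pos_of_ne_zero fun h0 => (ENat.toNat_eq_zero.1 h0).elim
    (fun h => not_subsingleton_iff_nontrivial.2 hn (Module.length_eq_zero_iff.1 h)) hfin.ne

theorem pair_cI_nonneg {η ξ : X} (hη : topologicalKrullDim (closure ({η} : Set X)) = 1)
    (hξ : topologicalKrullDim (closure ({ξ} : Set X)) = 1) (hne : η ≠ ξ) :
    0 ≤ pair k (ClSub.idealMod (cI η)) (ClSub.idealMod (cI ξ)) ∧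
      ((closure ({η} : Set X) ∩ closure {ξ}).Nonempty → 0 < pair k (ClSub.idealMod (cI η)) (ClSub.idealMod (cI ξ))) := by
  have h1 := isEffCartier_cI k hdim hreg hη
  have h2 := isEffCartier_cI k hdim hreg hξ
  haveI : IsIntegral (cI η).subscheme := QCoh.isIntegral_closure_point η
  have hr : Set.range (cI η).subschemeι = closure {η} :=
    (Scheme.IdealSheafData.range_subschemeι _).trans (support_cI η)
  have hY : topologicalKrullDim (cI η).subscheme = 1 := (AmpleDev.dim_eq_one_of_closedImmersion _ hr).trans hη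
  have hsub : ¬ Set.range (cI η).subschemeι ⊆ ((cI ξ).support : Set X) := fun h => by
    rw [hr, support_cI] at h
    exact hne (eq_of_mem_closure k hdim hη hξ (h (subset_closure rfl)))
  rw [pair_curve_self k (isInvertible_ideal h1) (isInvertible_ideal h2), neg_nonneg, neg_pos]
  refine ⟨RealForm.cdeg_idealMod_nonpos_of_not_subset k _ hY h2 hsub, fun h => cdeg_idealMod_neg k _ hY h2 hsub ?_⟩
  rw [hr, support_cI]; exact h

/-- A point of the open part off finitely many curves specializing to a given point of the boundary. -/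
theorem exists_inner_curve {U : X.Opens} (F : Finset X)
    (hF : ∀ ξ ∈ F, topologicalKrullDim (closure ({ξ} : Set X)) = 1)
    (hUF : ∀ x : X, x ∉ U → ∃ η ∈ F, η ⤳ x) {η y : X} (hη : η ∈ F) (hy : η ⤳ y) (hyη : y ≠ η) (hyU : y ∉ U) :
    ∃ q : X, q ∈ U ∧ q ⤳ y ∧ topologicalKrullDim (closure ({q} : Set X)) = 1 := by
  classical
  haveI := CurveCohLib.isNoetherian_of_proper (k := k) (X := X)
  let A := X.presheaf.stalk y
  let P : X → Ideal A := fun ξ => if h : ξ ⤳ y then (CDiv6.primeOf h).asIdeal else ⊥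
  have hnle : ¬ (IsLocalRing.maximalIdeal A : Set A) ⊆ ⋃ ξ ∈ (F : Set X), (P ξ : Set A) := by
    rw [Ideal.subset_union_prime η η fun ξ hξ _ _ => by
      by_cases h : ξ ⤳ y
      · simp only [P, dif_pos h]; exact (CDiv6.primeOf h).isPrime
      · simp only [P, dif_neg h]; exact Ideal.isPrime_bot]
    rintro ⟨ξ, hξ, hle⟩
    by_cases h : ξ ⤳ y
    · simp only [P, dif_pos h] at hle
      have heq : (CDiv6.primeOf h).asIdeal = IsLocalRing.maximalIdeal A :=
        le_antisymm (IsLocalRing.le_maximalIdeal (CDiv6.primeOf h).isPrime.ne_top) hle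
      have hxy : ξ = y := by
        have h1 := CDiv6.fromSpecStalk_primeOf h
        rw [show CDiv6.primeOf h = IsLocalRing.closedPoint A from PrimeSpectrum.ext heq,
          Scheme.fromSpecStalk_closedPoint] at h1
        exact h1.symm
      subst hxy
      exact hyη (eq_of_mem_closure k hdim (hF ξ hξ) (hF η hη) hy.mem_closure)
    · simp only [P, dif_neg h, le_bot_iff] at hle
      have h1 := CDiv6.height_primeOf (hy)
      have h2 : (CDiv6.primeOf hy).asIdeal ≤ (⊥ : Ideal A) :=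
        hle ▸ IsLocalRing.le_maximalIdeal (CDiv6.primeOf hy).isPrime.ne_top
      rw [le_bot_iff.1 h2, coheight_eq_one k hdim (hF η hη), Ideal.height_bot] at h1
      exact zero_ne_one h1
  obtain ⟨g, hgm, hgP⟩ := Set.not_subset.1 hnle
  simp only [Set.mem_iUnion, not_exists] at hgP
  have hg0 : g ≠ 0 := fun h => hgP η hη (by rw [h]; exact zero_mem _)
  obtain ⟨Q, hQmin, hQle⟩ := Ideal.exists_minimalPrimes_le (I := Ideal.span {g}) (J := IsLocalRing.maximalIdeal A)
    ((Ideal.span_singleton_le_iff_mem _).2 hgm)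
  have hQp : Q.IsPrime := hQmin.1.1
  have hgQ : g ∈ Q := hQmin.1.2 (Ideal.mem_span_singleton_self g)
  have hQh : Q.height ≤ 1 := Ideal.height_le_one_of_isPrincipal_of_mem_minimalPrimes (Ideal.span {g}) Q hQmin
  let q := X.fromSpecStalk y ⟨Q, hQp⟩
  have hqy : q ⤳ y := CDiv6.fromSpecStalk_specializes _
  have hQq : (CDiv6.primeOf hqy).asIdeal = Q := congrArg PrimeSpectrum.asIdeal (CDiv6.primeOf_fromSpecStalk _)
  have hqc : Order.coheight q ≤ 1 := by
    rw [← CDiv6.height_primeOf hqy, hQq]; exact hQh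
  have hqgen : q ≠ genericPoint X := fun h => by
    have h0 : Order.coheight q = 0 := by
      rw [h, Order.coheight_eq_zero]
      exact fun z _ => (genericPoint_spec X).specializes (Set.mem_univ z)
    rw [← CDiv6.height_primeOf hqy, hQq] at h0
    have hb : Q = ⊥ := by
      by_contra hne
      haveI := hQp
      haveI : (⊥ : Ideal A).FiniteHeight := ⟨Or.inr (by simp)⟩
      haveI : Q.FiniteHeight := ⟨Or.inr (by rw [h0]; exact ENat.zero_ne_top)⟩
      have := Ideal.height_strict_mono_of_isPrime (I := ⊥) (J := Q) (bot_lt_iff_ne_bot.2 hne)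
      rw [h0] at this
      exact not_lt_bot this
    rw [hb] at hgQ
    exact hg0 hgQ
  have hqU : q ∈ U := by
    by_contra hn
    obtain ⟨ξ, hξ, hξq⟩ := hUF q hn
    have hne : ξ ≠ q := fun h => by
      subst h
      exact hgP q hξ (by simp only [P, dif_pos hqy, hQq]; exact hgQ)
    have h1 := Order.coheight_add_one_le (show q < ξ from lt_of_le_not_ge hξq fun h' => hne (Specializes.antisymm hξq h').eq)
    rw [coheight_eq_one k hdim (hF ξ hξ)] at h1
    exact absurd (h1.trans hqc) (by norm_num)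
  exact ⟨q, hqU, hqy, dim_closure_eq_one k hdim hqgen hqy.mem_closure fun h => hyU (h ▸ hqU)⟩


omit hdim hreg in
theorem cdeg_one {Y : Scheme.{u}} (ι : Y ⟶ X) [IsClosedImmersion ι] (hY : topologicalKrullDim Y ≤ (1 : ℕ)) :
    cdeg k ι (Coh.structureModule X) = 0 := by
  have h := cdeg_add k ι hY (CurveDeg.isInvertible_structureModule (X := X))
    (CurveDeg.isInvertible_structureModule (X := X))
  rw [cdeg_congr k ι (L' := Coh.structureModule X) (by rw [cl_tensor, one_mul_cl])] at h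
  linarith

omit hreg in
/-- A sum of curves is cut out by a section of an invertible module. -/
theorem exists_section_curves (s : Multiset X) (hI : ∀ ξ ∈ s, BlowUp.IsEffCartierIdeal (cI ξ)) :
    ∃ (M : X.Modules) (t : Γ(M, (⊤ : X.Opens))), PicF.IsInvertible M ∧
      (∀ x, x ∈ AmpleX.locus t ↔ ∀ ξ ∈ s, x ∉ closure ({ξ} : Set X)) ∧
      (∀ N, PicF.IsInvertible N → pair k M N = -(s.map fun ξ => pair k (ClSub.idealMod (cI ξ)) N).sum) ∧
      ∀ (Y : Scheme.{u}) (ι : Y ⟶ X) [IsClosedImmersion ι], topologicalKrullDim Y ≤ (1 : ℕ) →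
        cdeg k ι M = -(s.map fun ξ => cdeg k ι (ClSub.idealMod (cI ξ))).sum := by
  induction s using Multiset.induction_on with
  | empty =>
    refine ⟨Coh.structureModule X, (show Γ(Coh.structureModule X, ⊤) from (1 : Γ(X, ⊤))),
      CurveDeg.isInvertible_structureModule, fun x => ⟨fun _ ξ hξ => absurd hξ (Multiset.notMem_zero ξ), fun _ =>
        AmpleX.mem_locus.2 ⟨⊤, le_rfl, trivial, by rw [AModX.res_self]; exact InvX.isFrame_one _⟩⟩,
      fun N hN => by simp [pair_one k hdim.le hN], fun Y ι _ hY => by simp [cdeg_one k ι hY]⟩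
  | cons a s ih =>
    obtain ⟨M, t, hM, hloc, hp, hc⟩ := ih fun ξ hξ => hI ξ (Multiset.mem_cons_of_mem hξ)
    have ha := hI a (Multiset.mem_cons_self a s)
    obtain ⟨L, hL, ⟨δ⟩⟩ := H23.PicInv.exists_inverse ((S8914.result (cI a)).2 ha)
    have hLI : PicF.cl (ClSub.idealMod (cI a)) * PicF.cl L = 1 := cl_mul_eq_one ⟨δ⟩
    obtain ⟨σ, hσ⟩ := AVAmple.exists_divisor_section (cI a) ha hL
      (cl_eq_iff.1 (by rw [cl_tensor, mul_comm, hLI, H23.PicMul.one_def]))
    refine ⟨_, InvX.tmul σ t, InvX.isInvertible_tensorMod hL hM, fun x => ?_, fun N hN => ?_, fun Y ι _ hY => ?_⟩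
    · rw [locus_tmul hL hM, Opens.mem_inf, hloc, show x ∈ AmpleX.locus σ ↔ x ∉ (cI a).support from (show x ∈ AmpleX.locus σ ↔ x ∈ H23.TrivBasic.locus σ by
        rw [AmpleX.mem_locus, H23.TrivBasic.mem_locus_iff]
        exact ⟨fun ⟨V, _, h1, h2⟩ => ⟨V, h1, h2⟩, fun ⟨V, h1, h2⟩ => ⟨V, le_top, h1, h2⟩⟩).trans (hσ x), ← SetLike.mem_coe, support_cI, Multiset.forall_mem_cons]
    · rw [pair_add k hdim.le hL hM hN, hp N hN, Multiset.map_cons, Multiset.sum_cons,
        pair_inverse k hdim.le ((S8914.result (cI a)).2 ha) hL hLI hN]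
      ring
    · rw [cdeg_add k ι hY hL hM, hc Y ι hY, Multiset.map_cons, Multiset.sum_cons,
        cdeg_inverse k ι hY ((S8914.result (cI a)).2 ha) hL hLI]
      ring

/-- The complement of a nonempty affine open of a regular proper surface supports an ample divisor. -/
theorem exists_ample_boundary (U : X.affineOpens) (hU : (U.1 : Set X).Nonempty) :
    ∃ I : X.IdealSheafData, BlowUp.IsEffCartierIdeal I ∧ (I.support : Set X) = (U.1 : Set X)ᶜ ∧
      ∃ M : X.Modules, CohB1.IsAmple M ∧ PicF.cl M * PicF.cl (ClSub.idealMod I) = 1 := by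
  classical
  haveI := CurveCohLib.isNoetherian_of_proper (k := k) (X := X)
  haveI : X.IsSeparated := AmpleVan.isSeparated_of_proper (X := X) (A := k)
  have hconn := isConnected_compl_affine k hdim U.1 U.2 hU
  have hgen : genericPoint X ∈ U.1 :=
    ((genericPoint_spec X).mem_open_set_iff U.1.2).2 (by simpa using hU)
  have hdense : Dense (U.1 : Set X) := fun x =>
    (closure_mono (Set.singleton_subset_iff.2 hgen)) (by rw [genericPoint_closure]; trivial)
  have hD0 := EffCompl.isEffCartier_vanishingIdeal_compl X (fun V W hV hW => IsAffineOpen.inf hV hW) U.1 U.2 hdense fun x _ => by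
    haveI := hreg x
    exact S2821.result _
  set D : X.IdealSheafData := Scheme.IdealSheafData.vanishingIdeal ⟨(U.1 : Set X)ᶜ, U.1.isOpen.isClosed_compl⟩
  have hDs : (D.support : Set X) = (U.1 : Set X)ᶜ := by
    rw [← Scheme.IdealSheafData.range_subschemeι, H23.RedSub.range_vanishingIdeal]; rfl
  have hfinD := Snapper.finite_topPts (C := D.support) (dim_support_le k hD0 (e := 1) hdim.le)
  let F : Finset X := hfinD.toFinset
  have hFmem : ∀ ξ, ξ ∈ F ↔ ξ ∉ U.1 ∧ topologicalKrullDim (closure ({ξ} : Set X)) = 1 := fun ξ =>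
    hfinD.mem_toFinset.trans ⟨fun h => ⟨(hDs.le h.1 : ξ ∈ (U.1 : Set X)ᶜ), h.2.trans Nat.cast_one⟩,
      fun h => ⟨hDs.ge h.1, h.2.trans Nat.cast_one.symm⟩⟩
  have hFd : ∀ ξ ∈ F, topologicalKrullDim (closure ({ξ} : Set X)) = 1 := fun ξ h => ((hFmem ξ).1 h).2
  have hFcl : ∀ ξ ∈ F, closure ({ξ} : Set X) ⊆ (U.1 : Set X)ᶜ := fun ξ h =>
    U.1.isOpen.isClosed_compl.closure_subset_iff.2 (Set.singleton_subset_iff.2 ((hFmem ξ).1 h).1)
  have hUF : ∀ x : X, x ∉ U.1 → ∃ η ∈ F, η ⤳ x := fun x hx => by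
    obtain ⟨η, hη, hηx, hd⟩ := exists_curve_generization k hdim hD0 (x := x) (hDs.ge hx)
    exact ⟨η, (hFmem η).2 ⟨hDs.le hη, hd⟩, hηx⟩
  obtain ⟨x₀, hx₀⟩ := hconn.nonempty
  obtain ⟨η₀, hη₀, -⟩ := hUF x₀ hx₀
  -- a curve of the open part through each boundary curve
  have hinner : ∀ η ∈ F, ∃ q : X, q ∈ U.1 ∧ topologicalKrullDim (closure ({q} : Set X)) = 1 ∧
      (closure ({q} : Set X) ∩ closure {η}).Nonempty := fun η hη => by
    obtain ⟨y, hy, hyη⟩ : ∃ y ∈ closure ({η} : Set X), y ≠ η := by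
      by_contra! h
      haveI : Subsingleton ↥(closure ({η} : Set X)) := ⟨fun a b => Subtype.ext ((h a a.2).trans (h b b.2).symm)⟩
      have h0 := topologicalKrullDim_zero_of_discreteTopology ↥(closure ({η} : Set X))
      rw [hFd η hη] at h0
      exact absurd h0 (by norm_num)
    obtain ⟨q, hqU, hqy, hqd⟩ := exists_inner_curve k hdim hreg F hFd hUF hη (specializes_iff_mem_closure.2 hy) hyη
      (hFcl η hη hy)
    exact ⟨q, hqU, hqd, y, hqy.mem_closure, hy⟩
  choose q hqU hqd hqmeet using hinner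
  let Q : Finset X := F.attach.image fun η => q η.1 η.2
  obtain ⟨LD, hLD, ⟨δ⟩⟩ := H23.PicInv.exists_inverse ((S8914.result D).2 hD0)
  have hDL : PicF.cl (ClSub.idealMod D) * PicF.cl LD = 1 := cl_mul_eq_one ⟨δ⟩
  haveI : IsReduced D.subscheme := H23.RedSub.isReduced_vanishingIdeal _
  have hUc : D.support.compl = U.1 := Opens.ext (by
    show (D.support : Set X)ᶜ = _
    rw [hDs, compl_compl])
  obtain ⟨n, T, hn, hT0, hTQ, hTD⟩ := AffineSect.exists_pole_section (k := k) hD0 hLD
    (cl_eq_iff.1 (by rw [cl_tensor, mul_comm, hDL, H23.PicMul.one_def])) (hUc ▸ U.2)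
    (fun h => (hDs.le h) hgen) Q (fun x hx => by
      obtain ⟨η, -, rfl⟩ := Finset.mem_image.1 hx
      exact ⟨ne_generic k hdim (hqd η.1 η.2), fun h => (hDs.le h) (hqU η.1 η.2)⟩)
    ⟨q η₀ hη₀, Finset.mem_image.2 ⟨⟨η₀, hη₀⟩, Finset.mem_attach _ _, rfl⟩⟩
  have hMn : PicF.IsInvertible (CohB1.tensorMod (Coh.structureModule X) (CohB1.tensorPow LD n)) :=
    InvX.isInvertible_tensorMod CurveDeg.isInvertible_structureModule (InvX.isInvertible_tensorPow hLD n)
  obtain ⟨B, hB, hBs, hBcl⟩ := exists_divisor_of_locus hMn T hT0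
  have hfinB := Snapper.finite_topPts (C := B.support) (dim_support_le k hB (e := 1) hdim.le)
  let G : Finset X := F ∪ hfinB.toFinset
  have hGd : ∀ ξ ∈ G, topologicalKrullDim (closure ({ξ} : Set X)) = 1 := fun ξ h =>
    (Finset.mem_union.1 h).elim (hFd ξ) fun h => (hfinB.mem_toFinset.1 h).2.trans Nat.cast_one
  let g : X → X → ℚ := fun ξ η => pair k (ClSub.idealMod (cI ξ)) (ClSub.idealMod (cI η))
  have hg : ∀ {ξ η : X}, topologicalKrullDim (closure ({ξ} : Set X)) = 1 →
      topologicalKrullDim (closure ({η} : Set X)) = 1 → ξ ≠ η → 0 ≤ g ξ η ∧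
      ((closure ({ξ} : Set X) ∩ closure {η}).Nonempty → 0 < g ξ η) := fun h1 h2 h3 =>
    pair_cI_nonneg k hdim hreg h1 h2 h3
  let lD : X → ℕ := fun ξ => (Module.length (X.presheaf.stalk ξ) ((ClSub.quotMod D).presheaf.stalk ξ)).toNat
  let lB : X → ℕ := fun ξ => (Module.length (X.presheaf.stalk ξ) ((ClSub.quotMod B).presheaf.stalk ξ)).toNat
  have hlD : ∀ ξ ∈ G, ξ ∉ F → (lD ξ : ℚ) = 0 := fun ξ hξ hξF =>
    Snapper.len_eq_zero (M := ClSub.quotMod D) fun h =>
      hξF ((hFmem ξ).2 ⟨hDs.le (support_quotMod_subset D h), hGd ξ hξ⟩)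
  have hrel : ∀ η ∈ F, ∑ ξ ∈ G, ((n : ℚ) * lD ξ - lB ξ) * g ξ η = 0 := fun η hη => by
    have hM := (S8914.result (cI η)).2 (isEffCartier_cI k hdim hreg (hFd η hη))
    have h1 : pair k (ClSub.idealMod D) (ClSub.idealMod (cI η)) = ∑ ξ ∈ G, (lD ξ : ℚ) * g ξ η :=
      pair_decomp k hdim hD0 G hGd (fun ξ hξ hd => Finset.mem_union_left _ ((hFmem ξ).2 ⟨hDs.le hξ, hd⟩)) hM
        fun ξ hξ => isEffCartier_cI k hdim hreg (hGd ξ hξ)
    have h2 : pair k (ClSub.idealMod B) (ClSub.idealMod (cI η)) = ∑ ξ ∈ G, (lB ξ : ℚ) * g ξ η :=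
      pair_decomp k hdim hB G hGd (fun ξ hξ hd => Finset.mem_union_right _
        (hfinB.mem_toFinset.2 ⟨hξ, hd.trans Nat.cast_one.symm⟩)) hM
        fun ξ hξ => isEffCartier_cI k hdim hreg (hGd ξ hξ)
    have hcl : PicF.cl (ClSub.idealMod B) = PicF.cl (CohB1.tensorPow (ClSub.idealMod D) n) := by
      rw [cl_tensor, one_mul_cl, cl_tensorPow] at hBcl
      rw [cl_tensorPow]
      calc PicF.cl (ClSub.idealMod B)
          = (PicF.cl (ClSub.idealMod D) * PicF.cl LD) ^ n * PicF.cl (ClSub.idealMod B) := by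
            rw [hDL, one_pow, one_mul]
        _ = PicF.cl (ClSub.idealMod D) ^ n := by rw [mul_pow, mul_assoc, hBcl, mul_one]
    rw [pair_congr k hcl, pair_pow k hdim.le ((S8914.result D).2 hD0) hM, h1, Finset.mul_sum] at h2
    calc ∑ ξ ∈ G, ((n : ℚ) * lD ξ - lB ξ) * g ξ η
        = ∑ ξ ∈ G, ((n : ℚ) * ((lD ξ : ℚ) * g ξ η) - (lB ξ : ℚ) * g ξ η) := Finset.sum_congr rfl fun ξ _ => by ring
      _ = 0 := by rw [Finset.sum_sub_distrib, h2, sub_self]
  let a : X → ℕ := fun ξ => n * lD ξ - lB ξ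
  have ha : ∀ η ∈ F, 0 < a η → 0 < ∑ ξ ∈ F, (a ξ : ℚ) * g ξ η := fun η hη hpos => by
    have hqs : q η hη ∈ G := by
      refine Finset.mem_union_right _ (hfinB.mem_toFinset.2 ⟨hBs.ge ?_, (hqd η hη).trans Nat.cast_one.symm⟩)
      exact hTQ _ (Finset.mem_image.2 ⟨⟨η, hη⟩, Finset.mem_attach _ _, rfl⟩)
    have hqF : q η hη ∉ F := fun h => ((hFmem _).1 h).1 (hqU η hη)
    have hqη : q η hη ≠ η := fun h => hqF (h.symm ▸ hη)
    have hout : 0 < ∑ ξ ∈ G \ F, (lB ξ : ℚ) * g ξ η := by
      refine Finset.sum_pos' (fun ξ hξ => mul_nonneg (Nat.cast_nonneg _) (hg (hGd ξ (Finset.mem_sdiff.1 hξ).1)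
        (hFd η hη) fun h => (Finset.mem_sdiff.1 hξ).2 (h ▸ hη)).1) ⟨q η hη, Finset.mem_sdiff.2 ⟨hqs, hqF⟩, ?_⟩
      exact mul_pos (len_pos k hdim hB (hfinB.mem_toFinset.1 ((Finset.mem_union.1 hqs).resolve_left hqF)).1 (hqd η hη))
        ((hg (hqd η hη) (hFd η hη) hqη).2 (hqmeet η hη))
    have hsplit := hrel η hη
    rw [← Finset.sum_sdiff (Finset.subset_union_left : F ⊆ G)] at hsplit
    have houtE : ∑ ξ ∈ G \ F, ((n : ℚ) * lD ξ - lB ξ) * g ξ η = -∑ ξ ∈ G \ F, (lB ξ : ℚ) * g ξ η := by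
      rw [← Finset.sum_neg_distrib]
      refine Finset.sum_congr rfl fun ξ hξ => ?_
      rw [hlD ξ (Finset.mem_sdiff.1 hξ).1 (Finset.mem_sdiff.1 hξ).2]; ring
    have hle : ∑ ξ ∈ F, ((n : ℚ) * lD ξ - lB ξ) * g ξ η ≤ ∑ ξ ∈ F, (a ξ : ℚ) * g ξ η := by
      refine Finset.sum_le_sum fun ξ hξ => ?_
      by_cases h : ξ = η
      · subst h
        refine le_of_eq ?_
        rw [show a ξ = n * lD ξ - lB ξ from rfl, Nat.cast_sub (Nat.lt_of_sub_pos hpos).le, Nat.cast_mul]
      · refine mul_le_mul_of_nonneg_right ?_ (hg (hFd ξ hξ) (hFd η hη) h).1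
        rw [sub_le_iff_le_add, ← Nat.cast_mul, ← Nat.cast_add, Nat.cast_le]
        exact le_tsub_add
    rw [houtE] at hsplit
    linarith
  obtain ⟨η₁, hη₁, ha₁⟩ : ∃ η ∈ F, 0 < a η := by
    obtain ⟨x, hxT, hxD⟩ := Set.not_disjoint_iff.1 hTD
    obtain ⟨η, hη, hηx⟩ := hUF x (hDs.le hxD)
    have hηT : η ∈ AmpleX.locus T := hηx.mem_open (AmpleX.locus T).2 hxT
    have h0 : (lB η : ℚ) = 0 := Snapper.len_eq_zero (M := ClSub.quotMod B) fun h =>
      (hBs.le (support_quotMod_subset B h)) hηT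
    have h1 : (0 : ℚ) < lD η := len_pos k hdim hD0 (hDs.ge ((hFmem η).1 hη).1) (hFd η hη)
    refine ⟨η, hη, ?_⟩
    show 0 < n * lD η - lB η
    rw [Nat.cast_eq_zero.1 h0, Nat.sub_zero]
    exact Nat.mul_pos hn (Nat.cast_pos.1 h1)
  -- grow the support
  let P : Finset X → Prop := fun S => ∃ b : X → ℕ, (∀ ξ ∈ F, 0 < b ξ ↔ ξ ∈ S) ∧
    ∀ η ∈ S, 0 < ∑ ξ ∈ F, (b ξ : ℚ) * g ξ η
  obtain ⟨S, hS, hmax⟩ := (F.powerset.filter fun S => S.Nonempty ∧ P S).exists_max_image Finset.card
    ⟨F.filter fun ξ => 0 < a ξ, Finset.mem_filter.2 ⟨Finset.mem_powerset.2 (Finset.filter_subset _ _),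
      ⟨η₁, Finset.mem_filter.2 ⟨hη₁, ha₁⟩⟩, a,
      fun ξ hξ => ⟨fun h => Finset.mem_filter.2 ⟨hξ, h⟩, fun h => (Finset.mem_filter.1 h).2⟩,
      fun η hη => ha η (Finset.mem_filter.1 hη).1 (Finset.mem_filter.1 hη).2⟩⟩
  obtain ⟨hSF, ⟨η₂, hη₂⟩, m, hm, hmpos⟩ := Finset.mem_filter.1 hS
  rw [Finset.mem_powerset] at hSF
  have hSeq : S = F := by
    by_contra hne
    obtain ⟨η₃, hη₃F, hη₃S⟩ := Finset.not_subset.1 fun h => hne (Finset.Subset.antisymm hSF h)
    let C₁ : Set X := ⋃ ξ ∈ (S : Set X), closure {ξ}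
    let C₂ : Set X := ⋃ ξ ∈ ((F \ S : Finset X) : Set X), closure {ξ}
    obtain ⟨z, -, hz1, hz2⟩ := isPreconnected_closed_iff.1 hconn.isPreconnected C₁ C₂
      (S.finite_toSet.isClosed_biUnion fun _ _ => isClosed_closure)
      ((F \ S).finite_toSet.isClosed_biUnion fun _ _ => isClosed_closure) (fun x hx => by
        obtain ⟨ξ, hξ, hξx⟩ := hUF x hx
        by_cases h : ξ ∈ S
        · exact Or.inl (Set.mem_biUnion h hξx.mem_closure)
        · exact Or.inr (Set.mem_biUnion (Finset.mem_coe.2 (Finset.mem_sdiff.2 ⟨hξ, h⟩)) hξx.mem_closure))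
      ⟨η₂, ((hFmem η₂).1 (hSF hη₂)).1, Set.mem_biUnion hη₂ (subset_closure rfl)⟩
      ⟨η₃, ((hFmem η₃).1 hη₃F).1,
        Set.mem_biUnion (Finset.mem_coe.2 (Finset.mem_sdiff.2 ⟨hη₃F, hη₃S⟩)) (subset_closure rfl)⟩
    simp only [C₁, C₂, Set.mem_iUnion, Finset.mem_coe, exists_prop, Finset.mem_sdiff] at hz1 hz2
    obtain ⟨ξ, hξS, hzξ⟩ := hz1
    obtain ⟨η, ⟨hηF, hηS⟩, hzη⟩ := hz2
    have hne' : ξ ≠ η := fun h => hηS (h ▸ hξS)
    have hmη : m η = 0 := Nat.eq_zero_of_not_pos fun h => hηS ((hm η hηF).1 h)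
    have hpos : 0 < ∑ ζ ∈ F, (m ζ : ℚ) * g ζ η := by
      refine Finset.sum_pos' (fun ζ hζ => ?_) ⟨ξ, hSF hξS, ?_⟩
      · by_cases h : ζ = η
        · subst h; simp [hmη]
        · exact mul_nonneg (Nat.cast_nonneg _) (hg (hFd ζ hζ) (hFd η hηF) h).1
      · exact mul_pos (Nat.cast_pos.2 ((hm ξ (hSF hξS)).2 hξS))
          ((hg (hFd ξ (hSF hξS)) (hFd η hηF) hne').2 ⟨z, hzξ, hzη⟩)
    obtain ⟨N, hN⟩ := exists_nat_gt ((|g η η| + 1) / ∑ ζ ∈ F, (m ζ : ℚ) * g ζ η)
    rw [div_lt_iff₀ hpos] at hN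
    have hN0 : 0 < N := Nat.pos_of_ne_zero fun h => by
      rw [h, Nat.cast_zero, zero_mul] at hN
      linarith [abs_nonneg (g η η)]
    have hnew : ∀ ζ, ∑ ξ ∈ F, ((N * m ξ + if ξ = η then 1 else 0 : ℕ) : ℚ) * g ξ ζ =
        N * (∑ ξ ∈ F, (m ξ : ℚ) * g ξ ζ) + g η ζ := fun ζ => by
      simp only [Nat.cast_add, Nat.cast_mul, add_mul, mul_assoc, Finset.sum_add_distrib, ← Finset.mul_sum]
      congr 1
      rw [Finset.sum_eq_single η (fun b _ hb => by simp [hb]) (fun h => absurd hηF h)]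
      simp
    have hP : P (insert η S) := ⟨fun ξ => N * m ξ + if ξ = η then 1 else 0, fun ζ hζ => ⟨fun h => by
        by_cases h' : ζ = η
        · exact h' ▸ Finset.mem_insert_self _ _
        · simp only [if_neg h', Nat.add_zero] at h
          exact Finset.mem_insert_of_mem ((hm ζ hζ).1 (Nat.pos_of_mul_pos_left h)), fun h => by
        by_cases h' : ζ = η
        · simp only [if_pos h']; exact Nat.succ_pos _
        · simp only [if_neg h', Nat.add_zero]
          exact Nat.mul_pos hN0 ((hm ζ hζ).2 ((Finset.mem_insert.1 h).resolve_left h'))⟩,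
      fun ζ hζ => by
        rw [hnew]
        rcases Finset.mem_insert.1 hζ with rfl | hζS
        · linarith [neg_abs_le (g ζ ζ)]
        · exact add_pos_of_pos_of_nonneg (mul_pos (Nat.cast_pos.2 hN0) (hmpos ζ hζS))
            (hg (hFd η hηF) (hFd ζ (hSF hζS)) fun h => hηS (h.symm ▸ hζS)).1⟩
    have := hmax (insert η S) (Finset.mem_filter.2 ⟨Finset.mem_powerset.2 (Finset.insert_subset hηF hSF),
      ⟨η, Finset.mem_insert_self _ _⟩, hP⟩)
    rw [Finset.card_insert_of_notMem hηS] at this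
    omega
  subst hSeq
  -- the divisor
  let s : Multiset X := ∑ ξ ∈ F, Multiset.replicate (m ξ) ξ
  have hs : ∀ ξ, ξ ∈ s ↔ ξ ∈ F := fun ξ => by
    simp only [s, Multiset.mem_sum, Multiset.mem_replicate]
    exact ⟨fun ⟨i, hi, _, e⟩ => e ▸ hi, fun h => ⟨ξ, h, ((hm ξ h).2 h).ne', rfl⟩⟩
  have hsum : ∀ f : X → ℚ, (s.map f).sum = ∑ ξ ∈ F, (m ξ : ℚ) * f ξ := fun f => by
    show (Multiset.sumAddMonoidHom.comp (Multiset.mapAddMonoidHom f)) s = _
    rw [show s = ∑ ξ ∈ F, Multiset.replicate (m ξ) ξ from rfl, map_sum]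
    exact Finset.sum_congr rfl fun ξ _ => by simp
  have hIc : ∀ ξ ∈ F, BlowUp.IsEffCartierIdeal (cI ξ) := fun ξ h => isEffCartier_cI k hdim hreg (hFd ξ h)
  obtain ⟨M, t, hM, hloc, hp, hc⟩ := exists_section_curves k hdim s fun ξ h => hIc ξ ((hs ξ).1 h)
  have hlocU : ((AmpleX.locus t : X.Opens) : Set X) = (U.1 : Set X) := Set.ext fun x => by
    refine (hloc x).trans ⟨fun h => by_contra fun hx => ?_, fun hx ξ hξ hxc => hFcl ξ ((hs ξ).1 hξ) hxc hx⟩
    obtain ⟨η, hη, hηx⟩ := hUF x hx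
    exact h η ((hs η).2 hη) hηx.mem_closure
  have ht : t ≠ 0 := fun h0 => by
    refine notMem_locus_zero hM (genericPoint X) ?_
    rw [← h0]
    exact hlocU.ge hgen
  obtain ⟨I, hI, hIs, hIcl⟩ := exists_divisor_of_locus hM t ht
  have hMξ : ∀ ξ ∈ F, pair k (ClSub.idealMod (cI ξ)) M = -∑ η ∈ F, (m η : ℚ) * g η ξ := fun ξ hξ => by
    rw [pair_symm, hp _ ((S8914.result _).2 (hIc ξ hξ)), hsum]
  refine ⟨I, hI, by rw [hIs, hlocU], M, RealForm.isAmple_of_surface k hdim hM ?_ fun Y ι _ _ hY => ?_, hIcl⟩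
  · rw [hp M hM, hsum, ← Finset.sum_neg_distrib]
    refine Finset.sum_pos (fun ξ hξ => ?_) ⟨η₀, hη₀⟩
    rw [hMξ ξ hξ, mul_neg, neg_neg]
    exact mul_pos (Nat.cast_pos.2 ((hm ξ hξ).2 hξ)) (hmpos ξ hξ)
  · have hY1 : topologicalKrullDim Y ≤ ((1 : ℕ) : WithBot ℕ∞) := (hY.trans Nat.cast_one.symm).le
    have hr : Set.range ι = closure {ι (genericPoint Y)} := by
      rw [← Set.image_univ, ← genericPoint_closure, ← ι.isClosedEmbedding.closure_image_eq, Set.image_singleton]
    have hξd : topologicalKrullDim (closure ({ι (genericPoint Y)} : Set X)) = 1 :=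
      (AmpleDev.dim_eq_one_of_closedImmersion ι hr).symm.trans hY
    by_cases hξU : ι (genericPoint Y) ∈ U.1
    · obtain ⟨z, hz, hzU⟩ := Set.not_subset.1 (not_range_subset_affine k ι hY U.2)
      obtain ⟨η, hη, hηz⟩ := hUF z hzU
      have hns : ∀ ξ ∈ F, ¬ Set.range ι ⊆ ((cI ξ).support : Set X) := fun ξ hξ h => by
        rw [support_cI] at h
        exact hFcl ξ hξ (h ⟨genericPoint Y, rfl⟩) hξU
      rw [hc Y ι hY1, hsum, ← Finset.sum_neg_distrib]
      refine Finset.sum_pos' (fun ξ hξ => ?_) ⟨η, hη, ?_⟩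
      · exact neg_nonneg.2 (mul_nonpos_of_nonneg_of_nonpos (Nat.cast_nonneg _)
          (RealForm.cdeg_idealMod_nonpos_of_not_subset k ι hY (hIc ξ hξ) (hns ξ hξ)))
      · exact neg_pos.2 (mul_neg_of_pos_of_neg (Nat.cast_pos.2 ((hm η hη).2 hη))
          (cdeg_idealMod_neg k ι hY (hIc η hη) (hns η hη) ⟨z, hz, by rw [support_cI]; exact hηz.mem_closure⟩))
    · have hξF : ι (genericPoint Y) ∈ F := (hFmem _).2 ⟨hξU, hξd⟩
      haveI : IsIntegral (cI (ι (genericPoint Y))).subscheme := QCoh.isIntegral_closure_point _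
      obtain ⟨φ⟩ := QCoh.push_structure_iso (cI (ι (genericPoint Y))).subschemeι ι (hr.trans
        ((Scheme.IdealSheafData.range_subschemeι _).trans (support_cI _)).symm)
      have e : cdeg k ι M = cdeg k (cI (ι (genericPoint Y))).subschemeι M :=
        congrArg Neg.neg (alt_congr_cl k (fun _ => rfl) (cl_eq_iff.2 ⟨φ⟩))
      have h1 := pair_curve_self k ((S8914.result _).2 (hIc _ hξF)) hM
      rw [hMξ _ hξF] at h1
      rw [e]
      linarith [hmpos _ hξF]

end Groth.Agent.Big.AffineBd
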