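import Groth.Agent.Big.HyperConn

/-!
# The complement of an affine open in a proper variety
-/

set_option autoImplicit false
set_option linter.style.haveILetI false
set_option linter.unusedSectionVars false
set_option backward.isDefEq.respectTransparency false
set_option backward.isDefEq.respectTransparency.types false
set_option maxHeartbeats 1000000

universe u

open CategoryTheory CategoryTheory.Limits AlgebraicGeometry TopologicalSpace Opposite

noncomputable section

namespace Groth.Agent.Big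

open Groth.Agent

variable (k : Type u) [Field k] {X : Scheme.{u}} [X.Over (Spec (CommRingCat.of k))]
  [IsProper (X ↘ Spec (CommRingCat.of k))]

include k in
/-- The complement of a nonempty affine open of an integral proper scheme of dimension at least two is connected. -/
theorem isConnected_compl_affine_of_two_le [IsIntegral X] (hdim : (2 : WithBot ℕ∞) ≤ topologicalKrullDim X)
    (U : X.Opens) (hU : IsAffineOpen U) (hne : (U : Set X).Nonempty) : _root_.IsConnected ((U : Set X)ᶜ) := by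
  classical
  let f := X ↘ Spec (CommRingCat.of k)
  haveI := CurveCohLib.isNoetherian_of_proper (k := k) (X := X)
  haveI : X.IsSeparated := AmpleVan.isSeparated_of_proper (X := X) (A := k)
  haveI : Nonempty U.toScheme := hne.to_subtype
  haveI : IsAffine U.toScheme := hU
  haveI : IsIntegral U.toScheme := isIntegral_of_isOpenImmersion U.ι
  obtain ⟨m, s, hs⟩ := PnCoh.Chow.exists_gens (U.ι ≫ f) (isAffineOpen_top U.toScheme)
  let 𝒜 := CohB1.polyGrading m k
  let t : MvPolynomial (Fin (m + 1)) k := MvPolynomial.X 0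
  let c : MvPolynomial (Fin (m + 1)) k →+* Γ(U.toScheme, ⊤) :=
    MvPolynomial.eval₂Hom (PnCoh.Chow.aHom (U.ι ≫ f) ⊤) (Fin.cons 1 s)
  have hct : c t = 1 := by simp [c, t]
  have hcu : IsUnit (c t) := by rw [hct]; exact isUnit_one
  let g : U.toScheme ⟶ CohB1.ProjSpace m k := ProjPt.pt 𝒜 c (ProjPt.X_mem 0) one_pos hcu
  have hgk : g ≫ CohB1.ProjSpace.toSpec m k = U.ι ≫ f := by
    show ProjPt.pt 𝒜 c (ProjPt.X_mem 0) one_pos hcu ≫ Proj.toSpecZero 𝒜 ≫ Spec.map _ = _
    rw [← Category.assoc, ProjPt.pt_toSpecZero, Category.assoc, ← Spec.map_comp, ProjPt.eq_toSpecΓ (U.ι ≫ f)]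
    congr 2
    refine CommRingCat.hom_ext (RingHom.ext fun a => ?_)
    show c (MvPolynomial.C a) = _
    rw [MvPolynomial.eval₂Hom_C]
    show ((Scheme.ΓSpecIso (CommRingCat.of k)).inv ≫ (U.ι ≫ f).appLE ⊤ ⊤ le_top) a = _
    rw [show (U.ι ≫ f).appLE ⊤ ⊤ le_top = (U.ι ≫ f).appTop from ((U.ι ≫ f).app_eq_appLE (U := ⊤)).symm]
  let Dt : (CohB1.ProjSpace m k).Opens := Proj.basicOpen 𝒜 t
  have hgD : g ⁻¹ᵁ Dt = ⊤ :=
    (ProjPt.pt_preimage_basicOpen 𝒜 c (ProjPt.X_mem 0) one_pos hcu (ProjPt.X_mem 0) one_pos).trans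
      (U.toScheme.basicOpen_of_isUnit hcu)
  have hgr : Set.range g ⊆ Set.range Dt.ι := by
    rintro _ ⟨u, rfl⟩
    rw [Scheme.Opens.range_ι]
    exact hgD.ge (Set.mem_univ u)
  let g' := IsOpenImmersion.lift Dt.ι g hgr
  have hg' : g' ≫ Dt.ι = g := IsOpenImmersion.lift_fac _ _ _
  haveI : IsAffine Dt.toScheme := Proj.isAffineOpen_basicOpen 𝒜 t (ProjPt.X_mem 0) one_pos
  haveI : IsClosedImmersion g' := by
    refine IsClosedImmersion.of_surjective_of_isAffine g' fun x => ?_
    obtain ⟨P, hP⟩ := hs x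
    let a : HomogeneousLocalization.Away 𝒜 t :=
      MvPolynomial.eval₂Hom (ProjPt.cst 0) (fun j : Fin m => ProjPt.crd 0 j.succ) P
    have e1 : ProjPt.coordHom 𝒜 c hcu a = x := by
      refine Eq.trans ?_ hP
      refine RingHom.congr_fun (f := (ProjPt.coordHom 𝒜 c hcu).comp
        (MvPolynomial.eval₂Hom (ProjPt.cst 0) fun j : Fin m => ProjPt.crd 0 j.succ)) ?_ P
      refine MvPolynomial.ringHom_ext (fun r => ?_) fun j => ?_
      · rw [RingHom.comp_apply, MvPolynomial.eval₂Hom_C, MvPolynomial.eval₂Hom_C]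
        have hr : ((algebraMap k (𝒜 0) r : 𝒜 0) : MvPolynomial (Fin (m + 1)) k) ∈ 𝒜 (0 • 1) := by
          rw [zero_smul]; exact (algebraMap k (𝒜 0) r).2
        have hc : ProjPt.cst (n := m) 0 r = HomogeneousLocalization.Away.mk 𝒜 (ProjPt.X_mem 0) 0 _ hr := by
          apply HomogeneousLocalization.val_injective
          rw [HomogeneousLocalization.Away.val_mk]
          simp [ProjPt.cst, HomogeneousLocalization.fromZeroRingHom]
        rw [hc]
        refine (ProjPt.coordHom_mk_eq_iff 𝒜 c hcu (ProjPt.X_mem 0) 0 _ hr _).2 ?_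
        rw [pow_zero, mul_one]
        exact (MvPolynomial.eval₂Hom_C _ _ r).symm
      · rw [RingHom.comp_apply, MvPolynomial.eval₂Hom_X', MvPolynomial.eval₂Hom_X']
        refine (ProjPt.coordHom_mk_eq_iff 𝒜 c hcu (ProjPt.X_mem 0) 1 _ _ _).2 ?_
        simp [c, t]
    have e2 := ProjPt.pt_appLE 𝒜 c (ProjPt.X_mem 0) one_pos hcu hgD.ge a
    have e3 : g.appLE Dt ⊤ hgD.ge = Dt.ι.appLE Dt ⊤ (by simp) ≫ g'.appTop := by
      rw [Scheme.Hom.appTop, Scheme.Hom.app_eq_appLE, Scheme.Hom.appLE_comp_appLE]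
      exact PnCoh.Chow.appLE_congr_hom hg'.symm _ _ _
    refine ⟨Dt.ι.appLE Dt ⊤ (by simp) ((Proj.awayToSection 𝒜 t).hom a), ?_⟩
    rw [← CommRingCat.comp_apply, ← e3]
    exact e2.trans e1
  let P := pullback f (CohB1.ProjSpace.toSpec m k)
  let fst : P ⟶ X := pullback.fst _ _
  let snd : P ⟶ CohB1.ProjSpace m k := pullback.snd _ _
  haveI := PnCoh.Chow.isProper_toSpec m k
  haveI : IsProper fst := MorphismProperty.pullback_fst _ _ inferInstance
  haveI : IsProper snd := MorphismProperty.pullback_snd _ _ inferInstance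
  let γ : U.toScheme ⟶ P := pullback.lift U.ι g hgk.symm
  have hγf : γ ≫ fst = U.ι := pullback.lift_fst _ _ _
  have hγs : γ ≫ snd = g := pullback.lift_snd _ _ _
  let O1 : P.Opens := snd ⁻¹ᵁ Dt
  let O2 : P.Opens := fst ⁻¹ᵁ U
  have hmem1 : Set.range γ ⊆ (O1 : Set P) := by
    rintro _ ⟨u, rfl⟩
    show snd (γ u) ∈ Dt
    rw [← Scheme.Hom.comp_apply, hγs]
    exact hgD.ge (Set.mem_univ u)
  have hmem2 : Set.range γ ⊆ (O2 : Set P) := by
    rintro _ ⟨u, rfl⟩
    show fst (γ u) ∈ U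
    rw [← Scheme.Hom.comp_apply, hγf]
    exact u.2
  let γ1 := IsOpenImmersion.lift O1.ι γ (by rwa [Scheme.Opens.range_ι])
  let γ2 := IsOpenImmersion.lift O2.ι γ (by rwa [Scheme.Opens.range_ι])
  have hγ1 : γ1 ≫ O1.ι = γ := IsOpenImmersion.lift_fac _ _ _
  have hγ2 : γ2 ≫ O2.ι = γ := IsOpenImmersion.lift_fac _ _ _
  haveI : IsClosedImmersion γ1 := by
    have h : γ1 ≫ (snd ∣_ Dt) = g' := by
      rw [← cancel_mono Dt.ι, Category.assoc, morphismRestrict_ι, ← Category.assoc, hγ1, hγs, hg']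
    haveI : IsClosedImmersion (γ1 ≫ (snd ∣_ Dt)) := by rw [h]; infer_instance
    exact IsClosedImmersion.of_comp γ1 (snd ∣_ Dt)
  haveI : IsClosedImmersion γ2 := by
    have h : γ2 ≫ (fst ∣_ U) = 𝟙 U.toScheme := by
      rw [← cancel_mono U.ι, Category.assoc, morphismRestrict_ι, ← Category.assoc, hγ2, hγf, Category.id_comp]
    haveI : IsClosedImmersion (γ2 ≫ (fst ∣_ U)) := by rw [h]; infer_instance
    exact IsClosedImmersion.of_comp γ2 (fst ∣_ U)
  have hcl1 : closure (Set.range γ) ∩ (O1 : Set P) = Set.range γ := by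
    refine subset_antisymm (closure_inter_of_isClosed_preimage O1 ?_) fun z hz => ⟨subset_closure hz, hmem1 hz⟩
    rw [← hγ1, show Set.range (γ1 ≫ O1.ι) = O1.ι '' Set.range γ1 from
      (congrArg Set.range (funext fun v => Scheme.Hom.comp_apply γ1 O1.ι v)).trans (Set.range_comp O1.ι γ1),
      O1.ι.isOpenEmbedding.injective.preimage_image]
    exact γ1.isClosedEmbedding.isClosed_range
  have hcl2 : closure (Set.range γ) ∩ (O2 : Set P) = Set.range γ := by
    refine subset_antisymm (closure_inter_of_isClosed_preimage O2 ?_) fun z hz => ⟨subset_closure hz, hmem2 hz⟩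
    rw [← hγ2, show Set.range (γ2 ≫ O2.ι) = O2.ι '' Set.range γ2 from
      (congrArg Set.range (funext fun v => Scheme.Hom.comp_apply γ2 O2.ι v)).trans (Set.range_comp O2.ι γ2),
      O2.ι.isOpenEmbedding.injective.preimage_image]
    exact γ2.isClosedEmbedding.isClosed_range
  obtain ⟨Z, jZ, hjZ, hZi, γ0, hγ0, hγ0η, hZr⟩ := exists_lift_closure γ
  haveI := hjZ
  haveI := hZi
  let π : Z ⟶ X := jZ ≫ fst
  let p : Z ⟶ CohB1.ProjSpace m k := jZ ≫ snd
  have hγ0π : γ0 ≫ π = U.ι := by rw [← Category.assoc, hγ0, hγf]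
  have hγ0p : γ0 ≫ p = g := by rw [← Category.assoc, hγ0, hγs]
  have htrace : ∀ {O : P.Opens}, closure (Set.range γ) ∩ (O : Set P) = Set.range γ →
      Set.range γ0 = jZ ⁻¹' (O : Set P) := fun {O} hO => by
    ext z
    constructor
    · rintro ⟨u, rfl⟩
      show jZ (γ0 u) ∈ (O : Set P)
      rw [← Scheme.Hom.comp_apply, hγ0]
      exact (hO.ge ⟨u, rfl⟩).2
    · intro hz
      obtain ⟨u, hu⟩ := hO.le ⟨hZr.subset ⟨z, rfl⟩, hz⟩
      exact ⟨u, jZ.isClosedEmbedding.injective (by rw [← Scheme.Hom.comp_apply, hγ0]; exact hu)⟩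
  have hr1 : Set.range γ0 = ((p ⁻¹ᵁ Dt : Z.Opens) : Set Z) := htrace hcl1
  have hr2 : Set.range γ0 = ((π ⁻¹ᵁ U : Z.Opens) : Set Z) := htrace hcl2
  letI : Z.Over (Spec (CommRingCat.of k)) := ⟨π ≫ f⟩
  haveI : IsProper (Z ↘ Spec (CommRingCat.of k)) := inferInstanceAs (IsProper (π ≫ f))
  have hUd : topologicalKrullDim U.toScheme = topologicalKrullDim X := S1618.result k X U hne
  haveI : IsProper π := inferInstanceAs (IsProper (jZ ≫ fst))
  have hemb : Topology.IsEmbedding g := by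
    rw [← hg']
    have h : ((g' ≫ Dt.ι : U.toScheme ⟶ CohB1.ProjSpace m k) : U.toScheme → CohB1.ProjSpace m k) = Dt.ι ∘ g' :=
      funext fun v => Scheme.Hom.comp_apply g' Dt.ι v
    rw [h]
    exact Dt.ι.isOpenEmbedding.isEmbedding.comp g'.isClosedEmbedding.isEmbedding
  have hp2 : (2 : WithBot ℕ∞) ≤ topologicalKrullDim ↥(closure (Set.range p)) := by
    refine (hdim.trans hUd.ge).trans ?_
    refine Topology.IsInducing.topologicalKrullDim_le (f := fun u : U.toScheme => (⟨g u, subset_closure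
      ⟨γ0 u, by rw [← Scheme.Hom.comp_apply, hγ0p]⟩⟩ : ↥(closure (Set.range p)))) ?_
    exact hemb.isInducing.codRestrict _
  have hsurj : Function.Surjective π := fun x => by
    have h : closure (Set.range U.ι) ⊆ Set.range π := π.isClosedMap.isClosed_range.closure_subset_iff.2
      (by rintro _ ⟨u, rfl⟩; exact ⟨γ0 u, by rw [← Scheme.Hom.comp_apply, hγ0π]⟩)
    rw [Scheme.Opens.range_ι] at h
    exact h ((U.2.dense hne).closure_eq.ge (Set.mem_univ x))
  letI : Z.Over (Spec (CommRingCat.of k)) := ⟨π ≫ f⟩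
  haveI : IsProper (Z ↘ Spec (CommRingCat.of k)) := inferInstanceAs (IsProper (π ≫ f))
  have hpk : p ≫ CohB1.ProjSpace.toSpec m k = Z ↘ Spec (CommRingCat.of k) := by
    show (jZ ≫ snd) ≫ _ = (jZ ≫ fst) ≫ f
    rw [Category.assoc, Category.assoc]
    exact congrArg (jZ ≫ ·) pullback.condition.symm
  have hconn := isConnected_preimage_hyperplane k p hpk hp2 t (ProjPt.X_mem 0)
  have hset : ((p ⁻¹ᵁ Dt : Z.Opens) : Set Z)ᶜ = π ⁻¹' ((U : Set X)ᶜ) := by
    rw [← hr1, hr2]; rfl
  rw [show ((p ⁻¹ᵁ Proj.basicOpen (CohB1.polyGrading m k) t : Z.Opens) : Set Z)ᶜ = π ⁻¹' ((U : Set X)ᶜ) from hset] at hconn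
  have h := hconn.image π π.continuous.continuousOn
  rwa [Set.image_preimage_eq _ hsurj] at h

end Groth.Agent.Big
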