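import Groth.Agent.Big.SectionDivisor
import Groth.Agent.Big.Values
import Groth.Agent.AmpleX.ExtendQS
import Groth.Agent.Lib.CurveRR
import Groth.Agent.ExistEasy.TwoIdeal
import Groth.Agent.PnVan.Pull

/-!
# Connectedness of zero loci of sections with vanishing first cohomology
-/

set_option autoImplicit false
set_option linter.style.haveILetI false
set_option linter.unusedSectionVars false
set_option backward.isDefEq.respectTransparency false
set_option backward.isDefEq.respectTransparency.types false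
set_option maxHeartbeats 1000000

universe u

open CategoryTheory CategoryTheory.Limits AlgebraicGeometry TopologicalSpace Opposite
open Groth.Agent.H23.PicMul

noncomputable section

namespace Groth.Agent.Big.AmpleConn

open Groth.Agent

variable {X : Scheme.{u}}

/-- A global section with injective multiplication, twisted to a map into the structure sheaf. -/
theorem exists_twistMap {N M : X.Modules} (hN : PicF.IsInvertible N) (hM : PicF.IsInvertible M)
    (hNM : PicF.cl N * PicF.cl M = 1) (t : Γ(N, (⊤ : X.Opens))) (ht : Mono (QCoh.homOfTop t)) :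
    ∃ ψ : CohB1.tensorMod (Coh.structureModule X) M ⟶ Coh.structureModule X, Mono ψ ∧
      (∀ (U : X.Opens) (σ : Γ(CohB1.tensorMod (Coh.structureModule X) M, U)) (x : X), x ∉ AmpleX.locus t →
        x ∉ X.basicOpen (show Γ(X, U) from ψ.app U σ)) ∧
      (∀ x ∈ AmpleX.locus t, ∃ (V : X.Opens) (_ : x ∈ V) (σ : Γ(CohB1.tensorMod (Coh.structureModule X) M, V)),
        (show Γ(X, V) from ψ.app V σ) = 1) := by
  let O := Coh.structureModule X
  obtain ⟨φ⟩ : Nonempty (CohB1.tensorMod N M ≅ O) := cl_eq_iff.1 (by rw [cl_tensor, hNM, H23.PicMul.one_def])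
  let ψ : CohB1.tensorMod O M ⟶ O := KoszTw.tensorMap (QCoh.homOfTop t) (𝟙 M) ≫ φ.hom
  haveI : Mono (KoszTw.tensorMap (QCoh.homOfTop t) (𝟙 M)) := by
    haveI := AmpleVan.isEquivalence_tw hM
    haveI := ht
    have h : Mono ((AmpleVan.tw M).map (QCoh.homOfTop t)) := inferInstance
    rwa [show (AmpleVan.tw M).map (QCoh.homOfTop t) = KoszTw.tensorMap (QCoh.homOfTop t) (𝟙 M) from KoszTw.tensorBi_map_app (N := M) (QCoh.homOfTop t)] at h
  have hval : ∀ (V : X.Opens) (m : Γ(M, V)), ψ.app V (InvX.tmul (show Γ(O, V) from (1 : Γ(X, V))) m) =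
      φ.hom.app V (InvX.tmul (AModX.res N (le_top : V ≤ ⊤) t) m) := fun V m => by
    show φ.hom.app V ((KoszTw.tensorMap (QCoh.homOfTop t) (𝟙 M)).app V (InvX.tmul (show Γ(O, V) from (1 : Γ(X, V))) m)) = _
    rw [show (KoszTw.tensorMap (QCoh.homOfTop t) (𝟙 M)).app V (InvX.tmul (show Γ(O, V) from (1 : Γ(X, V))) m) =
      InvX.tmul ((QCoh.homOfTop t).app V (1 : Γ(X, V))) m from
        KoszTw.tensorMap_tmul (QCoh.homOfTop t) (𝟙 M) V _ m, QCoh.homOfTop_app, one_smul]
    rfl
  have hloc : ∀ x : X, ∃ (V : X.Opens) (_ : x ∈ V) (e : Γ(CohB1.tensorMod O M, V)) (c w : Γ(X, V)),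
      InvX.IsFrame e ∧ IsUnit w ∧ (show Γ(X, V) from ψ.app V e) = c * w ∧ AmpleX.locus t ⊓ V = X.basicOpen c := by
    intro x
    obtain ⟨V, hx, e₀, m, he₀, hm⟩ := InvX.exists_frame₂ hN hM x
    obtain ⟨c, hc⟩ := he₀.exists_coord le_rfl (AModX.res N (le_top : V ≤ ⊤) t)
    rw [AModX.res_self] at hc
    have hf := (InvX.IsFrame.map_iso φ (InvX.isFrame_tmul he₀ hm)) V le_rfl
    obtain ⟨r, hr⟩ := hf.2 (show Γ(O, V) from (1 : Γ(X, V)))
    rw [AModX.res_self] at hr
    refine ⟨V, hx, _, c, φ.hom.app V (InvX.tmul e₀ m), InvX.isFrame_tmul (InvX.isFrame_one _) hm,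
      IsUnit.of_mul_eq_one_right r hr, ?_, AmpleX.locus_inf t le_top he₀ hc⟩
    rw [hval, hc, InvX.tmul_smul_left, Scheme.Modules.Hom.app_smul]
    rfl
  refine ⟨ψ, inferInstance, fun U σ x hx h => ?_, fun x hx => ?_⟩
  · obtain ⟨V, hxV, e, c, w, he, -, hψ, hb⟩ := hloc x
    have hxU : x ∈ U := X.basicOpen_le _ h
    obtain ⟨r, hr⟩ := (he.res (inf_le_right : U ⊓ V ≤ V)).exists_coord le_rfl (AModX.res _ (inf_le_left : U ⊓ V ≤ U) σ)
    rw [AModX.res_self] at hr
    have h1 : AModX.resR (inf_le_left : U ⊓ V ≤ U) (show Γ(X, U) from ψ.app U σ) =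
        r * AModX.resR (inf_le_right : U ⊓ V ≤ V) (c * w) := by
      rw [← hψ]
      refine (AModX.app_res ψ (inf_le_left : U ⊓ V ≤ U) σ).symm.trans ?_
      rw [hr, Scheme.Modules.Hom.app_smul, AModX.app_res ψ]
      rfl
    have h2 : x ∈ X.basicOpen (AModX.resR (inf_le_left : U ⊓ V ≤ U) (show Γ(X, U) from ψ.app U σ)) :=
      (Scheme.basicOpen_res X _ _).ge ⟨⟨hxU, hxV⟩, h⟩
    rw [h1, Scheme.basicOpen_mul, map_mul, Scheme.basicOpen_mul] at h2
    have h3 : x ∈ (U ⊓ V) ⊓ X.basicOpen c := (Scheme.basicOpen_res X c _).le h2.2.1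
    exact hx (hb.ge h3.2).1
  · obtain ⟨V, hxV, e, c, w, he, hw, hψ, hb⟩ := hloc x
    have hc : x ∈ X.basicOpen c := hb.le ⟨hx, hxV⟩
    have hle := X.basicOpen_le c
    have hu : IsUnit (AModX.resR hle (c * w)) := by
      rw [map_mul]
      exact (RingedSpace.isUnit_res_basicOpen _ c).mul (hw.map _)
    obtain ⟨v, hv⟩ := hu.exists_left_inv
    refine ⟨X.basicOpen c, hc, v • AModX.res _ hle e, ?_⟩
    rw [Scheme.Modules.Hom.app_smul, AModX.app_res ψ]
    refine Eq.trans ?_ hv
    rw [← hψ]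
    rfl

/-- A section whose twisted first cohomology vanishes has connected zero locus on a connected scheme. -/
theorem isPreconnected_of_H1 [ConnectedSpace X] {N M : X.Modules} (hN : PicF.IsInvertible N)
    (hM : PicF.IsInvertible M) (hNM : PicF.cl N * PicF.cl M = 1) (t : Γ(N, (⊤ : X.Opens)))
    (ht : Mono (QCoh.homOfTop t)) (h1 : Subsingleton (Coh.HH X (CohB1.tensorMod (Coh.structureModule X) M) 1))
    (hart : ∀ g : Γ(X, ⊤), IsUnit g ∨ IsNilpotent g) :
    _root_.IsPreconnected ((AmpleX.locus t : X.Opens) : Set X)ᶜ := by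
  classical
  let O := Coh.structureModule X
  let G : X.Opens := AmpleX.locus t
  obtain ⟨ψ, hψm, hψ0, hψ1⟩ := exists_twistMap hN hM hNM t ht
  rw [isPreconnected_iff_subset_of_fully_disjoint_closed G.isOpen.isClosed_compl]
  intro a b ha hb hsub hd
  by_contra hcon
  push Not at hcon
  obtain ⟨hna, hnb⟩ := hcon
  obtain ⟨p, hp, hpb⟩ := Set.not_subset.1 hnb
  obtain ⟨q, hq, hqa⟩ := Set.not_subset.1 hna
  let A : Set X := (G : Set X)ᶜ ∩ a
  let B : Set X := (G : Set X)ᶜ ∩ b
  let UA : X.Opens := ⟨Bᶜ, (G.isOpen.isClosed_compl.inter hb).isOpen_compl⟩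
  let UB : X.Opens := ⟨Aᶜ, (G.isOpen.isClosed_compl.inter ha).isOpen_compl⟩
  let π := cokernel.π ψ
  let Q := cokernel ψ
  let W : ULift.{u} Bool → X.Opens := fun i => if i.down then UA else UB
  have hWcov : (⊤ : X.Opens) ≤ ⨆ i, W i := fun z _ => Opens.mem_iSup.2 (by
    by_cases hz : z ∈ B
    · exact ⟨⟨false⟩, fun h => Set.disjoint_left.1 hd h.2 hz.2⟩
    · exact ⟨⟨true⟩, hz⟩)
  let val : ∀ i : ULift.{u} Bool, Γ(Q, W i) := fun i => π.app (W i) (show Γ(O, W i) from if i.down then (1 : Γ(X, W i)) else 0)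
  have hG : ∀ {V : X.Opens}, V ≤ G → ∀ f : Γ(X, V), π.app V (show Γ(O, V) from f) = 0 := fun {V} hV f => by
    refine AModX.eq_of_locally _ _ fun z hz => ?_
    obtain ⟨V', hzV', σ, hσ⟩ := hψ1 z (hV hz)
    refine ⟨V ⊓ V', inf_le_left, ⟨hz, hzV'⟩, ?_⟩
    rw [map_zero, ← AModX.app_res π]
    have h : AModX.res O (inf_le_left : V ⊓ V' ≤ V) (show Γ(O, V) from f) =
        ψ.app _ (AModX.resR (inf_le_left : V ⊓ V' ≤ V) f • AModX.res _ (inf_le_right : V ⊓ V' ≤ V') σ) := by
      rw [Scheme.Modules.Hom.app_smul, AModX.app_res ψ]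
      show AModX.resR (inf_le_left : V ⊓ V' ≤ V) f = AModX.resR (inf_le_left : V ⊓ V' ≤ V) f *
        AModX.resR (inf_le_right : V ⊓ V' ≤ V') (show Γ(X, V') from ψ.app V' σ)
      rw [hσ, map_one, mul_one]
    rw [h]
    exact congr(($(cokernel.condition ψ)).app _ _)
  have hAB : UA ⊓ UB ≤ G := fun z hz => by
    by_contra h
    rcases hsub (show z ∈ (G : Set X)ᶜ from h) with h' | h'
    · exact hz.2 ⟨h, h'⟩
    · exact hz.1 ⟨h, h'⟩
  obtain ⟨s, hs, -⟩ := AModX.existsUnique_glue (M := Q) (V := ⊤) W (fun i => (le_top : W i ≤ ⊤))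
    (fun z _ => Opens.mem_iSup.1 (hWcov (show z ∈ (⊤ : X.Opens) from trivial))) val fun i j => by
      obtain ⟨i⟩ := i; obtain ⟨j⟩ := j
      cases i <;> cases j
      · rfl
      · rw [← AModX.app_res π, ← AModX.app_res π]
        exact (hG (fun z (hz : z ∈ UB ⊓ UA) => hAB ⟨hz.2, hz.1⟩) _).trans (hG (fun z (hz : z ∈ UB ⊓ UA) => hAB ⟨hz.2, hz.1⟩) _).symm
      · rw [← AModX.app_res π, ← AModX.app_res π]
        exact (hG (fun z hz => hAB hz) _).trans (hG (fun z hz => hAB hz) _).symm
      · rfl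
  have hse : (ShortComplex.mk ψ π (cokernel.condition ψ)).ShortExact :=
    ShortComplex.ShortExact.mk' (ShortComplex.exact_cokernel ψ) hψm inferInstance
  obtain ⟨g, hg⟩ := QCoh.app_top_surjective_of_HH_one hse h1 s
  have key : ∀ (i : ULift.{u} Bool) (z : X), z ∈ W i → z ∉ G →
      (z ∈ X.basicOpen (show Γ(X, ⊤) from g) ↔ i.down = true) := by
    intro i z hz hzG
    obtain ⟨V, hV, hzV, hVW⟩ := exists_isAffineOpen_mem_and_subset hz
    have hVW' : V ≤ W i := hVW
    let gV : Γ(X, V) := AModX.resR (le_top : V ≤ ⊤) (show Γ(X, ⊤) from g)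
    let cst : Γ(X, V) := if i.down then 1 else 0
    have hc : AModX.res O hVW' (show Γ(O, W i) from if i.down then (1 : Γ(X, W i)) else 0) = (show Γ(O, V) from cst) := by
      show AModX.resR hVW' (if i.down then (1 : Γ(X, W i)) else 0) = cst
      obtain ⟨i⟩ := i; cases i <;> simp [cst]
    have h0 : π.app V (show Γ(O, V) from gV - cst) = 0 := by
      show π.app V ((show Γ(O, V) from gV) - (show Γ(O, V) from cst)) = 0
      rw [map_sub, sub_eq_zero, ← hc, AModX.app_res π, show π.app V (show Γ(O, V) from gV) =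
        AModX.res Q (le_top : V ≤ ⊤) (π.app ⊤ g) from AModX.app_res π _ g, show π.app ⊤ g = s from hg,
        ← AModX.res_res (le_top : W i ≤ ⊤) hVW', hs i]
    obtain ⟨σ, hσ⟩ := ExistEasy.exists_app_of_cokernel (KFlatLib.isQCoh_tensor QCoh.isQCoh_structureModule
      (ProjUPX.isQCoh_of_isInvertible hM)) QCoh.isQCoh_structureModule ψ hV _ h0
    have hn : z ∉ X.basicOpen (gV - cst) := by
      have h := hψ0 V σ z hzG
      rwa [show (show Γ(X, V) from ψ.app V σ) = gV - cst from hσ] at h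
    have hgz : z ∈ X.basicOpen gV ↔ z ∈ X.basicOpen (show Γ(X, ⊤) from g) :=
      ⟨fun h => ((Scheme.basicOpen_res X _ _).le h).2, fun h => (Scheme.basicOpen_res X _ _).ge ⟨hzV, h⟩⟩
    rw [← hgz, X.mem_basicOpen gV z hzV]
    rw [X.mem_basicOpen _ z hzV, map_sub] at hn
    obtain ⟨i⟩ := i
    cases i with
    | false =>
      simp only [cst, Bool.false_eq_true, if_false, map_zero, sub_zero] at hn
      simpa using hn
    | true =>
      simp only [cst, if_true, map_one] at hn
      refine iff_of_true ?_ rfl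
      have h : IsUnit (-((X.presheaf.germ V z hzV) gV - 1)) ∨ IsUnit ((X.presheaf.germ V z hzV) gV) :=
        (IsLocalRing.isUnit_or_isUnit_of_add_one (by ring))
      exact h.resolve_left fun h' => hn (IsUnit.neg_iff _ |>.1 h')
  have hgp : p ∈ X.basicOpen (show Γ(X, ⊤) from g) :=
    (key ⟨true⟩ p (fun h => hpb h.2) (fun h => hp h)).2 rfl
  have hgq : q ∉ X.basicOpen (show Γ(X, ⊤) from g) := fun h =>
    Bool.false_ne_true ((key ⟨false⟩ q (fun h' => hqa h'.2) (fun h' => hq h')).1 h)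
  rcases hart (show Γ(X, ⊤) from g) with hu | hn
  · exact hgq (by rw [X.basicOpen_of_isUnit hu]; trivial)
  · rw [X.mem_basicOpen (show Γ(X, ⊤) from g) p trivial] at hgp
    exact (hn.map (X.presheaf.germ ⊤ p trivial).hom).not_isUnit hgp

end Groth.Agent.Big.AmpleConn

namespace Groth.Agent.Big.AmpleConn

open Groth.Agent

variable {X : Scheme.{u}}

/-- Global functions of a connected proper scheme are units or nilpotent. -/
theorem isUnit_or_isNilpotent (k : Type u) [Field k] [X.Over (Spec (CommRingCat.of k))]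
    [IsProper (X ↘ Spec (CommRingCat.of k))] [ConnectedSpace X] (g : Γ(X, ⊤)) : IsUnit g ∨ IsNilpotent g := by
  haveI := CurveCohLib.isNoetherian_of_proper (k := k) (X := X)
  let φ : k →+* Γ(X, ⊤) := Coh.toGlobal (X ↘ Spec (CommRingCat.of k))
  letI : Algebra k Γ(X, ⊤) := φ.toAlgebra
  haveI := CurveCohLib.finite_HH (k := k) (X := X) QCoh.isCoh_structureModule' 0
  let e : Coh.HH X (Coh.structureModule X) 0 →ₗ[k] Γ(X, ⊤) :=
    { toFun := fun x => sect (Coh.structureModule X) x
      map_add' := fun a b => map_add (sect (Coh.structureModule X)) a b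
      map_smul' := fun c t => sect_smul k (Coh.structureModule X) c t }
  haveI : Module.Finite k Γ(X, ⊤) := Module.Finite.of_surjective e (sect (Coh.structureModule X)).surjective
  obtain ⟨p, hp, h⟩ : ∃ p : Polynomial k, p ≠ 0 ∧ Polynomial.aeval g p = 0 :=
    ⟨minpoly k g, minpoly.ne_zero (Algebra.IsIntegral.isIntegral g), minpoly.aeval k g⟩
  refine CurveEnd.isUnit_or_isNilpotent (fun e he => ?_) g p hp h
  have hdisj : (X.basicOpen e : Set X) ∩ X.basicOpen (1 - e) = ∅ := by
    rw [← Opens.coe_inf, ← Scheme.basicOpen_mul, show e * (1 - e) = 0 by rw [mul_sub, mul_one, he, sub_self],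
      Scheme.basicOpen_zero]
    rfl
  have hcov : ∀ x : X, x ∈ X.basicOpen e ∨ x ∈ X.basicOpen (1 - e) := fun x => by
    rw [X.mem_basicOpen e x trivial, X.mem_basicOpen (show Γ(X, ⊤) from 1 - e) x trivial, map_sub, map_one]
    exact IsLocalRing.isUnit_or_isUnit_of_add_one (add_sub_cancel _ _)
  have key : ∀ e : Γ(X, ⊤), e * e = e → (∀ x : X, x ∈ X.basicOpen e) → e = 1 := fun e he h => by
    have hu : IsUnit e := X.toRingedSpace.isUnit_of_isUnit_germ ⊤ e fun x hx => (X.mem_basicOpen e x hx).1 (h x)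
    exact hu.mul_left_cancel (he.trans (mul_one e).symm)
  have hcl : IsClopen (X.basicOpen e : Set X) := by
    refine ⟨⟨?_⟩, (X.basicOpen e).2⟩
    convert (X.basicOpen (1 - e)).2 using 1
    ext x
    exact ⟨fun h => (hcov x).resolve_left h, fun h h' => Set.eq_empty_iff_forall_notMem.1 hdisj x ⟨h', h⟩⟩
  rcases isClopen_iff.1 hcl with h0 | h1
  · refine Or.inl (sub_eq_self.1 (key (1 - e) (by linear_combination he) fun x => ?_))
    exact (hcov x).resolve_left (Set.eq_empty_iff_forall_notMem.1 h0 x)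
  · exact Or.inr (key e he fun x => Set.eq_univ_iff_forall.1 h1 x)

/-- Powers of a regular section are regular. -/
theorem mono_powElt {L : X.Modules} (hL : PicF.IsInvertible L) (s : Coh.structureModule X ⟶ L) (hs : Mono s) (n : ℕ) :
    Mono (QCoh.homOfTop (AmpleX.powElt (InvX.one (InvX.ofSect (ZeroSchX.sv s ⊤))) n)) := by
  rw [InvX.one_ofSect]
  have hinj : ∀ W : X.Opens, Function.Injective (s.app W) := fun W => ZClosLib.app_injective_of_mono s W
  refine QCoh.mono_of_app_injective _ fun W => (injective_iff_map_eq_zero _).2 fun r hr => ?_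
  change (QCoh.homOfTop _).app W (show Γ(X, W) from r) = 0 at hr
  rw [QCoh.homOfTop_app] at hr
  show (show Γ(X, W) from r) = 0
  refine AModX.eq_of_locally (M := Coh.structureModule X) _ _ fun z hz => ?_
  obtain ⟨V₀, hzV, e, he⟩ := InvX.exists_frame hL z
  let V := W ⊓ V₀
  have hV : V ≤ W := inf_le_left
  have hv := he.res (inf_le_right : W ⊓ V₀ ≤ V₀)
  obtain ⟨c, hc⟩ := hv.exists_coord le_rfl (ZeroSchX.sv s V)
  rw [AModX.res_self] at hc
  refine ⟨V, hV, ⟨hz, hzV⟩, ?_⟩
  rw [map_zero]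
  have hreg : ∀ a : Γ(X, V), a * c = 0 → a = 0 := fun a ha => by
    refine hinj V ((?_ : s.app V (show Γ(Coh.structureModule X, V) from a) = 0).trans (map_zero (s.app V).hom).symm)
    rw [show (show Γ(Coh.structureModule X, V) from a) = a • (show Γ(Coh.structureModule X, V) from (1 : Γ(X, V))) from
      (mul_one a).symm, Scheme.Modules.Hom.app_smul]
    show a • ZeroSchX.sv s V = 0
    rw [hc, ← mul_smul, ha, zero_smul]
  have h : AModX.resR hV (show Γ(X, W) from r) * c ^ n = 0 := by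
    refine (AmpleX.isFrame_powElt hv n).coord_unique le_rfl ?_
    rw [AModX.res_self, zero_smul, mul_smul, ← AmpleX.powElt_smul, ← hc,
      show ZeroSchX.sv s V = AModX.res L (le_top : V ≤ ⊤) (ZeroSchX.sv s ⊤) from (ZeroSchX.res_sv s le_top).symm,
      ← AmpleX.res_powElt,
      ← AModX.res_res (le_top : W ≤ ⊤) hV, ← AModX.res_smul]
    exact (congrArg (AModX.res _ hV) hr).trans (map_zero _)
  show AModX.resR hV (show Γ(X, W) from r) = 0
  clear hr
  generalize AModX.resR hV (show Γ(X, W) from r) = a at h ⊢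
  induction n generalizing a with
  | zero => rwa [pow_zero, mul_one] at h
  | succ n ih =>
    rw [pow_succ, ← mul_assoc] at h
    exact ih a (hreg _ h)

/-- The zero scheme of a regular section of an ample module is connected when the depth is at least two
at closed points. -/
theorem connectedSpace_zeroScheme (k : Type u) [Field k] [X.Over (Spec (CommRingCat.of k))]
    [IsProper (X ↘ Spec (CommRingCat.of k))] [ConnectedSpace X] {L : X.Modules} (hL : CohB1.IsAmple L)
    (s : Coh.structureModule X ⟶ L) (hs : Mono s)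
    (hdepth : ∀ x : X, IsClosed ({x} : Set X) → 2 ≤ LocCoh.depth (X.presheaf.stalk x) (X.presheaf.stalk x)) :
    ConnectedSpace ↥(PicF2.zeroScheme L s).subscheme := by
  classical
  haveI := CurveCohLib.isNoetherian_of_proper (k := k) (X := X)
  obtain ⟨M, hM, ⟨δ⟩⟩ := H23.PicInv.exists_inverse hL.1
  have hLM : PicF.cl L * PicF.cl M = 1 := by rw [← cl_tensor, cl_eq_iff.2 ⟨δ⟩, H23.PicMul.one_def]
  obtain ⟨r, i, hi, -, hb⟩ := AmpleEmbed.exists_closedImmersion_pow (X ↘ (Spec (CommRingCat.of k))) hL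
  obtain ⟨b, hb0, hb⟩ := hb inferInstance
  let i' : X ⟶ PnVan.P k r := i
  haveI : IsClosedImmersion i' := hi
  have hdO : ∀ x : X, IsClosed ({x} : Set X) →
      ((2 : ℕ) : ℕ∞) ≤ LocCoh.depth (X.presheaf.stalk x) ((Coh.structureModule X).presheaf.stalk x) := fun x hx => by
    obtain ⟨e⟩ := H23.InvStalk.exists_stalk_equiv InvX.isInvertible_structureModule x
    refine le_of_le_of_eq ?_ (Hensel.depth_congr e).symm
    exact_mod_cast hdepth x hx
  have hvan : ∀ j, j < 2 → _ := fun j hj => PnVan.eventually_subsingleton_of_depth (r := r) i' hL.1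
    (show ClSub.IsInverseOf L M from ⟨δ⟩) hb0 hb (QCoh.isCoh_structureModule' (X := X)) hdO j hj
  let σ := InvX.one (InvX.ofSect (ZeroSchX.sv s ⊤))
  have hσ : σ = ZeroSchX.sv s ⊤ := InvX.one_ofSect _
  have hsupp : ((PicF2.zeroScheme L s).support : Set X) = ((AmpleX.locus σ : X.Opens) : Set X)ᶜ := by
    ext x
    obtain ⟨U₀, hx, e, he⟩ := InvX.exists_frame hL.1 x
    obtain ⟨U, hU, hxU, hle⟩ := exists_isAffineOpen_mem_and_subset (show x ∈ U₀ from hx)
    have hle' : U ≤ U₀ := hle
    obtain ⟨c, hc⟩ := (he.res hle').exists_coord le_rfl (ZeroSchX.sv s U)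
    rw [AModX.res_self] at hc
    have hb' := AmpleX.locus_inf σ (le_top : U ≤ ⊤) (he.res hle') (g := c) (by
      rw [hσ]; exact (ZeroSchX.res_sv s _).trans hc)
    rw [SetLike.mem_coe, Scheme.IdealSheafData.mem_support_iff_of_mem (U := ⟨U, hU⟩) hxU,
      ZeroSchX.ideal_zeroScheme hL.1 s ⟨U, hU⟩, ZeroSchX.zeroIdealOn_eq_span s (he.res hle') hc,
      Scheme.zeroLocus_span, Scheme.zeroLocus_singleton]
    show x ∉ (X.basicOpen c : Set X) ↔ _
    rw [← hb']
    exact ⟨fun h h' => h ⟨h', hxU⟩, fun h h' => h h'.1⟩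
  have hne : ((AmpleX.locus σ : X.Opens) : Set X)ᶜ.Nonempty := by
    by_contra h
    rw [Set.not_nonempty_iff_eq_empty, Set.compl_empty_iff] at h
    have hf : InvX.IsFrame σ := by
      have := AmpleX.isFrame_res_of_le σ (show (⊤ : X.Opens) ≤ AmpleX.locus σ from fun x _ => h.ge (Set.mem_univ x))
      rwa [AModX.res_self] at this
    haveI : IsIso (QCoh.homOfTop σ) := DivX.isIso_of_frames _ fun x =>
      ⟨⊤, trivial, (show Γ(Coh.structureModule X, ⊤) from (1 : Γ(X, ⊤))), InvX.isFrame_one _, by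
        rw [QCoh.homOfTop_app, one_smul]
        exact (AModX.res_self (M := L) σ).symm ▸ hf⟩
    have hLcl : PicF.cl L = 1 := by
      rw [← cl_eq_iff.2 ⟨asIso (QCoh.homOfTop σ)⟩, H23.PicMul.one_def]
    have hMcl : PicF.cl M = 1 := by
      have := hLM
      rwa [hLcl, one_mul] at this
    obtain ⟨m₀, hm₀⟩ := hvan 0 two_pos
    obtain ⟨φ⟩ : Nonempty (CohB1.tensorMod (Coh.structureModule X) (CohB1.tensorPow M m₀) ≅ Coh.structureModule X) :=
      cl_eq_iff.1 (by rw [cl_tensor, one_mul_cl, cl_tensorPow, hMcl, one_pow, H23.PicMul.one_def])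
    haveI := hm₀ m₀ le_rfl
    have hs0 : Subsingleton Γ(CohB1.tensorMod (Coh.structureModule X) (CohB1.tensorPow M m₀), (⊤ : X.Opens)) :=
      (sect _).symm.injective.subsingleton
    have h01 : (0 : Γ(X, ⊤)) = 1 := by
      have := congrArg (φ.hom.app ⊤) (hs0.elim 0 (φ.inv.app ⊤ (show Γ(Coh.structureModule X, ⊤) from (1 : Γ(X, ⊤)))))
      rw [map_zero] at this
      refine this.trans ?_
      rw [← ConcreteCategory.comp_apply, ← Scheme.Modules.Hom.comp_app, Iso.inv_hom_id]
      rfl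
    obtain ⟨x⟩ : Nonempty X := inferInstance
    haveI : Nonempty (⊤ : X.Opens) := ⟨⟨x, trivial⟩⟩
    exact zero_ne_one h01
  obtain ⟨m₀, hm₀⟩ := hvan 1 one_lt_two
  have hpre := isPreconnected_of_H1 (InvX.isInvertible_tensorPow hL.1 (m₀ + 1)) (InvX.isInvertible_tensorPow hM (m₀ + 1))
    (by rw [cl_tensorPow, cl_tensorPow, ← mul_pow, hLM, one_pow]) (AmpleX.powElt σ (m₀ + 1))
    (mono_powElt hL.1 s hs (m₀ + 1)) (hm₀ _ (Nat.le_succ _)) (isUnit_or_isNilpotent k)
  rw [AmpleX.locus_powElt hL.1 σ m₀, ← hsupp] at hpre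
  have hconn : _root_.IsConnected (Set.univ : Set (PicF2.zeroScheme L s).subscheme) := by
    refine (((PicF2.zeroScheme L s).subschemeι.isEmbedding.isInducing).isPreconnected_image.1 ?_) |> fun h => ⟨?_, h⟩
    · rw [Set.image_univ, Scheme.IdealSheafData.range_subschemeι]; exact hpre
    · obtain ⟨x, hx⟩ := hne
      rw [← hsupp, ← Scheme.IdealSheafData.range_subschemeι] at hx
      obtain ⟨z, -⟩ := hx
      exact ⟨z, trivial⟩
  exact connectedSpace_iff_univ.2 hconn

end Groth.Agent.Big.AmpleConn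

namespace Groth.Agent.Big.AmpleConn

open Groth.Agent

/-- An element of a limit of rings all of whose components are units is a unit. -/
theorem isUnit_limit {J : Type} [Category J] (F : J ⥤ CommRingCat.{u}) (b : ↑(limit F))
    (hb : ∀ j, IsUnit ((limit.π F j).hom b)) : IsUnit b := by
  choose v hv using fun j => (hb j).exists_left_inv
  have hcomp : ∀ {i j : J} (f : i ⟶ j), (F.map f).hom (v i) = v j := fun {i j} f => by
    have h1 : (F.map f).hom (v i) * (limit.π F j).hom b = 1 := by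
      rw [show (limit.π F j).hom b = (F.map f).hom ((limit.π F i).hom b) from
        (ConcreteCategory.congr_hom (limit.w F f) b).symm, ← map_mul, hv i, map_one]
    exact (hb j).mul_right_cancel (h1.trans (hv j).symm)
  let c : Cone F :=
    { pt := CommRingCat.of (Polynomial (ULift.{u} ℤ))
      π :=
        { app := fun j => CommRingCat.ofHom
            (Polynomial.eval₂RingHom ((Int.castRingHom (F.obj j)).comp ULift.ringEquiv.toRingHom) (v j))
          naturality := fun i j f => by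
            refine CommRingCat.hom_ext (Polynomial.ringHom_ext (fun n => ?_) ?_)
            · obtain ⟨n⟩ := n; simp
            · simp [hcomp f] } }
  let w : ↑(limit F) := (limit.lift F c).hom Polynomial.X
  refine IsUnit.of_mul_eq_one w (Concrete.limit_ext F _ _ fun j => ?_)
  show (limit.π F j).hom (b * w) = (limit.π F j).hom 1
  rw [map_mul, map_one, show (limit.π F j).hom w = v j from
    (ConcreteCategory.congr_hom (limit.lift_π c j) Polynomial.X).trans (Polynomial.eval₂_X _ _), mul_comm, hv]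

/-- On a connected proper scheme over an algebraically closed field every function is a constant up to
a nilpotent. -/
theorem exists_sub_const_isNilpotent {X : Scheme.{u}} (k : Type u) [Field k] [IsAlgClosed k]
    [X.Over (Spec (CommRingCat.of k))] [IsProper (X ↘ Spec (CommRingCat.of k))] [ConnectedSpace X]
    (g : Γ(X, ⊤)) : ∃ c : k, IsNilpotent (g - (show Γ(X, ⊤) from Coh.toGlobal (X ↘ Spec (CommRingCat.of k)) c)) := by
  haveI := CurveCohLib.isNoetherian_of_proper (k := k) (X := X)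
  let φ : k →+* Γ(X, ⊤) := Coh.toGlobal (X ↘ Spec (CommRingCat.of k))
  letI : Algebra k Γ(X, ⊤) := φ.toAlgebra
  haveI := CurveCohLib.finite_HH (k := k) (X := X) QCoh.isCoh_structureModule' 0
  let e : Coh.HH X (Coh.structureModule X) 0 →ₗ[k] Γ(X, ⊤) :=
    { toFun := fun x => sect (Coh.structureModule X) x
      map_add' := fun a b => map_add (sect (Coh.structureModule X)) a b
      map_smul' := fun c t => sect_smul k (Coh.structureModule X) c t }
  haveI : Module.Finite k Γ(X, ⊤) := Module.Finite.of_surjective e (sect (Coh.structureModule X)).surjective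
  haveI : Nontrivial Γ(X, ⊤) := by
    obtain ⟨z⟩ : Nonempty X := inferInstance
    refine ⟨⟨1, 0, fun h => ?_⟩⟩
    have hz : z ∈ X.basicOpen (1 : Γ(X, ⊤)) := by rw [Scheme.basicOpen_of_isUnit _ isUnit_one]; trivial
    rw [h, Scheme.basicOpen_zero] at hz
    exact hz
  obtain ⟨c, hc⟩ := spectrum.nonempty_of_isAlgClosed_of_finiteDimensional k g
  refine ⟨c, (isUnit_or_isNilpotent k _).resolve_left fun hu => ?_⟩
  exact spectrum.mem_iff.1 hc (by rw [← neg_sub g]; exact hu.neg)

end Groth.Agent.Big.AmpleConn
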