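import Groth.Agent.Big.AmpleConn
import Groth.Agent.Big.Connected
import Groth.Agent.NormFieldX.Curve
import Groth.Agent.AVRosati.DivPos
import Groth.Agent.Nakai.Pullback
import Groth.Agent.SmoothReg.Scheme
import Groth.Agent.AlgSpLib.CartierDepth
import Groth.Agent.Lib.AVAmple

/-!
# Ample divisors on integral proper schemes of dimension at least two are connected
-/

set_option autoImplicit false
set_option linter.style.haveILetI false
set_option linter.unusedSectionVars false
set_option backward.isDefEq.respectTransparency false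
set_option backward.isDefEq.respectTransparency.types false
set_option maxHeartbeats 1000000

universe u

open CategoryTheory CategoryTheory.Limits AlgebraicGeometry TopologicalSpace Opposite
open Groth.Agent.H23.PicMul

noncomputable section

namespace Groth.Agent.Big.AmpleConn

open Groth.Agent

variable {X : Scheme.{u}}

/-- The zero scheme of an injective section on an integral scheme is a divisor. -/
theorem divisor_of_mono [IsIntegral X] {L : X.Modules} (hL : PicF.IsInvertible L)
    (s : Coh.structureModule X ⟶ L) (hs : Mono s) :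
    BlowUp.IsEffCartierIdeal (PicF2.zeroScheme L s) ∧
      PicF.cl L * PicF.cl (ClSub.idealMod (PicF2.zeroScheme L s)) = 1 :=
  zeroScheme_divisor hL s fun x => by
    obtain ⟨U₀, hx, e, he⟩ := InvX.exists_frame hL x
    obtain ⟨U, hU, hxU, hle⟩ := exists_isAffineOpen_mem_and_subset (show x ∈ U₀ from hx)
    have hle' : U ≤ U₀ := hle
    obtain ⟨c, hc⟩ := (he.res hle').exists_coord le_rfl (ZeroSchX.sv s U)
    rw [AModX.res_self] at hc
    refine ⟨⟨U, hU⟩, hxU, _, c, he.res hle', hc, fun h0 => ?_⟩
    haveI : Nonempty U := ⟨⟨x, hxU⟩⟩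
    have h : s.app U (show Γ(Coh.structureModule X, U) from (1 : Γ(X, U))) = 0 := by
      rw [h0, zero_smul] at hc
      exact hc
    exact one_ne_zero (α := Γ(X, U)) (ZClosLib.app_injective_of_mono s U (h.trans (map_zero (s.app U).hom).symm))

/-- Ample effective divisors on integral proper schemes of dimension at least two are connected. -/
theorem isConnected_support (k : Type u) [Field k] [X.Over (Spec (CommRingCat.of k))]
    [IsProper (X ↘ Spec (CommRingCat.of k))] [IsIntegral X] (hdim : (2 : WithBot ℕ∞) ≤ topologicalKrullDim X)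
    {L : X.Modules} (hL : CohB1.IsAmple L) {I : X.IdealSheafData} (hI : BlowUp.IsEffCartierIdeal I)
    (hIcl : PicF.cl L * PicF.cl (ClSub.idealMod I) = 1) :
    _root_.IsConnected (I.support : Set X) := by
  classical
  haveI := CurveCohLib.isNoetherian_of_proper (k := k) (X := X)
  haveI : X.IsSeparated := AmpleVan.isSeparated_of_proper (X := X) (A := k)
  let φ : X.functionField →+* X.functionField := RingHom.id _
  haveI : QuasiCompact (NormFieldX.pnt X X.functionField φ) := quasiCompact_of_noetherianSpace_source _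
  haveI : QuasiSeparated (NormFieldX.pnt X X.functionField φ) := inferInstance
  haveI : IsFinite (NormFieldX.ν X X.functionField φ) :=
    NormFieldX.isFinite_ν k (X ↘ Spec (CommRingCat.of k)) (RingHom.Finite.id _)
  let Y := NormFieldX.norm X X.functionField φ
  let ν : Y ⟶ X := NormFieldX.ν X X.functionField φ
  haveI : IsIntegral Y := inferInstanceAs (IsIntegral (NormFieldX.norm X X.functionField φ))
  letI : Y.Over (Spec (CommRingCat.of k)) := ⟨ν ≫ (X ↘ Spec (CommRingCat.of k))⟩
  haveI : IsProper (Y ↘ Spec (CommRingCat.of k)) := inferInstanceAs (IsProper (ν ≫ (X ↘ Spec (CommRingCat.of k))))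
  have hgen : ν (genericPoint Y) = genericPoint X := by
    have h := NormFieldX.preimage_genericPoint (X := X) (K := X.functionField) (φ := φ)
    exact (h.ge rfl : _)
  have hsurj : Function.Surjective ν := fun x => by
    have hc : IsClosed (Set.range ν) := ν.isClosedMap.isClosed_range
    have h : closure ({genericPoint X} : Set X) ⊆ Set.range ν :=
      hc.closure_subset_iff.2 (Set.singleton_subset_iff.2 ⟨_, hgen⟩)
    rw [genericPoint_closure] at h
    exact h (Set.mem_univ x)
  have hdY : (2 : WithBot ℕ∞) ≤ topologicalKrullDim Y :=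
    hdim.trans (Nakai.dim_le_of_surjective ν ν.isClosedMap hsurj)
  have hη : genericPoint X ∉ (I.support : Set X) :=
    BlowUpX.notMem_support_of_generic hI _ fun z hz =>
      (hz.antisymm ((genericPoint_spec X).specializes (Set.mem_univ z))).eq
  have hJ := isEffCartier_comap ν hI (by rw [hgen]; exact hη)
  let A := (Scheme.Modules.pullback ν).obj L
  have hA : CohB1.IsAmple A := AmpleDev.isAmple_pullback_finite k ν hL
  have hAJ : PicF.cl A * PicF.cl (ClSub.idealMod (I.comap ν)) = 1 := by
    rw [← cl_idealMod_comap ν I hI hJ]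
    show PicF.pullCl ν (PicF.cl L) * PicF.pullCl ν (PicF.cl (ClSub.idealMod I)) = 1
    rw [← H23.PicMul.pullCl_mul, hIcl, H23.PicMul.pullCl_one]
  obtain ⟨t, ht0, ht⟩ := AVAmple.exists_divisor_section_ne_zero (I.comap ν) hJ hA.1
    (cl_eq_iff.1 (by rw [cl_tensor, hAJ, H23.PicMul.one_def]))
  have hdepth : ∀ y : Y, IsClosed ({y} : Set Y) → 2 ≤ LocCoh.depth (Y.presheaf.stalk y) (Y.presheaf.stalk y) := fun y hy => by
    haveI := CurveCohLib.isNoetherian_of_proper (k := k) (X := Y)
    obtain ⟨hdom, hic⟩ := NormFieldX.isNormalScheme_norm (X := X) (K := X.functionField) (φ := φ) y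
    haveI := hdom
    haveI := hic
    have h := FlatLoc6.depth_of_normal (Y.presheaf.stalk y)
    rw [SmoothReg.ringKrullDim_stalk_closedPoint (X := Y) (Y ↘ Spec (CommRingCat.of k)) hy, min_eq_left hdY] at h
    exact WithBot.coe_le_coe.1 h
  let τ : Coh.structureModule Y ⟶ A := QCoh.homOfTop t
  have hsv : ZeroSchX.sv τ ⊤ = t := by
    show τ.app ⊤ (1 : Γ(Y, ⊤)) = t
    rw [QCoh.homOfTop_app, one_smul]
    exact ConcreteCategory.congr_hom (A.presheaf.map_id _) t
  have hτ0 : τ ≠ 0 := fun h => ht0 (by rw [← hsv, h]; rfl)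
  have hτ : Mono τ := AVRosati.mono_of_ne_zero hA.1 τ hτ0
  have hconn := connectedSpace_zeroScheme k hA τ hτ hdepth
  have hpre : ((PicF2.zeroScheme A τ).support : Set Y) = ν ⁻¹' (I.support : Set X) := by
    rw [show ν ⁻¹' (I.support : Set X) = ((I.comap ν).support : Set Y) by rw [Scheme.IdealSheafData.support_comap]; rfl]
    ext y
    obtain ⟨U₀, hy, e, he⟩ := InvX.exists_frame hA.1 y
    obtain ⟨U, hU, hyU, hle⟩ := exists_isAffineOpen_mem_and_subset (show y ∈ U₀ from hy)
    have hle' : U ≤ U₀ := hle
    obtain ⟨c, hc⟩ := (he.res hle').exists_coord le_rfl (ZeroSchX.sv τ U)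
    rw [AModX.res_self] at hc
    have hb' := AmpleX.locus_inf t (le_top : U ≤ ⊤) (he.res hle') (g := c) (by
      rw [← hsv]; exact (ZeroSchX.res_sv τ _).trans hc)
    rw [SetLike.mem_coe, Scheme.IdealSheafData.mem_support_iff_of_mem (U := ⟨U, hU⟩) hyU,
      ZeroSchX.ideal_zeroScheme hA.1 τ ⟨U, hU⟩, ZeroSchX.zeroIdealOn_eq_span τ (he.res hle') hc,
      Scheme.zeroLocus_span, Scheme.zeroLocus_singleton]
    show y ∉ (Y.basicOpen c : Set Y) ↔ _
    rw [← hb']
    have hl : y ∈ AmpleX.locus t ↔ y ∉ (I.comap ν).support :=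
      (show y ∈ AmpleX.locus t ↔ y ∈ H23.TrivBasic.locus t by
        rw [AmpleX.mem_locus, H23.TrivBasic.mem_locus_iff]
        exact ⟨fun ⟨V, _, h1, h2⟩ => ⟨V, h1, h2⟩, fun ⟨V, h1, h2⟩ => ⟨V, le_top, h1, h2⟩⟩).trans (ht y)
    exact ⟨fun h => by_contra fun h' => h ⟨hl.2 h', hyU⟩, fun h h' => hl.1 h'.1 h⟩
  have hsupp : _root_.IsConnected ((PicF2.zeroScheme A τ).support : Set Y) := by
    rw [← Scheme.IdealSheafData.range_subschemeι]
    exact isConnected_range (PicF2.zeroScheme A τ).subschemeι.continuous
  have h := hsupp.image ν ν.continuous.continuousOn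
  rwa [hpre, Set.image_preimage_eq _ hsurj] at h

/-- Ample effective divisors on integral proper schemes of dimension at least two are connected. -/
theorem connectedSpace_zeroScheme_of_isIntegral (k : Type u) [Field k] [X.Over (Spec (CommRingCat.of k))]
    [IsProper (X ↘ Spec (CommRingCat.of k))] [IsIntegral X] (hdim : (2 : WithBot ℕ∞) ≤ topologicalKrullDim X)
    {L : X.Modules} (hL : CohB1.IsAmple L) (s : Coh.structureModule X ⟶ L) (hs : Mono s) :
    ConnectedSpace ↥(PicF2.zeroScheme L s).subscheme := by
  obtain ⟨hI, hIcl⟩ := divisor_of_mono hL.1 s hs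
  have himg := isConnected_support k hdim hL hI hIcl
  set I := PicF2.zeroScheme L s
  refine connectedSpace_iff_univ.2 ?_
  rw [← Scheme.IdealSheafData.range_subschemeι] at himg
  obtain ⟨_, ⟨z, -⟩⟩ := himg.1
  exact ⟨⟨z, trivial⟩, I.subschemeι.isEmbedding.isInducing.isPreconnected_image.1 (by rw [Set.image_univ]; exact himg.2)⟩

/-- Finite surjective preimages of ample divisors are connected on integral schemes of dimension at least two. -/
theorem isConnected_preimage (k : Type u) [Field k] [X.Over (Spec (CommRingCat.of k))]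
    [IsProper (X ↘ Spec (CommRingCat.of k))] [IsIntegral X] (hdim : (2 : WithBot ℕ∞) ≤ topologicalKrullDim X)
    {L : X.Modules} (hL : CohB1.IsAmple L) (s : Coh.structureModule X ⟶ L) (hs : Mono s)
    {Y : Scheme.{u}} (f : Y ⟶ X) [IsFinite f] [IsIntegral Y] (hf : Function.Surjective f) :
    _root_.IsConnected (f ⁻¹' ((PicF2.zeroScheme L s).support : Set X)) := by
  classical
  haveI := CurveCohLib.isNoetherian_of_proper (k := k) (X := X)
  obtain ⟨hI, hIcl⟩ := divisor_of_mono hL.1 s hs
  set I := PicF2.zeroScheme L s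
  letI : Y.Over (Spec (CommRingCat.of k)) := ⟨f ≫ (X ↘ Spec (CommRingCat.of k))⟩
  haveI : IsProper (Y ↘ Spec (CommRingCat.of k)) := inferInstanceAs (IsProper (f ≫ (X ↘ Spec (CommRingCat.of k))))
  have hgen : f (genericPoint Y) = genericPoint X := by
    refine (show IsGenericPoint (f (genericPoint Y)) Set.univ from ?_).eq (genericPoint_spec X)
    show closure {f (genericPoint Y)} = Set.univ
    rw [← Set.image_singleton, f.isClosedMap.closure_image_eq_of_continuous f.continuous, genericPoint_closure,
      Set.image_univ, hf.range_eq]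
  have hη : genericPoint X ∉ (I.support : Set X) :=
    BlowUpX.notMem_support_of_generic hI _ fun z hz =>
      (hz.antisymm ((genericPoint_spec X).specializes (Set.mem_univ z))).eq
  have hJ := isEffCartier_comap f hI (by rw [hgen]; exact hη)
  have hA : CohB1.IsAmple ((Scheme.Modules.pullback f).obj L) := AmpleDev.isAmple_pullback_finite k f hL
  have h := isConnected_support k (hdim.trans (Nakai.dim_le_of_surjective f f.isClosedMap hf)) hA hJ (by
    rw [← cl_idealMod_comap f I hI hJ]
    show PicF.pullCl f (PicF.cl L) * PicF.pullCl f (PicF.cl (ClSub.idealMod I)) = 1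
    rw [← H23.PicMul.pullCl_mul, hIcl, H23.PicMul.pullCl_one])
  rwa [show ((I.comap f).support : Set Y) = f ⁻¹' (I.support : Set X) by
    rw [Scheme.IdealSheafData.support_comap]; rfl] at h

end Groth.Agent.Big.AmpleConn
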