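import Groth.Agent.Nakai.Pos
import Groth.Agent.Nakai.Small
import Groth.Agent.Nakai.Kleiman
import Groth.Agent.AmpleVan.Uniform

/-!
# Growth of the sections of the powers of an invertible module
-/

set_option autoImplicit false
set_option linter.style.haveILetI false
set_option linter.unusedSectionVars false
set_option backward.isDefEq.respectTransparency false
set_option backward.isDefEq.respectTransparency.types false
set_option maxHeartbeats 1000000

universe u

open CategoryTheory CategoryTheory.Limits AlgebraicGeometry TopologicalSpace Opposite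
open Groth.Agent.H23.PicMul
open Groth.Agent.PnCoh.Finite (mapLin deltaLin)

noncomputable section

namespace Groth.Agent.Big

open Groth.Agent

variable (k : Type u) [Field k] {X Z : Scheme.{u}} [X.Over (Spec (CommRingCat.of k))]

/-- The dimension of the space of global sections. -/
def h0 (M : X.Modules) : ℕ := Module.finrank k (Coh.HH X M 0)

theorem h0_congr {M N : X.Modules} (e : M ≅ N) : h0 k M = h0 k N :=
  (CurveCohLib.hhEquiv (k := k) e 0).finrank_eq

theorem h0_congr_cl {M N : X.Modules} (e : PicF.cl M = PicF.cl N) : h0 k M = h0 k N :=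
  h0_congr k (cl_eq_iff.1 e).some

theorem shortExact_cokernel {A B : X.Modules} (f : A ⟶ B) [Mono f] :
    (ShortComplex.mk f (cokernel.π f) (cokernel.condition f)).ShortExact :=
  .mk' (ShortComplex.exact_of_g_is_cokernel _ (cokernelIsCokernel f)) inferInstance inferInstance

/-- `h⁰(A ⊗ P) ≤ h⁰(B ⊗ P)` for `A ↪ B`. -/
theorem shortExact_tw {S : ShortComplex X.Modules} (hS : S.ShortExact) {P : X.Modules} (hP : PicF.IsInvertible P) :
    (S.map (AmpleVan.tw P)).ShortExact := by
  haveI := AmpleVan.isEquivalence_tw hP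
  exact hS.map_of_exact (AmpleVan.tw P)

theorem mono_tw {A B P : X.Modules} (hP : PicF.IsInvertible P) (f : A ⟶ B) [Mono f] :
    Mono ((AmpleVan.tw P).map f) := by
  haveI := AmpleVan.isEquivalence_tw hP
  exact (AmpleVan.tw P).map_mono f

variable [IsProper (X ↘ Spec (CommRingCat.of k))]

theorem h0_le_of_mono' {A B : X.Modules} (f : A ⟶ B) [Mono f] [Module.Finite k (Coh.HH X B 0)] :
    h0 k A ≤ h0 k B := by
  let S := ShortComplex.mk f (cokernel.π f) (cokernel.condition f)
  have hS : S.ShortExact := shortExact_cokernel f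
  have hf : Function.Injective (mapLin k S.f 0) := LinearMap.ker_eq_bot.1 (Euler.ker_mapLin_f_zero k hS)
  show h0 k S.X₁ ≤ h0 k S.X₂
  exact LinearMap.finrank_le_finrank_of_injective hf

theorem h0_le_of_mono {A B : X.Modules} (f : A ⟶ B) [Mono f] (hB : Coh.IsCoh B) : h0 k A ≤ h0 k B := by
  haveI := CurveCohLib.finite_HH (k := k) hB 0
  let S := ShortComplex.mk f (cokernel.π f) (cokernel.condition f)
  have hS : S.ShortExact := shortExact_cokernel f
  have hf : Function.Injective (mapLin k S.f 0) := LinearMap.ker_eq_bot.1 (Euler.ker_mapLin_f_zero k hS)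
  show h0 k S.X₁ ≤ h0 k S.X₂
  haveI : Module.Finite k (Coh.HH X S.X₂ 0) := CurveCohLib.finite_HH (k := k) hB 0
  exact LinearMap.finrank_le_finrank_of_injective hf

theorem h0_le_add {S : ShortComplex X.Modules} (hS : S.ShortExact) (h₂ : Coh.IsCoh S.X₂) (h₃ : Coh.IsCoh S.X₃) :
    h0 k S.X₂ ≤ h0 k S.X₁ + h0 k S.X₃ := by
  haveI := CurveCohLib.finite_HH (k := k) h₂ 0
  haveI := CurveCohLib.finite_HH (k := k) h₃ 0
  have h := (mapLin k S.g 0).finrank_range_add_finrank_ker
  have h1 : Module.finrank k (LinearMap.range (mapLin k S.g 0)) ≤ h0 k S.X₃ := Submodule.finrank_le _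
  have h2 : Module.finrank k (LinearMap.ker (mapLin k S.g 0)) = h0 k S.X₁ := by
    rw [← Euler.range_mapLin_f k hS 0]
    exact LinearMap.finrank_range_of_inj (LinearMap.ker_eq_bot.1 (Euler.ker_mapLin_f_zero k hS))
  unfold h0 at *
  omega

/-- `h⁰(M ⊗ Lᵐ) = O(mᵈ)`. -/
def Bound (L : X.Modules) (d : ℕ) (M : X.Modules) : Prop :=
  ∃ C : ℕ, ∀ m, h0 k (CohB1.tensorMod M (CohB1.tensorPow L m)) ≤ C * (m + 1) ^ d

theorem Bound.of_iso {L M N : X.Modules} {d : ℕ} (e : M ≅ N) : Bound k L d M → Bound k L d N := fun ⟨C, h⟩ =>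
  ⟨C, fun m => le_of_eq_of_le (h0_congr k ((AmpleVan.tw (CohB1.tensorPow L m)).mapIso e).symm) (h m)⟩

theorem Bound.zero {L M : X.Modules} (hL : PicF.IsInvertible L) {d : ℕ} (hM : IsZero M) : Bound k L d M :=
  ⟨0, fun m => by
    haveI := AmpleVan.isEquivalence_tw (InvX.isInvertible_tensorPow hL m)
    exact le_of_eq_of_le (CurveCohLib.finrank_HH_zero_eq_zero_of_isZero (k := k)
      ((AmpleVan.tw (CohB1.tensorPow L m)).map_isZero hM)) (Nat.zero_le _)⟩

theorem Bound.ext {L : X.Modules} (hL : PicF.IsInvertible L) {d : ℕ} {S : ShortComplex X.Modules} (hS : S.ShortExact)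
    (h₂ : Coh.IsCoh S.X₂) (h₃ : Coh.IsCoh S.X₃) : Bound k L d S.X₁ → Bound k L d S.X₃ → Bound k L d S.X₂ :=
  fun ⟨a, ha⟩ ⟨b, hb⟩ => ⟨a + b, fun m => by
    haveI := CurveCohLib.isNoetherian_of_proper (k := k) (X := X)
    have hP := InvX.isInvertible_tensorPow hL m
    refine (h0_le_add k (shortExact_tw hS hP) (AmpleVan.isCoh_tensor h₂ (AmpleVan.isCoh_invertible hP))
      (AmpleVan.isCoh_tensor h₃ (AmpleVan.isCoh_invertible hP))).trans ?_
    rw [add_mul]
    exact Nat.add_le_add (ha m) (hb m)⟩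

theorem Bound.of_mono {L M N : X.Modules} (hL : PicF.IsInvertible L) {d : ℕ} (f : M ⟶ N) [Mono f]
    (hN : Coh.IsCoh N) : Bound k L d N → Bound k L d M := fun ⟨C, h⟩ => ⟨C, fun m => by
  haveI := CurveCohLib.isNoetherian_of_proper (k := k) (X := X)
  have hP := InvX.isInvertible_tensorPow hL m
  haveI : Mono ((AmpleVan.tw (CohB1.tensorPow L m)).map f) := mono_tw hP f
  exact (h0_le_of_mono k ((AmpleVan.tw (CohB1.tensorPow L m)).map f) (AmpleVan.isCoh_tensor hN (AmpleVan.isCoh_invertible hP))).trans (h m)⟩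

theorem eval_le_pow {q : Polynomial ℚ} {d : ℕ} (hq : q.natDegree ≤ d) (n : ℕ) :
    q.eval (n : ℚ) ≤ (∑ i ∈ Finset.range (d + 1), |q.coeff i|) * ((n : ℚ) + 1) ^ d := by
  rw [Polynomial.eval_eq_sum_range' (Nat.lt_succ_of_le hq), Finset.sum_mul]
  refine Finset.sum_le_sum fun i hi => ?_
  refine mul_le_mul (le_abs_self _) ?_ (by positivity) (abs_nonneg _)
  exact (pow_le_pow_left₀ (by positivity) (by linarith) i).trans
    (pow_le_pow_right₀ (by linarith [n.cast_nonneg (α := ℚ)]) (Nat.lt_succ_iff.1 (Finset.mem_range.1 hi)))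

/-- Eventual domination by a polynomial of degree at most `d` gives a bound. -/
theorem exists_const_of_eval {f : ℕ → ℕ} {d : ℕ} {q : Polynomial ℚ} (hq : q.natDegree ≤ d) {n₀ : ℕ}
    (h : ∀ n, n₀ ≤ n → (f n : ℚ) ≤ q.eval (n : ℚ)) : ∃ C : ℕ, ∀ n, f n ≤ C * (n + 1) ^ d := by
  obtain ⟨C, hC⟩ := exists_nat_ge (∑ i ∈ Finset.range (d + 1), |q.coeff i|)
  refine ⟨C + (Finset.range n₀).sup f, fun n => ?_⟩
  rcases lt_or_ge n n₀ with hn | hn
  · refine le_trans ?_ (Nat.le_mul_of_pos_right _ (pow_pos n.succ_pos _))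
    exact (Finset.le_sup (f := f) (Finset.mem_range.2 hn)).trans (Nat.le_add_left _ _)
  · refine le_trans ?_ (Nat.mul_le_mul_right _ (Nat.le_add_right C _))
    have h1 : (f n : ℚ) ≤ (C : ℚ) * ((n : ℚ) + 1) ^ d :=
      ((h n hn).trans (eval_le_pow hq n)).trans (mul_le_mul_of_nonneg_right hC (by positivity))
    exact_mod_cast h1

/-- The sections of the high twists by an ample module are counted by a polynomial. -/
theorem exists_poly_h0 {A M : X.Modules} (hA : CohB1.IsAmple A) (hM : Coh.IsCoh M) {C : Closeds X}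
    (hMC : CohB1.support M ⊆ C) {d : ℕ} (hd : topologicalKrullDim ↥(C : Set X) ≤ d) :
    ∃ q : Polynomial ℚ, q.natDegree ≤ d ∧ (∀ n, Snapper.χ k A M n = q.eval (n : ℚ)) ∧
      ∃ n₀ : ℕ, ∀ n, n₀ ≤ n → (h0 k (CohB1.tensorMod M (CohB1.tensorPow A n)) : ℚ) = q.eval (n : ℚ) := by
  obtain ⟨q, hq, hqn⟩ := Nakai.exists_poly k hA.1 hM hMC hd
  obtain ⟨n₀, h⟩ := AmpleVan.exists_vanishing (A := k) hA hM
  refine ⟨q, hq, hqn, n₀, fun n hn => ?_⟩
  rw [← hqn]
  refine (congrArg Int.cast ((Euler.euler_eq_sum k (CohB1.tensorMod M (CohB1.tensorPow A n)) 1 fun i hi => ?_).trans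
    ?_)).symm
  · obtain ⟨j, rfl⟩ := Nat.exists_eq_add_of_le' hi
    exact h n hn j
  · simp [h0]

/-- The polynomial of an invertible module has positive leading coefficient. -/
theorem coeff_pos_invertible [IsIntegral X] {d : ℕ} (hdim : topologicalKrullDim X = d) {A M : X.Modules}
    (hA : CohB1.IsAmple A) (hM : PicF.IsInvertible M) {q : Polynomial ℚ}
    (hqn : ∀ n, Snapper.χ k A M n = q.eval (n : ℚ)) : 0 < q.coeff d := by
  haveI := CurveCohLib.isNoetherian_of_proper (k := k) (X := X)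
  obtain ⟨η, hη⟩ := Nakai.exists_point_dim hdim
  refine Nakai.coeff_pos_of_components k hA.1 (AmpleVan.isCoh_invertible hM) (C := ⊤)
    ((Topology.IsInducing.subtypeVal.topologicalKrullDim_le).trans hdim.le) (fun x _ => trivial) hqn
    (fun ξ hξ p hp hpn => ?_) (η := η) ?_ hη
  · let W := Scheme.IdealSheafData.vanishingIdeal (⟨closure ({ξ} : Set X), isClosed_closure⟩ : Closeds X)
    letI : W.subscheme.Over (Spec (CommRingCat.of k)) := ⟨W.subschemeι ≫ (X ↘ Spec (CommRingCat.of k))⟩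
    haveI : IsProper (W.subscheme ↘ Spec (CommRingCat.of k)) :=
      inferInstanceAs (IsProper (W.subschemeι ≫ (X ↘ Spec (CommRingCat.of k))))
    haveI : IsIntegral W.subscheme := QCoh.isIntegral_closure_point ξ
    refine Nakai.coeff_pos_of_isAmple_integral k d ?_ (AmpleDev.isAmple_pullback_finite k W.subschemeι hA) p hp fun n =>
      (Nakai.χ_push k W.subschemeι rfl hA.1 QCoh.isQCoh_structureModule n).symm.trans (hpn n)
    rw [AmpleDev.dim_eq_one_of_closedImmersion W.subschemeι (H23.RedSub.range_vanishingIdeal _)]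
    exact hξ
  · intro hs
    obtain ⟨U, hU, e, he⟩ := InvX.exists_frame hM η
    exact not_subsingleton (X.presheaf.stalk η)
      (haveI := hs; (he.germ_bijective (x := η) hU).1.subsingleton)

theorem exists_hom_of_h0_pos {M : X.Modules} (h : 0 < h0 k M) : ∃ s : Coh.structureModule X ⟶ M, s ≠ 0 := by
  haveI : Nontrivial (Coh.HH X M 0) := Module.nontrivial_of_finrank_pos h
  obtain ⟨t, ht⟩ := exists_ne (0 : Coh.HH X M 0)
  refine ⟨InvX.ofSect (Sheaf.H.equiv₀ (Coh.toAb M) isTerminalTop t),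
    fun h1 => ht ((Sheaf.H.equiv₀ (Coh.toAb M) isTerminalTop).injective ?_)⟩
  rw [map_zero]
  have h2 := InvX.one_ofSect (Sheaf.H.equiv₀ (Coh.toAb M) isTerminalTop t)
  rw [h1] at h2
  exact h2.symm

omit [Field k] [X.Over (Spec (CommRingCat.of k))] [IsProper (X ↘ Spec (CommRingCat.of k))] in
theorem dim_nat_of_le [IsIntegral X] {d : ℕ} (hd : topologicalKrullDim X ≤ d) :
    ∃ e : ℕ, e ≤ d ∧ topologicalKrullDim X = e := by
  haveI : Nonempty (IrreducibleCloseds X) :=
    ⟨⟨Set.univ, IrreducibleSpace.isIrreducible_univ X, isClosed_univ⟩⟩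
  have h0 : (0 : WithBot ℕ∞) ≤ topologicalKrullDim X := Order.krullDim_nonneg
  revert hd h0
  generalize topologicalKrullDim X = v
  intro hd h0
  cases v with
  | bot => exact absurd h0 (not_le.2 (WithBot.bot_lt_coe _))
  | coe v =>
    cases v with
    | top => exact absurd (WithBot.coe_le_coe.1 hd) (not_le.2 (ENat.natCast_lt_top d))
    | coe v => exact ⟨v, by exact_mod_cast hd, rfl⟩

include k in
/-- A twist of an invertible module by a power of an ample module has a nonzero section. -/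
theorem exists_section_twist [IsIntegral X] {d : ℕ} (hdim : topologicalKrullDim X ≤ d) {A M : X.Modules}
    (hA : CohB1.IsAmple A) (hM : PicF.IsInvertible M) :
    ∃ (a : ℕ) (_ : 0 < a) (s : Coh.structureModule X ⟶ CohB1.tensorMod M (CohB1.tensorPow A a)), s ≠ 0 := by
  haveI := CurveCohLib.isNoetherian_of_proper (k := k) (X := X)
  obtain ⟨e, -, he⟩ := dim_nat_of_le hdim
  obtain ⟨q, hq, hqn, n₀, hn₀⟩ := exists_poly_h0 k hA (AmpleVan.isCoh_invertible hM) (C := (⊤ : Closeds X))
    (fun x _ => trivial) (d := e) ((Topology.IsInducing.subtypeVal.topologicalKrullDim_le).trans he.le)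
  have hlead := coeff_pos_invertible k he hA hM hqn
  obtain ⟨n, hn, hpos⟩ : ∃ n, n₀ + 1 ≤ n ∧ 0 < q.eval (n : ℚ) := by
    rcases Nat.eq_zero_or_pos e with rfl | hepos
    · refine ⟨n₀ + 1, le_rfl, ?_⟩
      rw [Polynomial.eq_C_of_natDegree_le_zero hq, Polynomial.eval_C]
      exact hlead
    · have hqd : q.natDegree = e := le_antisymm hq (Polynomial.le_natDegree_of_ne_zero hlead.ne')
      have htend : Filter.Tendsto (fun n : ℕ => q.eval (n : ℚ)) Filter.atTop Filter.atTop := by
        refine (Polynomial.tendsto_atTop_of_leadingCoeff_nonneg q ?_ ?_).comp tendsto_natCast_atTop_atTop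
        · exact Polynomial.natDegree_pos_iff_degree_pos.1 (hqd ▸ hepos)
        · rw [Polynomial.leadingCoeff, hqd]; exact hlead.le
      obtain ⟨j, hj⟩ := Filter.eventually_atTop.1 (htend.eventually_gt_atTop (0 : ℚ))
      exact ⟨max (n₀ + 1) j, le_max_left _ _, hj _ (le_max_right _ _)⟩
  rw [← hn₀ n (by omega)] at hpos
  exact ⟨n, by omega, exists_hom_of_h0_pos k (by exact_mod_cast hpos)⟩

theorem dim_le_of_range [Nonempty Z] (i : Z ⟶ X) [IsClosedImmersion i] {T : Set X} (hT : Set.range i ⊆ T) {d : ℕ}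
    (hd : topologicalKrullDim ↥T ≤ d) : topologicalKrullDim Z ≤ d := by
  rw [AmpleDev.dim_eq_one_of_closedImmersion i rfl]
  exact ((Topology.IsEmbedding.inclusion hT).isInducing.topologicalKrullDim_le).trans hd

/-- A nonzero section compares the sections of two twists. -/
theorem h0_le_twist [IsIntegral X] {T P : X.Modules} (hT : PicF.IsInvertible T) (hP : PicF.IsInvertible P)
    (s : Coh.structureModule X ⟶ T) (hs : s ≠ 0) :
    h0 k (CohB1.tensorMod (Coh.structureModule X) P) ≤ h0 k (CohB1.tensorMod T P) := by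
  haveI := CurveCohLib.isNoetherian_of_proper (k := k) (X := X)
  haveI : Mono s := InvEnd.mono_of_ne_zero CurveDeg.isInvertible_structureModule hT s hs
  haveI : Mono ((AmpleVan.tw P).map s) := mono_tw hP s
  have hcoh : Coh.IsCoh ((AmpleVan.tw P).obj T) :=
    AmpleVan.isCoh_tensor (AmpleVan.isCoh_invertible hT) (AmpleVan.isCoh_invertible hP)
  show h0 k ((AmpleVan.tw P).obj (Coh.structureModule X)) ≤ h0 k ((AmpleVan.tw P).obj T)
  exact h0_le_of_mono k ((AmpleVan.tw P).map s) hcoh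

/-- `h⁰(Z, Lᵐ) = O(mᵈ)` on an integral projective scheme. -/
theorem bound_invertible [IsIntegral X] {d : ℕ} (hdim : topologicalKrullDim X ≤ d) {A L : X.Modules}
    (hA : CohB1.IsAmple A) (hL : PicF.IsInvertible L) : Bound k L d (Coh.structureModule X) := by
  haveI := CurveCohLib.isNoetherian_of_proper (k := k) (X := X)
  obtain ⟨D, hD, ⟨δ⟩⟩ := H23.PicInv.exists_inverse hL
  obtain ⟨a, ha, s, hs⟩ := exists_section_twist k hdim hA hD
  have hAa := InvX.isInvertible_tensorPow hA.1 a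
  obtain ⟨q, hq, -, n₀, hn₀⟩ := exists_poly_h0 k (AmpleX.isAmple_tensorPow hA ha)
    (QCoh.isCoh_structureModule' (X := X)) (C := (⊤ : Closeds X))
    (fun x _ => trivial) (d := d) ((Topology.IsInducing.subtypeVal.topologicalKrullDim_le).trans hdim)
  refine exists_const_of_eval (f := fun m => h0 k (CohB1.tensorMod (Coh.structureModule X) (CohB1.tensorPow L m)))
    hq (n₀ := n₀ + 1) fun m hm => ?_
  rw [← hn₀ m (by omega)]
  have hLm := InvX.isInvertible_tensorPow hL m
  have hT := InvX.isInvertible_tensorMod hD hAa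
  obtain ⟨j, rfl⟩ := Nat.exists_eq_add_of_le' (show 1 ≤ m by omega)
  obtain ⟨η, hη⟩ := Nakai.genLocus_nonempty hT s hs
  have hS : InvX.powHom s (j + 1) ≠ 0 := Nakai.ne_zero_of_mem_genLocus (x := η)
    ((InvX.genLocus_powHom hT s j).symm ▸ hη)
  refine Nat.cast_le.2 (le_of_le_of_eq (h0_le_twist k (InvX.isInvertible_tensorPow hT _) hLm (InvX.powHom s (j + 1)) hS)
    (h0_congr_cl k ?_))
  rw [cl_tensor, cl_tensor, cl_tensorPow, cl_tensorPow, cl_tensorPow, cl_tensor, ← mul_pow,
    mul_comm _ (PicF.cl L), ← mul_assoc, ← cl_tensor, cl_eq_iff.2 ⟨δ⟩, ← H23.PicMul.one_def, one_mul, one_mul]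

/-- `h⁰(M ⊗ Lᵐ) = O(mᵈ)` for coherent `M` with support of dimension at most `d`. -/
theorem bound_coh {A : X.Modules} (hA : CohB1.IsAmple A) {L : X.Modules} (hL : PicF.IsInvertible L)
    {M : X.Modules} (hM : Coh.IsCoh M) {T : Closeds X} (hMT : CohB1.support M ⊆ T) {d : ℕ}
    (hd : topologicalKrullDim ↥(T : Set X) ≤ d) : Bound k L d M := by
  haveI := CurveCohLib.isNoetherian_of_proper (k := k) (X := X)
  refine QCoh.devissage_ideals (Bound k L d) (fun M N ⟨e⟩ hP => hP.of_iso k e)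
    (fun M h0 => Bound.zero k hL h0) (T : Set X)
    (fun S hS _ h2 h3 p1 p3 => Bound.ext k hL hS h2 h3 p1 p3) ?_ hM hMT
  intro ξ hξT _ Z i _ hZ hr I ι hι hI _
  letI : Z.Over (Spec (CommRingCat.of k)) := ⟨i ≫ (X ↘ Spec (CommRingCat.of k))⟩
  haveI : IsProper (Z ↘ Spec (CommRingCat.of k)) :=
    inferInstanceAs (IsProper (i ≫ (X ↘ Spec (CommRingCat.of k))))
  haveI := CurveCohLib.isNoetherian_of_proper (k := k) (X := Z)
  haveI := hι
  have hdim : topologicalKrullDim Z ≤ d := dim_le_of_range i (hr.le.trans hξT) hd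
  have hLi := PicClLib.isInvertible_pullback i hL
  obtain ⟨C, hC⟩ := Bound.of_mono k hLi ι QCoh.isCoh_structureModule'
    (bound_invertible k hdim (AmpleDev.isAmple_pullback_finite k i hA) hLi)
  refine ⟨C, fun m => le_of_eq_of_le ?_ (hC m)⟩
  have hP := InvX.isInvertible_tensorPow hL m
  obtain ⟨e⟩ := AmpleDev.push_tensor_iso i hP I
  obtain ⟨ψ⟩ : Nonempty ((Scheme.Modules.pullback i).obj (CohB1.tensorPow L m) ≅
      CohB1.tensorPow ((Scheme.Modules.pullback i).obj L) m) := cl_eq_iff.1 (by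
    show PicF.pullCl i (PicF.cl (CohB1.tensorPow L m)) = _
    rw [cl_tensorPow, cl_tensorPow, pullCl_pow]
    rfl)
  obtain ⟨l⟩ := PnCoh.exists_linearEquiv_push k i (rfl : i ≫ (X ↘ Spec (CommRingCat.of k)) = _)
    (KFlatLib.isQCoh_tensor hI (ProjUPX.isQCoh_of_isInvertible (PicClLib.isInvertible_pullback i hP))) 0
  exact ((h0_congr k e).trans l.finrank_eq.symm).trans (h0_congr k (PicGrp.tensorModIso (Iso.refl I) ψ))

end Groth.Agent.Big
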