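import Groth.Agent.Big.Kodaira

/-!
# Lower bounds for the sections and the upper limit
-/

set_option autoImplicit false
set_option linter.style.haveILetI false
set_option linter.unusedSectionVars false
set_option backward.isDefEq.respectTransparency false
set_option backward.isDefEq.respectTransparency.types false
set_option maxHeartbeats 1000000

universe u

open CategoryTheory CategoryTheory.Limits AlgebraicGeometry TopologicalSpace Opposite
open Groth.Agent.H23.PicMul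
open scoped ENNReal

noncomputable section

namespace Groth.Agent.Big

open Groth.Agent

variable (k : Type u) [Field k] {X : Scheme.{u}} [X.Over (Spec (CommRingCat.of k))]
  [IsProper (X ↘ Spec (CommRingCat.of k))]

theorem exists_lower_eval {q : Polynomial ℚ} {n : ℕ} (hq : q.natDegree ≤ n) (hpos : 0 < q.coeff n) :
    ∃ t₀ : ℕ, ∀ t : ℕ, t₀ ≤ t → q.coeff n / 2 * (t : ℚ) ^ n ≤ q.eval (t : ℚ) := by
  let p := q - Polynomial.C (q.coeff n / 2) * Polynomial.X ^ n
  have hpd : p.natDegree ≤ n :=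
    (Polynomial.natDegree_sub_le _ _).trans (max_le hq (Polynomial.natDegree_C_mul_X_pow_le _ _))
  have hpc : p.coeff n = q.coeff n / 2 := by
    simp only [p, Polynomial.coeff_sub, Polynomial.coeff_C_mul_X_pow, if_true]
    ring
  have hev : ∀ t : ℕ, p.eval (t : ℚ) = q.eval (t : ℚ) - q.coeff n / 2 * (t : ℚ) ^ n := fun t => by simp [p]
  rcases Nat.eq_zero_or_pos n with rfl | hn
  · refine ⟨0, fun t _ => ?_⟩
    have h := hev t
    rw [Polynomial.eq_C_of_natDegree_le_zero hpd, Polynomial.eval_C, hpc] at h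
    linarith
  · have hpd' : p.natDegree = n := le_antisymm hpd (Polynomial.le_natDegree_of_ne_zero (by rw [hpc]; positivity))
    have htend : Filter.Tendsto (fun t : ℕ => p.eval (t : ℚ)) Filter.atTop Filter.atTop := by
      refine (Polynomial.tendsto_atTop_of_leadingCoeff_nonneg p ?_ ?_).comp tendsto_natCast_atTop_atTop
      · exact Polynomial.natDegree_pos_iff_degree_pos.1 (hpd' ▸ hn)
      · rw [Polynomial.leadingCoeff, hpd', hpc]; positivity
    obtain ⟨j, hj⟩ := Filter.eventually_atTop.1 (htend.eventually_gt_atTop (0 : ℚ))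
    exact ⟨j, fun t ht => by linarith [hj t ht, hev t]⟩

/-- Twisting by the powers of a nonzero section. -/
theorem h0_le_twist_pow [IsIntegral X] {T P : X.Modules} (hT : PicF.IsInvertible T) (hP : PicF.IsInvertible P)
    (s : Coh.structureModule X ⟶ T) (hs : s ≠ 0) :
    ∀ j : ℕ, h0 k P ≤ h0 k (CohB1.tensorMod (CohB1.tensorPow T j) P)
  | 0 => le_of_eq (h0_congr_cl k (by rw [cl_tensor, cl_tensorPow, pow_zero, one_mul]))
  | j + 1 => by
    obtain ⟨x, hx⟩ := Nakai.genLocus_nonempty hT s hs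
    have hS : InvX.powHom s (j + 1) ≠ 0 :=
      Nakai.ne_zero_of_mem_genLocus (x := x) ((InvX.genLocus_powHom hT s j).symm ▸ hx)
    refine le_of_eq_of_le ?_ (h0_le_twist k (InvX.isInvertible_tensorPow hT (j + 1)) hP (InvX.powHom s (j + 1)) hS)
    exact h0_congr_cl k (by rw [cl_tensor, one_mul_cl])

include k in
/-- A monomorphism of invertible modules gives a section. -/
theorem exists_section_of_mono [IsIntegral X] {A B D : X.Modules} (hD : PicF.IsInvertible D)
    (hDA : PicF.cl A * PicF.cl D = 1) (φ : A ⟶ B) [Mono φ] :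
    ∃ s : Coh.structureModule X ⟶ CohB1.tensorMod B D, s ≠ 0 := by
  obtain ⟨δ⟩ : Nonempty (CohB1.tensorMod A D ≅ Coh.structureModule X) := cl_eq_iff.1 (by
    rw [cl_tensor, hDA, H23.PicMul.one_def])
  haveI : Mono ((AmpleVan.tw D).map φ) := mono_tw hD φ
  refine ⟨δ.inv ≫ (AmpleVan.tw D).map φ, fun h => ?_⟩
  have h1 : δ.inv = 0 := (cancel_mono ((AmpleVan.tw D).map φ)).1 (h.trans zero_comp.symm)
  have h2 : 𝟙 (Coh.structureModule X) = 0 := by rw [← δ.inv_hom_id, h1, zero_comp]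
  exact one_ne_zero (α := Γ(X, ⊤))
    (congrArg (fun f : Coh.structureModule X ⟶ Coh.structureModule X => f.app ⊤ (1 : Γ(X, ⊤))) h2)

theorem h0_le_pow_twist [IsIntegral X] {A L P : X.Modules} (hA : PicF.IsInvertible A) (hL : PicF.IsInvertible L)
    (hP : PicF.IsInvertible P) {ν : ℕ} (φ : A ⟶ CohB1.tensorPow L ν) [Mono φ] (j : ℕ) :
    h0 k (CohB1.tensorMod P (CohB1.tensorPow A j)) ≤ h0 k (CohB1.tensorMod P (CohB1.tensorPow L (ν * j))) := by
  obtain ⟨D, hD, ⟨δ⟩⟩ := H23.PicInv.exists_inverse hA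
  have hDA : PicF.cl A * PicF.cl D = 1 := by rw [← cl_tensor, cl_eq_iff.2 ⟨δ⟩, H23.PicMul.one_def]
  obtain ⟨s, hs⟩ := exists_section_of_mono k hD hDA φ
  have hT := InvX.isInvertible_tensorMod (InvX.isInvertible_tensorPow hL ν) hD
  refine (h0_le_twist_pow k hT (InvX.isInvertible_tensorMod hP (InvX.isInvertible_tensorPow hA j)) s hs j).trans
    (le_of_eq (h0_congr_cl k ?_))
  rw [cl_tensor, cl_tensor, cl_tensorPow, cl_tensorPow, cl_tensor, cl_tensor, cl_tensorPow, cl_tensorPow,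
    mul_pow, ← pow_mul, mul_left_comm, mul_assoc, ← mul_pow, mul_comm (PicF.cl D), hDA, one_pow, mul_one]

/-- Big modules: a lower bound of order `nᵈ` for all large powers. -/
theorem exists_lower_all [IsIntegral X] {d : ℕ} (hdim : topologicalKrullDim X = d) {A L : X.Modules}
    (hA : CohB1.IsAmple A) (hL : PicF.IsInvertible L) {ν : ℕ} (hν : 0 < ν) (φ : A ⟶ CohB1.tensorPow L ν) [Mono φ] :
    ∃ c : ℚ, 0 < c ∧ ∃ n₀ : ℕ, ∀ n, n₀ ≤ n → c * (n : ℚ) ^ d ≤ (h0 k (CohB1.tensorPow L n) : ℚ) := by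
  haveI := CurveCohLib.isNoetherian_of_proper (k := k) (X := X)
  have key : ∀ r : ℕ, ∃ c : ℚ, 0 < c ∧ ∃ t₀ : ℕ, ∀ t, t₀ ≤ t →
      c * (t : ℚ) ^ d ≤ (h0 k (CohB1.tensorPow L (r + ν * t)) : ℚ) := fun r => by
    have hr := InvX.isInvertible_tensorPow hL r
    obtain ⟨q, hq, hqn, n₀, hn₀⟩ := exists_poly_h0 k hA (AmpleVan.isCoh_invertible hr) (C := (⊤ : Closeds X))
      (fun x _ => trivial) (d := d) ((Topology.IsInducing.subtypeVal.topologicalKrullDim_le).trans hdim.le)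
    have hlead := coeff_pos_invertible k hdim hA hr hqn
    obtain ⟨t₀, ht₀⟩ := exists_lower_eval hq hlead
    refine ⟨q.coeff d / 2, half_pos hlead, max n₀ t₀, fun t ht => ?_⟩
    refine (ht₀ t (le_trans (le_max_right _ _) ht)).trans ?_
    rw [← hn₀ t (le_trans (le_max_left _ _) ht)]
    refine Nat.cast_le.2 ((h0_le_pow_twist k hA.1 hL hr φ t).trans (le_of_eq (h0_congr_cl k ?_)))
    rw [cl_tensor, cl_tensorPow, cl_tensorPow, cl_tensorPow, ← pow_add]
  choose c hc t₀ ht₀ using key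
  have hne : (Finset.range ν).Nonempty := ⟨0, Finset.mem_range.2 hν⟩
  let c₀ := (Finset.range ν).inf' hne c
  have hc₀ : 0 < c₀ := (Finset.lt_inf'_iff hne).2 fun r _ => hc r
  refine ⟨c₀ / (2 * (ν : ℚ)) ^ d, div_pos hc₀ (by positivity),
    ν * ((Finset.range ν).sup t₀ + 1), fun n hn => ?_⟩
  have hr : n % ν ∈ Finset.range ν := Finset.mem_range.2 (Nat.mod_lt _ hν)
  have ht : (Finset.range ν).sup t₀ + 1 ≤ n / ν := (Nat.le_div_iff_mul_le hν).2 (le_of_eq_of_le (mul_comm _ _) hn)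
  have h := ht₀ (n % ν) (n / ν) (le_trans (Finset.le_sup hr) (by omega))
  rw [Nat.mod_add_div] at h
  refine le_trans ?_ h
  rw [div_mul_eq_mul_div, div_le_iff₀ (by positivity), mul_assoc, ← mul_pow]
  refine mul_le_mul (Finset.inf'_le c hr) (pow_le_pow_left₀ (Nat.cast_nonneg n) ?_ d) (by positivity) (hc _).le
  have h' : n ≤ (n / ν) * (2 * ν) := by
    have h1 := Nat.mod_add_div n ν
    have h2 := Nat.mod_lt n hν
    have h3 : ν ≤ ν * (n / ν) := Nat.le_mul_of_pos_right _ (by omega)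
    have h4 : (n / ν) * (2 * ν) = 2 * (ν * (n / ν)) := by ring
    omega
  exact_mod_cast h'

/-- A lower bound for the sections in the extended reals. -/
theorem pos_liminf_of_lower {f : ℕ → ℕ} {d : ℕ} {c : ℚ} (hc : 0 < c) {n₀ : ℕ}
    (h : ∀ n, n₀ ≤ n → c * (n : ℚ) ^ d ≤ (f n : ℚ)) :
    0 < Filter.liminf (fun m : ℕ => (f m : ℝ≥0∞) / (m : ℝ≥0∞) ^ d) Filter.atTop := by
  obtain ⟨N, hN⟩ := exists_nat_gt (1 / c)
  have hN0 : 0 < N := by
    have : (0 : ℚ) < N := lt_trans (one_div_pos.2 hc) hN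
    exact_mod_cast this
  refine lt_of_lt_of_le (ENNReal.inv_pos.2 (ENNReal.natCast_ne_top N)) ?_
  refine Filter.le_liminf_of_le (by isBoundedDefault) ?_
  refine Filter.eventually_atTop.2 ⟨max n₀ 1, fun m hm => ?_⟩
  have h1 : m ^ d ≤ f m * N := by
    have h2 := h m (le_trans (le_max_left _ _) hm)
    rw [div_lt_iff₀ hc] at hN
    have : (m : ℚ) ^ d ≤ (f m : ℚ) * N := by
      have hmd : (0 : ℚ) ≤ (m : ℚ) ^ d := by positivity
      nlinarith
    exact_mod_cast this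
  have hm0 : (m : ℝ≥0∞) ^ d ≠ 0 := pow_ne_zero _ (by
    have : 1 ≤ m := le_trans (le_max_right _ _) hm
    exact_mod_cast (show m ≠ 0 by omega))
  rw [ENNReal.le_div_iff_mul_le (Or.inl hm0) (Or.inl (ENNReal.pow_ne_top (ENNReal.natCast_ne_top m)))]
  rw [mul_comm, ← div_eq_mul_inv, ENNReal.div_le_iff_le_mul (Or.inl (by exact_mod_cast hN0.ne'))
    (Or.inl (ENNReal.natCast_ne_top N))]
  exact_mod_cast h1

/-- A bound of lower order kills the upper limit. -/
theorem limsup_eq_zero_of_bound {f : ℕ → ℕ} {e : ℕ} {C : ℕ} (h : ∀ m, f m ≤ C * (m + 1) ^ e) :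
    Filter.limsup (fun m : ℕ => (f m : ℝ≥0∞) / (m : ℝ≥0∞) ^ (e + 1)) Filter.atTop = 0 := by
  have hub : ∀ᶠ m : ℕ in Filter.atTop,
      (f m : ℝ≥0∞) / (m : ℝ≥0∞) ^ (e + 1) ≤ ((C * 2 ^ e : ℕ) : ℝ≥0∞) * ((m : ℝ≥0∞))⁻¹ := by
    refine Filter.eventually_atTop.2 ⟨1, fun m hm => ?_⟩
    have hm0 : (m : ℝ≥0∞) ≠ 0 := by exact_mod_cast (show m ≠ 0 by omega)
    rw [ENNReal.div_le_iff_le_mul (Or.inl (pow_ne_zero _ hm0)) (Or.inl (ENNReal.pow_ne_top (ENNReal.natCast_ne_top m))),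
      pow_succ', mul_assoc, ← mul_assoc (m : ℝ≥0∞)⁻¹, ENNReal.inv_mul_cancel hm0 (ENNReal.natCast_ne_top m), one_mul]
    have h1 : f m ≤ C * 2 ^ e * m ^ e := by
      refine (h m).trans ?_
      rw [mul_assoc, ← mul_pow]
      exact Nat.mul_le_mul_left C (Nat.pow_le_pow_left (by omega) e)
    exact_mod_cast h1
  refine le_antisymm ?_ zero_le'
  refine (Filter.limsup_le_limsup hub).trans (le_of_eq ?_)
  have ht : Filter.Tendsto (fun m : ℕ => ((C * 2 ^ e : ℕ) : ℝ≥0∞) * ((m : ℝ≥0∞))⁻¹) Filter.atTop (nhds 0) := by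
    have := ENNReal.Tendsto.const_mul ENNReal.tendsto_inv_nat_nhds_zero
      (Or.inr (ENNReal.natCast_ne_top (C * 2 ^ e)))
    rwa [mul_zero] at this
  exact ht.limsup_eq

include k in
/-- A positive upper limit gives an ample submodule of a power. -/
theorem exists_ample_mono_of_limsup [IsIntegral X] {d : ℕ} (hdim : topologicalKrullDim X = d) {A L : X.Modules}
    (hA : CohB1.IsAmple A) (hL : PicF.IsInvertible L)
    (h : 0 < Filter.limsup (fun m : ℕ => (h0 k (CohB1.tensorPow L m) : ℝ≥0∞) / (m : ℝ≥0∞) ^ d) Filter.atTop) :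
    ∃ (ν : ℕ) (B : X.Modules) (φ : B ⟶ CohB1.tensorPow L ν), 0 < ν ∧ CohB1.IsAmple B ∧ Mono φ := by
  refine exists_ample_mono k hdim hA hL fun e he C => ?_
  by_contra hne
  push Not at hne
  subst he
  exact h.ne' (limsup_eq_zero_of_bound (f := fun m => h0 k (CohB1.tensorPow L m)) hne)

end Groth.Agent.Big
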