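import Groth.Agent.Big.RealAmple
import Groth.Agent.Big.Volume
import Groth.Agent.Lib.InvEnd

/-!
# The big cone
-/

set_option linter.style.haveILetI false
set_option linter.unusedSectionVars false
set_option backward.isDefEq.respectTransparency false
set_option backward.isDefEq.respectTransparency.types false
set_option maxHeartbeats 1000000

universe u

open CategoryTheory CategoryTheory.Limits AlgebraicGeometry TopologicalSpace
open Groth.Agent.H23.PicMul

noncomputable section

namespace Groth.Agent.Big.RealForm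

open Groth.Agent NumR

/-- Big: a multiple dominates every ample module. -/
abbrev IsBigMod {X : Scheme.{u}} (L : X.Modules) : Prop :=
  ∀ A : X.Modules, CohB1.IsAmple A → ∃ (m : ℕ) (φ : A ⟶ CohB1.tensorPow L m), 0 < m ∧ Mono φ

section Mod

variable (k : Type u) [Field k] {X : Scheme.{u}} [X.Over (Spec (CommRingCat.of k))]
  [IsProper (X ↘ Spec (CommRingCat.of k))] [IsIntegral X]

theorem id_ne_zero_of_isInvertible {L : X.Modules} (hL : PicF.IsInvertible L) : 𝟙 L ≠ 0 := by
  intro h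
  obtain ⟨D, hD, ⟨e⟩⟩ := H23.PicInv.exists_inverse hL
  haveI := AmpleVan.isEquivalence_tw hD
  have hz : IsZero (Coh.structureModule X) :=
    ((AmpleVan.tw D).map_isZero ((IsZero.iff_id_eq_zero L).2 h)).of_iso e.symm
  exact one_ne_zero (α := Γ(X, ⊤))
    (congrArg (fun f : Coh.structureModule X ⟶ Coh.structureModule X => f.app ⊤ (1 : Γ(X, ⊤)))
      (hz.eq_of_src (𝟙 _) 0))

theorem exists_section_of_gg {L : X.Modules} (hL : PicF.IsInvertible L) (h : Curv2.IsGloballyGenerated L) :
    ∃ s : Coh.structureModule X ⟶ L, s ≠ 0 := by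
  by_contra hno
  simp only [not_exists, not_not] at hno
  obtain ⟨ι, p, hp⟩ := h
  have h0 : p = 0 := by
    exact Sigma.hom_ext _ _ fun i => (hno (SheafOfModules.ιFree i ≫ p)).trans comp_zero.symm
  subst h0
  exact id_ne_zero_of_isInvertible hL ((cancel_epi (0 : SheafOfModules.free ι ⟶ L)).1 (by simp))

include k in
/-- Ample modules are big. -/
theorem isBigMod_of_isAmple {L : X.Modules} (hL : CohB1.IsAmple L) : IsBigMod L := by
  intro A hA
  haveI := CurveCohLib.isNoetherian_of_proper (k := k) (X := X)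
  haveI : CompactSpace X := QuasiCompact.compactSpace_of_compactSpace (X ↘ Spec (CommRingCat.of k))
  haveI : X.IsSeparated := AmpleVan.isSeparated_of_proper (X := X) (A := k)
  obtain ⟨D, hD, ⟨e⟩⟩ := H23.PicInv.exists_inverse hA.1
  obtain ⟨n₀, hn₀, h⟩ := AmpleX.eventually_ample_tensor hL hD
  have hT := InvX.isInvertible_tensorMod (InvX.isInvertible_tensorPow hL.1 n₀) hD
  obtain ⟨s, hs⟩ := exists_section_of_gg hT (h n₀ le_rfl).2
  obtain ⟨c⟩ := H23.PicMul.comm D A
  haveI : Mono ((AmpleVan.tw A).map s) := by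
    haveI := InvEnd.mono_of_ne_zero CurveDeg.isInvertible_structureModule hT s hs
    exact mono_tw hA.1 s
  obtain ⟨c'⟩ := H23.PicMul.comm (Coh.structureModule X) A
  let i : A ≅ (AmpleVan.tw A).obj (Coh.structureModule X) := (AmpleVan.twUnit.app A).symm ≪≫ c'.symm
  let j : (AmpleVan.tw A).obj (CohB1.tensorMod (CohB1.tensorPow L n₀) D) ≅ CohB1.tensorPow L n₀ :=
    (AmpleVan.twComp D A).app _ ≪≫ ((DCoh.tensorBi (X := X)).obj (CohB1.tensorPow L n₀)).mapIso (c ≪≫ e) ≪≫
      AmpleVan.twUnit.app _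
  exact ⟨n₀, i.hom ≫ (AmpleVan.tw A).map s ≫ j.hom, hn₀, mono_comp _ _⟩

end Mod

section Cone

variable (k : Type u) [Field k] {X : Scheme.{u}} [X.Over (Spec (CommRingCat.of k))]
  [IsProper (X ↘ Spec (CommRingCat.of k))] [IsIntegral X] [PicGrp.Law X]

theorem smul_clR_mem_bigCone {T : X.Modules} (hT : PicF.IsInvertible T) (hB : IsBigMod T) {c : ℝ} (hc : 0 < c) :
    c • clR k X T hT ∈ coneOf k X (IsBigMod (X := X)) :=
  (coneOf k X (IsBigMod (X := X))).smul_mem hc (ConvexCone.subset_hull ⟨T, hT, hB, rfl⟩)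

/-- Adding an effective class to a big one gives a big one. -/
theorem big_add_nat {L E : X.Modules} (hL : PicF.IsInvertible L) (hB : IsBigMod L) (hE : PicF.IsInvertible E)
    (hs : HasSection E) (q : ℕ) :
    clR k X L hL + (q : ℝ) • clR k X E hE ∈ coneOf k X (IsBigMod (X := X)) := by
  obtain ⟨s, hs⟩ := hs
  have hEq := InvX.isInvertible_tensorPow hE q
  have hT := InvX.isInvertible_tensorMod hL hEq
  rw [← clR_pow k X hE q hEq, ← clR_tensor k X hL hEq hT]
  refine ConvexCone.subset_hull ⟨_, hT, fun A hA => ?_, rfl⟩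
  obtain ⟨m, φ, hm, hφ⟩ := hB A hA
  rcases Nat.eq_zero_or_pos q with rfl | hq
  · obtain ⟨u⟩ := cl_eq_iff.1 (show PicF.cl (CohB1.tensorPow L m) =
        PicF.cl (CohB1.tensorPow (CohB1.tensorMod L (CohB1.tensorPow E 0)) m) by
      rw [cl_tensorPow, cl_tensorPow, cl_tensor, cl_tensorPow, pow_zero, mul_one])
    exact ⟨m, φ ≫ u.hom, hm, mono_comp _ _⟩
  obtain ⟨x, hx⟩ := Nakai.genLocus_nonempty hE s hs
  obtain ⟨j, hj⟩ : ∃ j, q * m = j + 1 := ⟨q * m - 1, by have := Nat.mul_pos hq hm; omega⟩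
  have hEj := InvX.isInvertible_tensorPow hE (j + 1)
  have hS : InvX.powHom s (j + 1) ≠ 0 :=
    Nakai.ne_zero_of_mem_genLocus (x := x) ((InvX.genLocus_powHom hE s j).symm ▸ hx)
  haveI := InvEnd.mono_of_ne_zero CurveDeg.isInvertible_structureModule hEj _ hS
  have hLm := InvX.isInvertible_tensorPow hL m
  haveI := mono_tw hLm (InvX.powHom s (j + 1))
  obtain ⟨c'⟩ := H23.PicMul.comm (Coh.structureModule X) (CohB1.tensorPow L m)
  let i : CohB1.tensorPow L m ≅ (AmpleVan.tw (CohB1.tensorPow L m)).obj (Coh.structureModule X) :=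
    (AmpleVan.twUnit.app _).symm ≪≫ c'.symm
  obtain ⟨u⟩ := cl_eq_iff.1 (show PicF.cl (CohB1.tensorMod (CohB1.tensorPow E (j + 1)) (CohB1.tensorPow L m)) =
      PicF.cl (CohB1.tensorPow (CohB1.tensorMod L (CohB1.tensorPow E q)) m) by
    rw [cl_tensor, cl_tensorPow, cl_tensorPow, cl_tensorPow, cl_tensor, cl_tensorPow, mul_pow, ← pow_mul, hj, mul_comm])
  exact ⟨m, φ ≫ i.hom ≫ (AmpleVan.tw (CohB1.tensorPow L m)).map (InvX.powHom s (j + 1)) ≫ u.hom, hm,
    mono_comp _ _⟩

theorem add_eff_mem_bigCone {x e : N1R k X} (hx : x ∈ coneOf k X (IsBigMod (X := X))) (he : e ∈ effCone k X) :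
    x + e ∈ coneOf k X (IsBigMod (X := X)) := by
  set C := coneOf k X (IsBigMod (X := X))
  have hgen : ∀ (E : X.Modules) (hE : PicF.IsInvertible E), HasSection E → ∀ y ∈ C, ∀ t : ℝ, 0 ≤ t →
      y + t • clR k X E hE ∈ C := by
    intro E hE hs y hy
    let S : ConvexCone ℝ (N1R k X) :=
      { carrier := {y | y ∈ C ∧ ∀ t : ℝ, 0 ≤ t → y + t • clR k X E hE ∈ C}
        smul_mem' := fun c hc z hz => ⟨C.smul_mem hc hz.1, fun t ht => by
          have h := C.smul_mem hc (hz.2 (t / c) (div_nonneg ht hc.le))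
          rwa [smul_add, smul_smul, mul_div_cancel₀ t hc.ne'] at h⟩
        add_mem' := fun a ha b hb => ⟨C.add_mem ha.1 hb.1, fun t ht => by
          rw [add_right_comm]
          exact C.add_mem (ha.2 t ht) hb.1⟩ }
    refine (ConvexCone.hull_min (C := S) ?_ hy).2
    rintro _ ⟨L, hL, hB, rfl⟩
    refine ⟨ConvexCone.subset_hull ⟨L, hL, hB, rfl⟩, fun t ht => ?_⟩
    rcases ht.eq_or_lt with rfl | ht'
    · rw [zero_smul, add_zero]; exact ConvexCone.subset_hull ⟨L, hL, hB, rfl⟩
    obtain ⟨q, hq⟩ := exists_nat_gt t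
    have hq0 : (0 : ℝ) < q := ht'.trans hq
    have hc : 0 < 1 - t / q := by rw [sub_pos, div_lt_one hq0]; exact hq
    have h := C.add_mem (C.smul_mem hc (ConvexCone.subset_hull ⟨L, hL, hB, rfl⟩))
      (C.smul_mem (div_pos ht' hq0) (big_add_nat k hL hB hE hs q))
    rw [smul_add, smul_smul, div_mul_cancel₀ t hq0.ne', ← add_assoc, ← add_smul, sub_add_cancel, one_smul] at h
    exact h
  let S : ConvexCone ℝ (N1R k X) :=
    { carrier := {e | ∀ y ∈ C, y + e ∈ C}
      smul_mem' := fun c hc z hz y hy => by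
        have h := C.smul_mem hc (hz (c⁻¹ • y) (C.smul_mem (inv_pos.2 hc) hy))
        rwa [smul_add, smul_inv_smul₀ hc.ne'] at h
      add_mem' := fun a ha b hb y hy => by
        rw [← add_assoc]; exact hb _ (ha y hy) }
  refine ConvexCone.hull_min (C := S) ?_ he x hx
  rintro _ ⟨E, hE, hs, rfl⟩ y hy
  have h := hgen E hE hs y hy 1 zero_le_one
  rwa [one_smul] at h

theorem ampleCone_le_bigCone : ampleCone k X ≤ coneOf k X (IsBigMod (X := X)) :=
  ConvexCone.hull_min fun _ ⟨L, hL, hA, h⟩ => ConvexCone.subset_hull ⟨L, hL, isBigMod_of_isAmple k hA, h⟩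

/-- The big cone is the sum of the ample and effective cones. -/
theorem mem_bigCone_iff {H : X.Modules} (hH : CohB1.IsAmple H) (x : N1R k X) :
    x ∈ coneOf k X (IsBigMod (X := X)) ↔ ∃ a ∈ ampleCone k X, x - a ∈ effCone k X := by
  refine ⟨fun hx => ?_, fun ⟨a, ha, he⟩ => ?_⟩
  · let S : ConvexCone ℝ (N1R k X) :=
      { carrier := {x | ∃ a ∈ ampleCone k X, x - a ∈ effCone k X}
        smul_mem' := by
          rintro c hc z ⟨a, ha, he⟩
          exact ⟨c • a, (ampleCone k X).smul_mem hc ha, smul_sub c z a ▸ (effCone k X).smul_mem hc he⟩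
        add_mem' := by
          rintro y ⟨a, ha, he⟩ z ⟨b, hb, hf⟩
          exact ⟨a + b, (ampleCone k X).add_mem ha hb, add_sub_add_comm y z a b ▸ (effCone k X).add_mem he hf⟩ }
    refine ConvexCone.hull_min (C := S) ?_ hx
    rintro _ ⟨L, hL, hB, rfl⟩
    obtain ⟨m, φ, hm, hφ⟩ := hB H hH
    obtain ⟨D, hD, hHD⟩ := H23.PicInv.exists_inverse hH.1
    haveI := hφ
    obtain ⟨s, hs⟩ := Big.exists_section_of_mono k hD
      (by rw [← cl_tensor, cl_eq_iff.2 hHD, H23.PicMul.one_def]) φ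
    have hLm := InvX.isInvertible_tensorPow hL m
    have hT := InvX.isInvertible_tensorMod hLm hD
    have hm' : (0 : ℝ) < (m : ℝ)⁻¹ := by positivity
    refine ⟨(m : ℝ)⁻¹ • clR k X H hH.1,
      (ampleCone k X).smul_mem hm' (ConvexCone.subset_hull ⟨H, hH.1, hH, rfl⟩), ?_⟩
    have he : clR k X (CohB1.tensorMod (CohB1.tensorPow L m) D) hT ∈ effCone k X :=
      ConvexCone.subset_hull ⟨_, hT, ⟨s, hs⟩, rfl⟩
    rw [clR_tensor k X hLm hD, clR_pow k X hL, clR_inverse k X hH.1 hD hHD] at he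
    have h := (effCone k X).smul_mem hm' he
    rwa [smul_add, inv_smul_smul₀ (by positivity), smul_neg, ← sub_eq_add_neg] at h
  · have h := add_eff_mem_bigCone k (ampleCone_le_bigCone k ha) he
    rwa [add_sub_cancel] at h

theorem isOpen_bigCone {H : X.Modules} (hH : CohB1.IsAmple H) [Module.Finite ℝ (N1R k X)] :
    IsOpen (coneOf k X (IsBigMod (X := X)) : Set (N1R k X)) := by
  have : (coneOf k X (IsBigMod (X := X)) : Set (N1R k X)) =
      ⋃ e ∈ (effCone k X : Set (N1R k X)), (fun x => x - e) ⁻¹' (ampleCone k X : Set (N1R k X)) := by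
    ext x
    simp only [Set.mem_iUnion, Set.mem_preimage, SetLike.mem_coe, mem_bigCone_iff k hH]
    exact ⟨fun ⟨a, ha, he⟩ => ⟨x - a, he, by rwa [sub_sub_cancel]⟩,
      fun ⟨e, he, ha⟩ => ⟨x - e, ha, by rwa [sub_sub_cancel]⟩⟩
  rw [this]
  exact isOpen_biUnion fun e _ => (isOpen_ampleCone (k := k) (X := X)).preimage (by fun_prop)

theorem bigCone_eq {H : X.Modules} (hH : CohB1.IsAmple H) [Module.Finite ℝ (N1R k X)] :
    (coneOf k X (IsBigMod (X := X)) : Set (N1R k X)) = interior (psefCone k X) ∧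
      psefCone k X = closure (coneOf k X (IsBigMod (X := X)) : Set (N1R k X)) := by
  haveI : IsTopologicalAddGroup (N1R k X) := IsModuleTopology.topologicalAddGroup ℝ _
  set C := coneOf k X (IsBigMod (X := X))
  haveI := CurveCohLib.isNoetherian_of_proper (k := k) (X := X)
  haveI : CompactSpace X := QuasiCompact.compactSpace_of_compactSpace (X ↘ Spec (CommRingCat.of k))
  haveI : X.IsSeparated := AmpleVan.isSeparated_of_proper (X := X) (A := k)
  have hampEff : ampleCone k X ≤ effCone k X := by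
    refine ConvexCone.hull_min ?_
    rintro _ ⟨L, hL, hA, rfl⟩
    obtain ⟨m, hm, s, hxs, -, -⟩ := AmpleX.exists_genLocus_le hA (U := ⊤)
      (show genericPoint X ∈ (⊤ : X.Opens) from trivial)
    have hLm := InvX.isInvertible_tensorPow hL m
    have h : clR k X (CohB1.tensorPow L m) hLm ∈ effCone k X :=
      ConvexCone.subset_hull ⟨_, hLm, ⟨s, Nakai.ne_zero_of_mem_genLocus hxs⟩, rfl⟩
    rw [clR_pow k X hL] at h
    have h' := (effCone k X).smul_mem (inv_pos.2 (show (0 : ℝ) < m by exact_mod_cast hm)) h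
    rwa [inv_smul_smul₀ (by positivity)] at h'
  have hsub : (C : Set (N1R k X)) ⊆ effCone k X := fun x hx => by
    obtain ⟨a, ha, he⟩ := (mem_bigCone_iff k hH x).1 hx
    have := (effCone k X).add_mem (hampEff ha) he
    rwa [add_sub_cancel] at this
  set h := clR k X H hH.1
  have hhA : h ∈ ampleCone k X := ConvexCone.subset_hull ⟨H, hH.1, hH, rfl⟩
  have hcl : psefCone k X = closure (C : Set (N1R k X)) := by
    refine subset_antisymm (closure_minimal (fun e he => ?_) isClosed_closure) (closure_mono hsub)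
    refine mem_closure_of_tendsto (f := fun n : ℕ => (1 / ((n : ℝ) + 1)) • h + e) (b := Filter.atTop) ?_
      (Filter.Eventually.of_forall fun n => add_eff_mem_bigCone k
        (ampleCone_le_bigCone k ((ampleCone k X).smul_mem (by positivity) hhA)) he)
    have h' := ((tendsto_one_div_add_atTop_nhds_zero_nat (𝕜 := ℝ)).smul_const h).add_const e
    rwa [zero_smul, zero_add] at h'
  refine ⟨?_, hcl⟩
  have hne : (interior (C : Set (N1R k X))).Nonempty := by
    rw [(isOpen_bigCone k hH).interior_eq]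
    exact ⟨h, ampleCone_le_bigCone k hhA⟩
  rw [hcl, C.convex.interior_closure_eq_interior_of_nonempty_interior hne, (isOpen_bigCone k hH).interior_eq]

end Cone

end Groth.Agent.Big.RealForm
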