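import Groth.Agent.Big.Alt
import Groth.Agent.Lib.CurvePoint
import Groth.Agent.ParShLib.ResStalk
import Groth.Agent.ModPairLib.Closure
import Groth.Agent.AlgSpLib.CartierDim
import Groth.Agent.AssPtX.Basic
import Groth.Agent.AmpleNeg.Basic
import Groth.Agent.S8914
import Groth.Agent.KFlatLib.Scheme.InnerHom

/-!
# Intersection symbols with an effective Cartier divisor
-/

set_option autoImplicit false
set_option linter.style.haveILetI false
set_option linter.unusedSectionVars false
set_option backward.isDefEq.respectTransparency false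
set_option backward.isDefEq.respectTransparency.types false
set_option maxHeartbeats 1000000

universe u

open CategoryTheory CategoryTheory.Limits AlgebraicGeometry TopologicalSpace Opposite
open Groth.Agent.H23.PicMul

noncomputable section

namespace Groth.Agent.Big

open Groth.Agent

variable {X : Scheme.{u}}

/-- The sequence of an ideal. -/
theorem shortExact_ideal (D : X.IdealSheafData) :
    (ShortComplex.mk (ClSub.idealModι D) (ClSub.toSubscheme D) (kernel.condition _)).ShortExact := by
  haveI := CurvePoint.epi_toSubscheme D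
  exact
    { exact := ShortComplex.exact_of_f_is_kernel _ (kernelIsKernel (ClSub.toSubscheme D))
      mono_f := inferInstanceAs (Mono (kernel.ι (ClSub.toSubscheme D)))
      epi_g := inferInstance }

theorem support_quotMod_subset (D : X.IdealSheafData) : CohB1.support (ClSub.quotMod D) ⊆ (D.support : Set X) :=
  fun x hx => by
    by_contra h
    exact hx (ParShLib.subsingleton_stalk_quotMod D h)

theorem isInvertible_ideal {D : X.IdealSheafData} (hD : BlowUp.IsEffCartierIdeal D) :
    PicF.IsInvertible (ClSub.idealMod D) := (S8914.result D).2 hD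

/-- Weakly associated points pass along monomorphisms. -/
theorem isWeakAssPoint_of_mono {A B : X.Modules} (f : A ⟶ B) [IsIso f] {x : X} (h : Curv2.IsWeakAssPoint A x) :
    Curv2.IsWeakAssPoint B x := by
  let E := LinearEquiv.ofBijective (CycLib.stalkLin f x) (ConcreteCategory.bijective_of_isIso
    ((TopCat.Presheaf.stalkFunctor _ x).map ((Scheme.Modules.toPresheaf X).map f)))
  exact AssPtX.isWeakAssPoint_iff.2
    (WeakAss.weakAss_subset_of_injective E.toLinearMap E.injective (AssPtX.isWeakAssPoint_iff.1 h))

variable (k : Type u) [Field k] [X.Over (Spec (CommRingCat.of k))] [IsProper (X ↘ Spec (CommRingCat.of k))]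

include k in
/-- A divisor has smaller dimension. -/
theorem dim_support_le {D : X.IdealSheafData} (hD : BlowUp.IsEffCartierIdeal D) {e : ℕ}
    (hX : topologicalKrullDim X ≤ (e + 1 : ℕ)) : topologicalKrullDim ↥(D.support : Set X) ≤ (e : ℕ) := by
  rcases isEmpty_or_nonempty X with hX0 | hX0
  · haveI : IsEmpty (IrreducibleCloseds ↥(D.support : Set X)) := ⟨fun Z => by
      obtain ⟨z, hz⟩ := Z.isIrreducible.nonempty
      exact hX0.false z.1⟩
    exact Order.krullDim_eq_bot.trans_le bot_le
  have htop : topologicalKrullDim X ≠ ⊤ :=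
    ne_top_of_le_ne_top (fun h => (ENat.natCast_ne_top (e + 1)) (WithBot.coe_eq_top.1 h)) hX
  have hlt := AlgSpLib.CartierDim.topologicalKrullDim_lt D.support.isClosed (fun z _ => by
    obtain ⟨y, hy, hyz⟩ := ModPairLib.exists_specializes_mem_interior hD z
    exact ⟨y, hy, hyz⟩) htop
  exact Nakai.le_pred_of_lt (lt_of_lt_of_le hlt hX)

variable {r : ℕ} {M : Fin r → X.Modules} (hM : ∀ i, PicF.IsInvertible (M i))

include k hM in
/-- Adjoining an ideal entry. -/
theorem alt_cons_ideal {D : X.IdealSheafData} {F : X.Modules} (hF : Coh.IsCoh F) (hI : PicF.IsInvertible (ClSub.idealMod D))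
    [Mono ((AmpleVan.tw F).map (ClSub.idealModι D))] :
    alt k (Fin.cons (ClSub.idealMod D) M) F = alt k M (CohB1.tensorMod F (ClSub.quotMod D)) := by
  haveI := CurveCohLib.isNoetherian_of_proper (k := k) (X := X)
  haveI := CurvePoint.epi_toSubscheme D
  haveI : PreservesFiniteColimits (AmpleVan.tw F) := PreservesColimitsOfSize.preservesFiniteColimits _
  haveI : Mono ((ShortComplex.mk (ClSub.idealModι D) (ClSub.toSubscheme D) (kernel.condition _)).map
      (AmpleVan.tw F)).f := ‹_›
  haveI : Epi ((ShortComplex.mk (ClSub.idealModι D) (ClSub.toSubscheme D) (kernel.condition _)).map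
      (AmpleVan.tw F)).g := inferInstanceAs (Epi ((AmpleVan.tw F).map (ClSub.toSubscheme D)))
  have hS : ((ShortComplex.mk (ClSub.idealModι D) (ClSub.toSubscheme D) (kernel.condition _)).map
      (AmpleVan.tw F)).ShortExact :=
    { exact := (shortExact_ideal D).exact.map_of_epi_of_preservesCokernel (AmpleVan.tw F)
        (CurvePoint.epi_toSubscheme D) inferInstance
      mono_f := inferInstance
      epi_g := inferInstance }
  have h := alt_add k hM hS (AmpleVan.isCoh_tensor (AmpleVan.isCoh_invertible hI) hF)
    (AmpleVan.isCoh_tensor QCoh.isCoh_structureModule' hF) (AmpleVan.isCoh_tensor (ParShLib.isCoh_quotMod D) hF)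
  simp only [ShortComplex.map_X₁, ShortComplex.map_X₂, ShortComplex.map_X₃] at h
  have e1 : alt k M ((AmpleVan.tw F).obj (Coh.structureModule X)) = alt k M F := alt_congr_cl k (fun _ => rfl) (by
    show PicF.cl (CohB1.tensorMod _ _) = _
    rw [cl_tensor, one_mul_cl])
  have e2 : ∀ G, alt k M ((AmpleVan.tw F).obj G) = alt k M (CohB1.tensorMod F G) := fun G => alt_congr_cl k (fun _ => rfl) (by
    show PicF.cl (CohB1.tensorMod _ _) = _
    rw [cl_tensor, cl_tensor, mul_comm])
  rw [e1, e2, e2] at h
  rw [alt_cons]
  linarith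

omit [Field k] [X.Over (Spec (CommRingCat.of k))] [IsProper (X ↘ Spec (CommRingCat.of k))] in
theorem mono_tw_ideal [IsNoetherian X] {D : X.IdealSheafData} (hD : BlowUp.IsEffCartierIdeal D) {F : X.Modules}
    (hF : Coh.IsCoh F) (hass : ∀ x ∈ D.support, ¬ Curv2.IsAssPoint F x) :
    Mono ((AmpleVan.tw F).map (ClSub.idealModι D)) := by
  let φ := (AmpleVan.tw F).map (ClSub.idealModι D)
  have hI := isInvertible_ideal hD
  have hA : Coh.IsCoh ((AmpleVan.tw F).obj (ClSub.idealMod D)) := AmpleVan.isCoh_tensor (AmpleVan.isCoh_invertible hI) hF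
  have hB : Coh.IsCoh ((AmpleVan.tw F).obj (Coh.structureModule X)) := AmpleVan.isCoh_tensor QCoh.isCoh_structureModule' hF
  have hK := QCoh.isCoh_kernel hA hB φ
  let U : X.Opens := ⟨(D.support : Set X)ᶜ, D.support.isClosed.isOpen_compl⟩
  have hiso : Snapper.IsoOn U (ClSub.idealModι D) := fun x hx => by
    have h := (shortExact_ideal D).map_of_exact (DerSch.stalkFunctor X x)
    have hz : IsZero ((DerSch.stalkFunctor X x).obj (ClSub.quotMod D)) :=
      Snapper.notMem_support_iff.1 fun hs => hx (support_quotMod_subset D hs)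
    exact (ShortComplex.ShortExact.isIso_f_iff h).2 hz
  have hsupp := (Snapper.support_subset_compl (hiso.tensor F)).1
  have hz : IsZero (kernel φ) := (AssPtX.isZero_iff hK.1).2 fun x hx => by
    have hxD : x ∈ D.support := not_not.1 fun h => hsupp (AssPtX.mem_support_of_isWeakAssPoint hx) h
    refine hass x hxD (AssPtX.isAssPoint_iff.2 ?_)
    have hI' : Coh.IsCoh (Abelian.image φ) :=
      QCoh.isCoh_of_epi (Abelian.factorThruImage φ) hA (QCoh.isQCoh_kernel hB.1 (QCoh.isQCoh_cokernel hA.1 hB.1 φ) _)
    have h1 := (AssPtX.of_shortExact (ShortComplex.mk (kernel.ι φ) (Abelian.factorThruImage φ)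
      ((cancel_mono (Abelian.image.ι φ)).1 (by rw [Category.assoc, Abelian.image.fac, kernel.condition, zero_comp])))
      { exact := ShortComplex.exact_of_f_is_kernel _ (KernelFork.IsLimit.ofι' _ _ fun {T} t ht =>
          ⟨kernel.lift φ t (by rw [← Abelian.image.fac φ, reassoc_of% ht, zero_comp]), kernel.lift_ι _ _ _⟩)
        mono_f := inferInstance
        epi_g := inferInstance } hK.1 hA.1 hI'.1 x).2 hx
    obtain ⟨e⟩ := (H23.PicMul.comm (ClSub.idealMod D) F : _)
    exact AmpleNeg.isWeakAssPoint_of_tensor hI (isWeakAssPoint_of_mono e.hom h1)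
  exact Preadditive.mono_of_isZero_kernel φ hz

end Groth.Agent.Big
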