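import Groth.Agent.Big.Hodge
import Groth.Agent.Big.NumEq
import Groth.Agent.Big.Cartier
import Groth.Agent.BlowUpLib.Glue
import Groth.Agent.S1681
import Groth.Agent.S8851
import Groth.Agent.CurveCohLib.GlobGen

/-!
# The index theorem on proper surfaces
-/

set_option autoImplicit false
set_option linter.style.haveILetI false
set_option linter.unusedSectionVars false
set_option backward.isDefEq.respectTransparency false
set_option backward.isDefEq.respectTransparency.types false
set_option maxHeartbeats 1000000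

universe u

open CategoryTheory CategoryTheory.Limits AlgebraicGeometry TopologicalSpace Opposite
open Groth.Agent.H23.PicMul

noncomputable section

namespace Groth.Agent.Big

open Groth.Agent

variable (k : Type u) [Field k]

/-- A map which is an isomorphism over a dense open keeps the dimension and has degree one. -/
theorem dim_deg_of_isoOver {X W : Scheme.{u}} [W.Over (Spec (CommRingCat.of k))]
    [IsProper (W ↘ Spec (CommRingCat.of k))] [IsIntegral W] [IsIntegral X] (b : X ⟶ W) [IsProper b] (U : W.Opens)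
    [IsIso (b ∣_ U)] (hU : genericPoint W ∈ U) :
    b (genericPoint X) = genericPoint W ∧ topologicalKrullDim X = topologicalKrullDim W ∧
      b.residueDegree (genericPoint X) = 1 := by
  obtain ⟨y₀, hy₀⟩ := (b ∣_ U).homeomorph.surjective ⟨genericPoint W, hU⟩
  have hne : ((b ⁻¹ᵁ U : X.Opens) : Set X).Nonempty := ⟨_, y₀.2⟩
  have hV : genericPoint X ∈ b ⁻¹ᵁ U := ((genericPoint_spec X).specializes (Set.mem_univ _)).mem_open (b ⁻¹ᵁ U).2 y₀.2
  have hbη : b (genericPoint X) = genericPoint W := by
    have h1 : b (genericPoint X) ⤳ b ((b ⁻¹ᵁ U).ι y₀) :=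
      ((genericPoint_spec X).specializes (Set.mem_univ _)).map b.continuous
    have h2 : b ((b ⁻¹ᵁ U).ι y₀) = genericPoint W := by
      have h : ((b ∣_ U) ≫ U.ι) y₀ = ((b ⁻¹ᵁ U).ι ≫ b) y₀ := by rw [morphismRestrict_ι]
      exact h.symm.trans (congrArg U.ι hy₀)
    rw [h2] at h1
    exact (h1.antisymm ((genericPoint_spec W).specializes (Set.mem_univ _))).eq
  refine ⟨hbη, ?_, ?_⟩
  · letI : X.Over (Spec (CommRingCat.of k)) := ⟨b ≫ (W ↘ Spec (CommRingCat.of k))⟩
    haveI : LocallyOfFiniteType (X ↘ Spec (CommRingCat.of k)) :=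
      inferInstanceAs (LocallyOfFiniteType (b ≫ (W ↘ Spec (CommRingCat.of k))))
    rw [← S1618.result k X (b ⁻¹ᵁ U) hne, ← S1618.result k W U ⟨_, hU⟩]
    exact (b ∣_ U).homeomorph.isHomeomorph.topologicalKrullDim_eq
  · let z : (b ⁻¹ᵁ U : X.Opens).toScheme := ⟨genericPoint X, hV⟩
    have h := CycLib.residueDegree_comp (b ∣_ U) U.ι z
    rw [H23.FiniteFibreSum.residueDegree_congr' (morphismRestrict_ι b U) z, CycLib.residueDegree_comp,
      CycLib.residueDegree_preimmersion (b ⁻¹ᵁ U).ι, CycLib.residueDegree_preimmersion U.ι,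
      CycLib.residueDegree_preimmersion (b ∣_ U), mul_one, mul_one] at h
    exact h

variable {X Z : Scheme.{u}} [X.Over (Spec (CommRingCat.of k))] [Z.Over (Spec (CommRingCat.of k))]
  [IsProper (X ↘ Spec (CommRingCat.of k))] [IsProper (Z ↘ Spec (CommRingCat.of k))]

include k in
/-- The pairing is preserved by birational maps. -/
theorem pair_pull [IsIntegral X] [IsIntegral Z] (g : Z ⟶ X)
    (hg : g ≫ (X ↘ Spec (CommRingCat.of k)) = Z ↘ Spec (CommRingCat.of k))
    (hη : g (genericPoint Z) = genericPoint X) (hδ : g.residueDegree (genericPoint Z) = 1)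
    (hZ : topologicalKrullDim Z = 2) (hX : topologicalKrullDim X = 2) {A B : X.Modules}
    (hA : PicF.IsInvertible A) (hB : PicF.IsInvertible B) :
    pair k ((Scheme.Modules.pullback g).obj A) ((Scheme.Modules.pullback g).obj B) = pair k A B := by
  haveI := CurveCohLib.isNoetherian_of_proper (k := k) (X := X)
  haveI := CurveCohLib.isNoetherian_of_proper (k := k) (X := Z)
  let L : Fin 2 → X.Modules := ![A, B]
  have hL : ∀ j, PicF.IsInvertible (L j) := inv_pair hA hB
  have hL' : ∀ j, PicF.IsInvertible ((fun j => (Scheme.Modules.pullback g).obj (L j)) j) :=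
    fun j => PicClLib.isInvertible_pullback g (hL j)
  have hX' : topologicalKrullDim ↥(CohB1.support (Coh.structureModule X)) ≤ ((2 : ℕ) : WithBot ℕ∞) :=
    (topologicalKrullDim_subspace_le X _).trans hX.le
  have hZ' : topologicalKrullDim ↥(CohB1.support (Coh.structureModule Z)) ≤ ((2 : ℕ) : WithBot ℕ∞) :=
    (topologicalKrullDim_subspace_le Z _).trans hZ.le
  obtain ⟨PX, -, hPX⟩ := Snapper.exists_mpoly k hL (QCoh.isCoh_structureModule' (X := X)) hX'
  obtain ⟨PZ, -, hPZ⟩ := Snapper.exists_mpoly k hL' (QCoh.isCoh_structureModule' (X := Z)) hZ'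
  have h := Nakai.coeff_push k g hg hη (d := 2) hZ hX hL hPZ hPX
    (α := Finsupp.equivFunOnFinite.symm fun _ : Fin 2 => 1)
    (by rw [Finsupp.sum_fintype _ _ (fun _ => rfl)]; simp)
  rw [hδ, Nat.cast_one, one_mul] at h
  have e1 : pair k A B = alt k L (Coh.structureModule X) := rfl
  have e2 : pair k ((Scheme.Modules.pullback g).obj A) ((Scheme.Modules.pullback g).obj B) =
      alt k (fun j => (Scheme.Modules.pullback g).obj (L j)) (Coh.structureModule Z) :=
    alt_congr_cl k (Fin.forall_fin_two.2 ⟨rfl, rfl⟩) rfl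
  rw [e1, e2, alt_eq_coeff k hL QCoh.isCoh_structureModule' hX' hPX,
    alt_eq_coeff k hL' QCoh.isCoh_structureModule' hZ' hPZ, h]

include k in
/-- The index inequality on a proper surface. -/
theorem orth_nonpos [IsIntegral X] (hdim : topologicalKrullDim X = 2) {H L : X.Modules}
    (hH : PicF.IsInvertible H) (hL : PicF.IsInvertible L) (hpos : 0 < pair k H H) (h0 : pair k H L = 0) :
    pair k L L ≤ 0 := by
  obtain ⟨Z, hZ, π, hπ, hπη, hZd, hπdeg, A, hA⟩ := Nakai.exists_chow k X (d := 2) hdim
  haveI := hZ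
  haveI := hπ
  letI : Z.Over (Spec (CommRingCat.of k)) := ⟨π ≫ (X ↘ Spec (CommRingCat.of k))⟩
  haveI : IsProper (Z ↘ Spec (CommRingCat.of k)) :=
    inferInstanceAs (IsProper (π ≫ (X ↘ Spec (CommRingCat.of k))))
  rw [← pair_pull k π rfl hπη hπdeg hZd hdim hL hL]
  exact pair_self_nonpos_of_orth k hZd hA (PicClLib.isInvertible_pullback π hH) (PicClLib.isInvertible_pullback π hL)
    (by rw [pair_pull k π rfl hπη hπdeg hZd hdim hH hH]; exact hpos)
    (by rw [pair_pull k π rfl hπη hπdeg hZd hdim hH hL]; exact h0)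

include k in
/-- An isotropic orthogonal class is orthogonal to every line bundle. -/
theorem pair_eq_zero_of_isotropic [IsIntegral X] (hdim : topologicalKrullDim X = 2) {H L A : X.Modules}
    (hH : PicF.IsInvertible H) (hL : PicF.IsInvertible L) (hA : PicF.IsInvertible A) (hpos : 0 < pair k H H)
    (h0 : pair k H L = 0) (hnn : 0 ≤ pair k L L) : pair k L A = 0 := by
  have hLL : pair k L L = 0 := le_antisymm (orth_nonpos k hdim hH hL hpos h0) hnn
  obtain ⟨x, hx⟩ : ∃ x : ℤ, (x : ℚ) = pair k A H := ⟨_, intNum_eq_pair k hdim.le hA hH⟩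
  obtain ⟨y, hy⟩ : ∃ y : ℤ, (y : ℚ) = pair k H H := ⟨_, intNum_eq_pair k hdim.le hH hH⟩
  obtain ⟨P, hP, hPe⟩ := exists_smul k hdim.le hA y
  obtain ⟨Q, hQ, hQe⟩ := exists_smul k hdim.le hH (-x)
  have hM := InvX.isInvertible_tensorMod hP hQ
  have hMH : pair k (CohB1.tensorMod P Q) H = 0 := by
    rw [pair_add k hdim.le hP hQ hH, hPe H hH, hQe H hH, Int.cast_neg, hx, hy]
    ring
  have hML : pair k (CohB1.tensorMod P Q) L = (y : ℚ) * pair k A L := by
    rw [pair_add k hdim.le hP hQ hL, hPe L hL, hQe L hL, h0]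
    ring
  have key : ∀ t : ℤ, 2 * (t : ℚ) * pair k (CohB1.tensorMod P Q) L + pair k (CohB1.tensorMod P Q) (CohB1.tensorMod P Q) ≤ 0 :=
    fun t => by
    obtain ⟨T, hT, hTe⟩ := exists_smul k hdim.le hL t
    have hN := InvX.isInvertible_tensorMod hT hM
    have h := orth_nonpos k hdim hH hN hpos (by
      rw [pair_symm k, pair_add k hdim.le hT hM hH, hTe H hH, pair_symm k (L := L), h0, hMH, mul_zero, add_zero])
    rw [pair_add k hdim.le hT hM hN, hTe _ hN, pair_symm k (L := L), pair_symm k (L := CohB1.tensorMod P Q)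
      (M := CohB1.tensorMod T (CohB1.tensorMod P Q)), pair_add k hdim.le hT hM hL, pair_add k hdim.le hT hM hM,
      hTe L hL, hTe _ hM, hLL, pair_symm k (L := L) (M := CohB1.tensorMod P Q)] at h
    linarith
  obtain ⟨v, hv⟩ : ∃ v : ℤ, (v : ℚ) = pair k (CohB1.tensorMod P Q) L := ⟨_, intNum_eq_pair k hdim.le hM hL⟩
  obtain ⟨w, hw⟩ : ∃ w : ℤ, (w : ℚ) = pair k (CohB1.tensorMod P Q) (CohB1.tensorMod P Q) :=
    ⟨_, intNum_eq_pair k hdim.le hM hM⟩
  have hv0 : v = 0 := by
    by_contra hne
    have h := key (v * (|w| + 1))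
    rw [← hv, ← hw] at h
    have h' : 2 * (v * (|w| + 1)) * v + w ≤ 0 := by exact_mod_cast h
    have h1 : 1 ≤ v * v := by
      rcases lt_or_gt_of_ne hne with hl | hl <;> nlinarith
    nlinarith [neg_abs_le w, abs_nonneg w]
  have : (y : ℚ) * pair k A L = 0 := by rw [← hML, ← hv, hv0, Int.cast_zero]
  rw [pair_symm]
  exact (mul_eq_zero.1 this).resolve_left (by rw [hy]; exact hpos.ne')

/-- The degree on a closed subscheme computed on the subscheme. -/
theorem cdeg_self {W : Scheme.{u}} [W.Over (Spec (CommRingCat.of k))] [IsProper (W ↘ Spec (CommRingCat.of k))]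
    (i : W ⟶ X) [IsClosedImmersion i] (hi : i ≫ (X ↘ Spec (CommRingCat.of k)) = W ↘ Spec (CommRingCat.of k))
    {L : X.Modules} (hL : PicF.IsInvertible L) :
    cdeg k i L = cdeg k (𝟙 W) ((Scheme.Modules.pullback i).obj L) := by
  rw [cdeg, cdeg, alt_push k i hi (fun j => by fin_cases j; exact hL) QCoh.isQCoh_structureModule,
    alt_push k (𝟙 W) (Category.id_comp _) (fun j => by fin_cases j; exact PicClLib.isInvertible_pullback i hL)
      QCoh.isQCoh_structureModule]
  refine congrArg Neg.neg (alt_congr_cl k (fun j => ?_) rfl)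
  fin_cases j
  exact cl_eq_iff.2 ⟨((Scheme.Modules.pullbackId W).app _).symm⟩

include k in
/-- Degrees along a map of curves. -/
theorem cdeg_pull {W Y : Scheme.{u}} [W.Over (Spec (CommRingCat.of k))] [Y.Over (Spec (CommRingCat.of k))]
    [IsProper (W ↘ Spec (CommRingCat.of k))] [IsProper (Y ↘ Spec (CommRingCat.of k))] [IsIntegral W] [IsIntegral Y]
    (g : W ⟶ Y) (hg : g ≫ (Y ↘ Spec (CommRingCat.of k)) = W ↘ Spec (CommRingCat.of k))
    (hW : topologicalKrullDim W = 1) (hY : topologicalKrullDim Y = 1) {M : Y.Modules} (hM : PicF.IsInvertible M)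
    (hpos : 0 < cdeg k (𝟙 Y) M) :
    0 ≤ cdeg k (𝟙 W) ((Scheme.Modules.pullback g).obj M) ∧
      (g (genericPoint W) = genericPoint Y → 0 < cdeg k (𝟙 W) ((Scheme.Modules.pullback g).obj M)) := by
  haveI := CurveCohLib.isNoetherian_of_proper (k := k) (X := W)
  haveI := CurveCohLib.isNoetherian_of_proper (k := k) (X := Y)
  have hgM := PicClLib.isInvertible_pullback g hM
  have hW' : topologicalKrullDim W = (1 : ℕ) := hW.trans Nat.cast_one.symm
  have hY' : topologicalKrullDim Y = (1 : ℕ) := hY.trans Nat.cast_one.symm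
  obtain ⟨qW, hqW, hqWn⟩ := Nakai.exists_push_poly k (𝟙 W) hgM hW'
  obtain ⟨qY, hqY, hqYn⟩ := Nakai.exists_push_poly k (𝟙 Y) hM hY'
  have eW : qW.coeff 1 = cdeg k (𝟙 W) ((Scheme.Modules.pullback g).obj M) :=
    (Nakai.coeff_one_eq_sub k hqW hqWn).trans (cdeg_eq k (𝟙 W) _).symm
  have eY : qY.coeff 1 = cdeg k (𝟙 Y) M := (Nakai.coeff_one_eq_sub k hqY hqYn).trans (cdeg_eq k (𝟙 Y) _).symm
  refine ⟨?_, fun hη => ?_⟩
  · have hn : Nakai.Nef k M := fun V j hj hV hVd q hq hqn => by
      haveI := hj
      haveI := hV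
      have hr : Set.range j = Set.univ := by
        by_contra hne
        have hlt := H23.TopDim.dim_lt_of_ssubset (Nakai.ne_top_of_dim_eq hY') j.isClosedEmbedding.isClosed_range hne
        rw [← AmpleDev.dim_eq_one_of_closedImmersion j rfl, hVd, hY] at hlt
        exact lt_irrefl _ hlt
      obtain ⟨φ⟩ := QCoh.push_structure_iso (𝟙 Y) j (by rw [hr]; exact (Set.range_eq_univ.2 fun y => ⟨y, rfl⟩).symm)
      rw [Nakai.coeff_one_eq_sub k hq fun n => (Nakai.χ_congr k φ n).symm.trans (hqn n), ← cdeg_eq]
      exact hpos.le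
    have h := hn.pullback_proper k g hg hM W (𝟙 W) inferInstance inferInstance hW qW hqW hqWn
    rwa [eW] at h
  · have hq1 : ∀ n, Snapper.χ k ((Scheme.Modules.pullback g).obj M) (Coh.structureModule W) n = qW.eval (n : ℚ) :=
      fun n => by
      rw [← hqWn n, Nakai.χ_push k (𝟙 W) (Category.id_comp _) hgM QCoh.isQCoh_structureModule n]
      exact Nakai.χ_congr_left k (cl_eq_iff.2 ⟨((Scheme.Modules.pullbackId W).app _).symm⟩) _ n
    have hq2 : ∀ n, Snapper.χ k M (Coh.structureModule Y) n = qY.eval (n : ℚ) := fun n => by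
      rw [← hqYn n, Nakai.χ_push k (𝟙 Y) (Category.id_comp _) hM QCoh.isQCoh_structureModule n]
      exact Nakai.χ_congr_left k (cl_eq_iff.2 ⟨((Scheme.Modules.pullbackId Y).app _).symm⟩) _ n
    have h := Nakai.coeff_push_const k g hg hη hW' hY' hM hqW hqY hq1 hq2
    haveI : IsFinite g := CurveFinMap.isFinite_of_generic k hW hY g hg hη
    have hδ : (0 : ℚ) < (g.residueDegree (genericPoint W) : ℚ) := by
      refine Nat.cast_pos.2 ?_
      letI := (g.residueFieldMap (genericPoint W)).hom.toAlgebra
      haveI : Module.Finite (Y.residueField (g (genericPoint W))) (W.residueField (genericPoint W)) :=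
        MorLib.GF.finite_residueFieldMap g (genericPoint W)
      exact Module.finrank_pos
    rw [← eW, h, eY]
    exact mul_pos hδ hpos

include k in
/-- No curve has positive degree against a class orthogonal to all line bundles. -/
theorem cdeg_nonpos_of_pair_zero [IsIntegral X] (hdim : topologicalKrullDim X = 2) {Y : Scheme.{u}} (ι : Y ⟶ X)
    [IsClosedImmersion ι] [IsIntegral Y] (hY : topologicalKrullDim Y = 1) {L H : X.Modules}
    (hL : PicF.IsInvertible L) (hH : PicF.IsInvertible H) (hpos : 0 < pair k H H)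
    (h0 : pair k H L = 0) (hnn : 0 ≤ pair k L L) : cdeg k ι L ≤ 0 := by
  classical
  by_contra hcon
  push Not at hcon
  haveI := CurveCohLib.isNoetherian_of_proper (k := k) (X := X)
  haveI : X.IsSeparated := AmpleVan.isSeparated_of_proper (X := X) (A := k)
  let C : X.IdealSheafData := Scheme.IdealSheafData.vanishingIdeal ⟨Set.range ι, ι.isClosedEmbedding.isClosed_range⟩
  have hCs : (C.support : Set X) = Set.range ι := by
    rw [← C.range_subschemeι]; exact H23.RedSub.range_vanishingIdeal _
  have hne : genericPoint X ∉ Set.range ι := fun h => by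
    have hu : Set.range ι = Set.univ := by
      refine Set.eq_univ_of_univ_subset ?_
      rw [← genericPoint_closure]
      exact ι.isClosedEmbedding.isClosed_range.closure_subset_iff.2 (Set.singleton_subset_iff.2 h)
    have e := AmpleDev.dim_eq_one_of_closedImmersion ι hu
    rw [hY, (Homeomorph.Set.univ X).isHomeomorph.topologicalKrullDim_eq, hdim] at e
    exact absurd e (by norm_num)
  obtain ⟨X', b, hb⟩ := BlowUpLib.exists_blowUp (C := C)
  haveI : IsProper b := BlowUpLib.isProper_of_isBlowUp (C := C) hb (fun U => (IsLocallyNoetherian.component_noetherian U).noetherian _)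
  let U : X.Opens := C.support.compl
  haveI : IsIso (b ∣_ U) := BlowUpLib.isIso_restrict hb U le_rfl
  have hUη : genericPoint X ∈ U := fun h => hne (hCs.subset h)
  have hgen := S1681.result C b hb
  have hηmin : ∀ y : X, y ⤳ genericPoint X → y = genericPoint X := fun y hy =>
    (hy.antisymm ((genericPoint_spec X).specializes (Set.mem_univ y))).eq
  obtain ⟨η', hη', hbη'⟩ := hgen.surjOn (show genericPoint X ∈ _ from ⟨hηmin, fun h => hne (hCs.subset h)⟩)
  haveI : IsReduced X' := S8851.result C b hb
  haveI : IrreducibleSpace X' := by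
    have huniv : (Set.univ : Set X') ⊆ closure {η'} := fun x _ => by
      obtain ⟨t, ht, hxt⟩ := exists_mem_irreducibleComponents_subset_of_isIrreducible _
        (isIrreducible_singleton (x := x)).closure
      obtain ⟨ξ, hξ⟩ := QuasiSober.sober ht.1 (isClosed_of_mem_irreducibleComponents t ht)
      have hmin : ∀ y, y ⤳ ξ → y = ξ := fun y hy => by
        have hsub : t ⊆ closure {y} := by
          rw [← hξ.def]
          exact closure_minimal (Set.singleton_subset_iff.2 hy.mem_closure) isClosed_closure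
        have := ht.2 (isIrreducible_singleton.closure) hsub
        exact ((show IsGenericPoint y t from subset_antisymm this hsub).eq hξ)
      have h1 := hgen.mapsTo (show ξ ∈ _ from hmin)
      have : ξ = η' := hgen.injOn hmin hη' (((h1.1 (genericPoint X) ((genericPoint_spec X).specializes (Set.mem_univ _))).symm).trans hbη'.symm)
      have hxt' : x ∈ t := hxt (subset_closure rfl)
      rw [← hξ.def, this] at hxt'
      exact hxt'
    exact { isPreirreducible_univ := (isIrreducible_singleton (x := η')).closure.isPreirreducible.open_subset isOpen_univ huniv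
            toNonempty := ⟨η'⟩ }
  haveI : IsIntegral X' := isIntegral_of_irreducibleSpace_of_isReduced X'
  obtain ⟨hbη, hdim', hbdeg⟩ := dim_deg_of_isoOver k b U hUη
  rw [hdim] at hdim'
  letI : X'.Over (Spec (CommRingCat.of k)) := ⟨b ≫ (X ↘ Spec (CommRingCat.of k))⟩
  haveI : IsProper (X' ↘ Spec (CommRingCat.of k)) :=
    inferInstanceAs (IsProper (b ≫ (X ↘ Spec (CommRingCat.of k))))
  haveI := CurveCohLib.isNoetherian_of_proper (k := k) (X := X')
  let E := C.comap b
  have hE : BlowUp.IsEffCartierIdeal E := hb.1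
  have hI := isInvertible_ideal hE
  have hL' := PicClLib.isInvertible_pullback b hL
  have hz := pair_eq_zero_of_isotropic k hdim' (PicClLib.isInvertible_pullback b hH) hL' hI
    (by rw [pair_pull k b rfl hbη hbdeg hdim' hdim hH hH]; exact hpos)
    (by rw [pair_pull k b rfl hbη hbdeg hdim' hdim hH hL]; exact h0)
    (by rw [pair_pull k b rfl hbη hbdeg hdim' hdim hL hL]; exact hnn)
  let M : Fin 1 → X'.Modules := ![(Scheme.Modules.pullback b).obj L]
  have hM : ∀ j, PicF.IsInvertible (M j) := fun j => by fin_cases j; exact hL'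
  haveI : Mono ((AmpleVan.tw (Coh.structureModule X')).map (ClSub.idealModι E)) := by
    haveI := AmpleVan.isEquivalence_tw (CurveDeg.isInvertible_structureModule (X := X'))
    haveI : Mono (ClSub.idealModι E) := inferInstanceAs (Mono (kernel.ι _))
    infer_instance
  have hQ : alt k M (ClSub.quotMod E) = 0 := by
    have h := alt_cons_ideal k hM (QCoh.isCoh_structureModule' (X := X')) hI
    rw [alt_congr_cl k (M := M) (N := M) (fun _ => rfl) (show
      PicF.cl (CohB1.tensorMod (Coh.structureModule X') (ClSub.quotMod E)) = PicF.cl (ClSub.quotMod E) by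
        rw [cl_tensor, one_mul_cl])] at h
    rw [← h]
    show pair k (ClSub.idealMod E) ((Scheme.Modules.pullback b).obj L) = 0
    rw [pair_symm]
    exact hz
  have hEd : topologicalKrullDim ↥(E.support : Set X') ≤ ((1 : ℕ) : WithBot ℕ∞) := dim_support_le k hE hdim'.le
  have hQc := ParShLib.isCoh_quotMod E
  let T : Closeds X' := ⟨_, QCoh.isClosed_support_of_isFT hQc.1 hQc.2⟩
  have hTd : topologicalKrullDim ↥(T : Set X') ≤ ((1 : ℕ) : WithBot ℕ∞) :=
    (H23.TopDim.dim_le_dim_of_subset (support_quotMod_subset E)).trans hEd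
  have hfin := Snapper.finite_topPts hTd
  rw [alt_components k hM hQc hTd subset_rfl hfin.toFinset fun ξ => hfin.mem_toFinset] at hQ
  letI : Y.Over (Spec (CommRingCat.of k)) := ⟨ι ≫ (X ↘ Spec (CommRingCat.of k))⟩
  haveI : IsProper (Y ↘ Spec (CommRingCat.of k)) :=
    inferInstanceAs (IsProper (ι ≫ (X ↘ Spec (CommRingCat.of k))))
  have hMY := PicClLib.isInvertible_pullback ι hL
  rw [cdeg_self k ι rfl hL] at hcon
  have hterm : ∀ ξ ∈ hfin.toFinset, Snapper.len (ClSub.quotMod E) ξ * alt k M (Snapper.clMod ξ) ≤ 0 ∧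
      (b ξ = ι (genericPoint Y) → Snapper.len (ClSub.quotMod E) ξ * alt k M (Snapper.clMod ξ) < 0) := fun ξ hξ => by
    obtain ⟨hξT, hξd⟩ := hfin.mem_toFinset.1 hξ
    let J := Scheme.IdealSheafData.vanishingIdeal (⟨closure ({ξ} : Set X'), isClosed_closure⟩ : Closeds X')
    letI : J.subscheme.Over (Spec (CommRingCat.of k)) := ⟨J.subschemeι ≫ (X' ↘ Spec (CommRingCat.of k))⟩
    haveI : IsProper (J.subscheme ↘ Spec (CommRingCat.of k)) :=
      inferInstanceAs (IsProper (J.subschemeι ≫ (X' ↘ Spec (CommRingCat.of k))))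
    haveI : IsIntegral J.subscheme := QCoh.isIntegral_closure_point ξ
    have hJr : Set.range J.subschemeι = closure {ξ} := H23.RedSub.range_vanishingIdeal _
    have hJd : topologicalKrullDim J.subscheme = 1 :=
      ((AmpleDev.dim_eq_one_of_closedImmersion J.subschemeι hJr).trans hξd).trans Nat.cast_one
    have hJη : J.subschemeι (genericPoint J.subscheme) = ξ := by
      have h := QCoh.range_eq_closure J.subschemeι
      rw [hJr] at h
      exact ((show IsGenericPoint ξ (closure {ξ}) from rfl).eq
        (show IsGenericPoint (J.subschemeι (genericPoint J.subscheme)) (closure {ξ}) from h.symm)).symm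
    have hbξ : b ξ ∈ Set.range ι := by
      rw [← hCs]
      have hx : ξ ∈ (E.support : Set X') := support_quotMod_subset E hξT
      rwa [show E.support = C.support.preimage b.continuous from C.support_comap b] at hx
    obtain ⟨g, hg⟩ := H23.RedSub.exists_lift_closed (J.subschemeι ≫ b) ι (by
      rintro _ ⟨z, rfl⟩
      have hz' : J.subschemeι z ∈ closure {ξ} := hJr ▸ ⟨z, rfl⟩
      have h1 : b (J.subschemeι z) ∈ closure {b ξ} :=
        ((specializes_iff_mem_closure.2 hz').map b.continuous).mem_closure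
      exact ι.isClosedEmbedding.isClosed_range.closure_subset_iff.2 (Set.singleton_subset_iff.2 hbξ) h1)
    have hgk : g ≫ (Y ↘ Spec (CommRingCat.of k)) = J.subscheme ↘ Spec (CommRingCat.of k) := by
      show g ≫ ι ≫ _ = J.subschemeι ≫ b ≫ _
      rw [← Category.assoc, hg, Category.assoc]
    obtain ⟨hnn', hgt⟩ := cdeg_pull k g hgk hJd hY hMY hcon
    have hcl : PicF.cl ((Scheme.Modules.pullback g).obj ((Scheme.Modules.pullback ι).obj L)) =
        PicF.cl ((Scheme.Modules.pullback J.subschemeι).obj ((Scheme.Modules.pullback b).obj L)) :=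
      cl_eq_iff.2 ⟨(Scheme.Modules.pullbackComp g ι).app L ≪≫ (Scheme.Modules.pullbackCongr hg).app L ≪≫
        ((Scheme.Modules.pullbackComp J.subschemeι b).app L).symm⟩
    rw [cdeg_congr k (𝟙 J.subscheme) hcl, ← cdeg_self k J.subschemeι rfl hL'] at hnn' hgt
    have e : alt k M (Snapper.clMod ξ) = -cdeg k J.subschemeι ((Scheme.Modules.pullback b).obj L) := by
      rw [cdeg, neg_neg]
    rw [e]
    have hlen : 0 < Snapper.len (ClSub.quotMod E) ξ := by
      have hlt := CycLib.length_stalk_lt_top (ClSub.quotMod E) hQc (ξ := ξ) fun y hy hyx =>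
        Snapper.eq_of_specializes_topPts hTd ⟨hξT, hξd⟩ (not_subsingleton_iff_nontrivial.2 hy) hyx
      refine Nat.cast_pos.2 (Nat.pos_of_ne_zero fun h => ?_)
      rcases ENat.toNat_eq_zero.1 h with h | h
      · rw [Module.length_eq_zero_iff] at h; exact hξT h
      · exact hlt.ne h
    refine ⟨by nlinarith, fun hd => ?_⟩
    have hgη : g (genericPoint J.subscheme) = genericPoint Y := ι.isClosedEmbedding.injective (by
      rw [← Scheme.Hom.comp_apply, hg, Scheme.Hom.comp_apply, hJη, hd])
    have := hgt hgη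
    nlinarith
  obtain ⟨e, he⟩ : ∃ e, b e = ι (genericPoint Y) := by
    have hsurj : Set.range b = Set.univ := by
      refine Set.eq_univ_of_univ_subset ?_
      rw [← genericPoint_closure]
      exact b.isClosedMap.isClosed_range.closure_subset_iff.2 (Set.singleton_subset_iff.2 ⟨_, hbη⟩)
    exact hsurj.ge (Set.mem_univ (ι (genericPoint Y)))
  have heT : e ∈ CohB1.support (ClSub.quotMod E) := by
    refine CurveCohLib.GlobGen.nontrivial_stalk_quotMod E ?_
    rw [show E.support = C.support.preimage b.continuous from C.support_comap b]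
    show b e ∈ (C.support : Set X)
    rw [hCs, he]
    exact ⟨_, rfl⟩
  have hed : topologicalKrullDim (closure ({e} : Set X')) = ((1 : ℕ) : WithBot ℕ∞) := by
    refine le_antisymm ((H23.TopDim.dim_le_dim_of_subset (T.isClosed.closure_subset_iff.2
      (Set.singleton_subset_iff.2 heT))).trans hTd) ?_
    rw [Nat.cast_one]
    by_contra hlt
    have h0 : topologicalKrullDim (closure ({e} : Set X')) ≤ ((0 : ℕ) : WithBot ℕ∞) :=
      Nakai.le_pred_of_lt (not_le.1 hlt)
    have hcl := Euler.closure_eq_self_of_dim_le_zero isClosed_closure h0 (subset_closure (Set.mem_singleton e))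
    have : IsClosed ({ι (genericPoint Y)} : Set X) := by
      rw [← he, ← Set.image_singleton]
      exact b.isClosedMap _ (hcl ▸ isClosed_closure)
    have hsub : Set.range ι ⊆ {ι (genericPoint Y)} := by
      rw [QCoh.range_eq_closure ι]
      exact this.closure_subset
    haveI : Subsingleton Y := ⟨fun a c => ι.isClosedEmbedding.injective ((hsub ⟨a, rfl⟩).trans (hsub ⟨c, rfl⟩).symm)⟩
    have hd0 := topologicalKrullDim_zero_of_discreteTopology Y
    rw [hY] at hd0
    exact absurd hd0 (by norm_num)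
  have hlt := Finset.sum_lt_sum (fun ξ hξ => (hterm ξ hξ).1)
    ⟨e, hfin.mem_toFinset.2 ⟨heT, hed⟩, (hterm e (hfin.mem_toFinset.2 ⟨heT, hed⟩)).2 he⟩
  rw [hQ, Finset.sum_const_zero] at hlt
  exact lt_irrefl _ hlt

end Groth.Agent.Big
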