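import Groth.Agent.Big.AmpleConnNorm
import Groth.Agent.Big.Compactify
import Groth.Agent.SteinLib.Fibre
import Groth.Agent.S1297

/-!
# Connectedness of inverse images of hyperplanes
-/

set_option autoImplicit false
set_option linter.style.haveILetI false
set_option linter.unusedSectionVars false
set_option backward.isDefEq.respectTransparency false
set_option backward.isDefEq.respectTransparency.types false
set_option maxHeartbeats 1000000

universe u

open CategoryTheory CategoryTheory.Limits AlgebraicGeometry TopologicalSpace Opposite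
open Groth.Agent.H23.PicMul

noncomputable section

namespace Groth.Agent.Big

open Groth.Agent

/-- The inverse image of a hyperplane under a map with image of dimension at least two is connected. -/
theorem isConnected_preimage_hyperplane (k : Type u) [Field k] {W : Scheme.{u}}
    [W.Over (Spec (CommRingCat.of k))] [IsProper (W ↘ Spec (CommRingCat.of k))] [IsIntegral W] {m : ℕ}
    (G : W ⟶ CohB1.ProjSpace m k) (hG : G ≫ CohB1.ProjSpace.toSpec m k = W ↘ Spec (CommRingCat.of k))
    (hdim : (2 : WithBot ℕ∞) ≤ topologicalKrullDim ↥(closure (Set.range G)))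
    (ℓ : MvPolynomial (Fin (m + 1)) k) (hℓ : ℓ ∈ CohB1.polyGrading m k 1) :
    _root_.IsConnected (((G ⁻¹ᵁ Proj.basicOpen (CohB1.polyGrading m k) ℓ : W.Opens) : Set W)ᶜ) := by
  classical
  by_cases hη : G (genericPoint W) ∈ Proj.basicOpen (CohB1.polyGrading m k) ℓ
  swap
  · have h : ((G ⁻¹ᵁ Proj.basicOpen (CohB1.polyGrading m k) ℓ : W.Opens) : Set W)ᶜ = Set.univ :=
      Set.eq_univ_of_forall fun w hw => hη
        (((genericPoint_spec W).mem_open_set_iff (G ⁻¹ᵁ Proj.basicOpen (CohB1.polyGrading m k) ℓ).2).2 ⟨w, trivial, hw⟩)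
    rw [h]
    exact isConnected_univ
  haveI := PnCoh.Chow.isProper_toSpec m k
  letI : (CohB1.ProjSpace m k).Over (Spec (CommRingCat.of k)) := ⟨CohB1.ProjSpace.toSpec m k⟩
  haveI : IsProper (CohB1.ProjSpace m k ↘ Spec (CommRingCat.of k)) := PnCoh.Chow.isProper_toSpec m k
  haveI : IsProper G := by
    haveI : IsProper (G ≫ CohB1.ProjSpace.toSpec m k) := by rw [hG]; infer_instance
    exact MorphismProperty.of_postcomp @IsProper G (CohB1.ProjSpace.toSpec m k)
      (inferInstance : IsSeparated _) inferInstance
  haveI : IsLocallyNoetherian (CohB1.ProjSpace m k) :=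
    LocallyOfFiniteType.isLocallyNoetherian (CohB1.ProjSpace.toSpec m k)
  let Z := G.normalization
  let ν : Z ⟶ CohB1.ProjSpace m k := G.fromNormalization
  let h : W ⟶ Z := G.toNormalization
  haveI : IsFinite ν := S1297.result G
  haveI : IsProper h := SteinLib.isProper_toNormalization G
  haveI : GeometricallyConnected h := SteinLib.geometricallyConnected_toNormalization G
  have hcomp : h ≫ ν = G := G.toNormalization_fromNormalization
  letI : Z.Over (Spec (CommRingCat.of k)) := ⟨ν ≫ CohB1.ProjSpace.toSpec m k⟩
  haveI : IsProper (Z ↘ Spec (CommRingCat.of k)) := inferInstanceAs (IsProper (ν ≫ CohB1.ProjSpace.toSpec m k))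
  have hsurj : Function.Surjective h := h.surjective
  have hgen : h (genericPoint W) = genericPoint Z := by
    refine (show IsGenericPoint (h (genericPoint W)) Set.univ from ?_).eq (genericPoint_spec Z)
    show closure {h (genericPoint W)} = Set.univ
    rw [← Set.image_singleton, h.isClosedMap.closure_image_eq_of_continuous h.continuous, genericPoint_closure,
      Set.image_univ, hsurj.range_eq]
  have hηZ : ν (genericPoint Z) ∈ Proj.basicOpen (CohB1.polyGrading m k) ℓ := by
    rw [← hgen, ← Scheme.Hom.comp_apply, hcomp]; exact hη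
  obtain ⟨I, hI, hIs, hIcl⟩ := exists_linForm_divisor ν ℓ hℓ hηZ
  have hA : CohB1.IsAmple (PnCoh.Chow.pullTw ν ((1 : ℕ) : ℤ)) := AmpleDev.isAmple_pullback_finite k ν (by
    show CohB1.IsAmple (Twist.twistProjSpace m k ((1 : ℕ) : ℤ))
    rw [Nat.cast_one]; exact isAmple_hyperplane m k)
  have hdZ : (2 : WithBot ℕ∞) ≤ topologicalKrullDim Z := by
    obtain ⟨Z₀, j, hj, hZ₀, q, hq, hqη, hjr⟩ := exists_lift_closure ν
    haveI := hj
    haveI := hZ₀
    haveI : IsFinite (q ≫ j) := by rw [hq]; infer_instance
    haveI : IsFinite q := MorphismProperty.of_postcomp @IsFinite q j (inferInstance : IsSeparated j) inferInstance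
    have hqs : Function.Surjective q := fun z => by
      have h0 : closure ({genericPoint Z₀} : Set Z₀) ⊆ Set.range q :=
        q.isClosedMap.isClosed_range.closure_subset_iff.2 (Set.singleton_subset_iff.2 ⟨_, hqη⟩)
      rw [genericPoint_closure] at h0
      exact h0 (Set.mem_univ z)
    have hrange : Set.range G = Set.range ν := by
      rw [← hcomp]
      exact (congrArg Set.range (funext fun v => Scheme.Hom.comp_apply h ν v)).trans
        (hsurj.range_comp ν)
    rw [hrange] at hdim
    exact (hdim.trans (AmpleDev.dim_eq_one_of_closedImmersion j hjr).ge).trans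
      (Nakai.dim_le_of_surjective q q.isClosedMap hqs)
  have hsupp := AmpleConn.isConnected_support k hdZ hA hI hIcl
  have hpre : ((G ⁻¹ᵁ Proj.basicOpen (CohB1.polyGrading m k) ℓ : W.Opens) : Set W)ᶜ = h ⁻¹' (I.support : Set Z) := by
    rw [hIs, ← hcomp]
    rfl
  rw [hpre]
  exact Topology.IsCoinducing.isConnected_preimage_of_isClosed h.isConnected_preimage_singleton
    (h.isClosedMap.isQuotientMap h.continuous hsurj).isCoinducing I.support.isClosed hsupp

end Groth.Agent.Big
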