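import Groth.Agent.Big.NefBig
import Groth.Agent.Nakai.Uni

/-!
# The alternating sum and the leading coefficient
-/

set_option autoImplicit false
set_option linter.style.haveILetI false
set_option linter.unusedSectionVars false
set_option backward.isDefEq.respectTransparency false
set_option backward.isDefEq.respectTransparency.types false
set_option maxHeartbeats 1000000

universe u

open CategoryTheory CategoryTheory.Limits AlgebraicGeometry TopologicalSpace Opposite
open Groth.Agent.H23.PicMul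

noncomputable section

namespace Groth.Agent.Big

open Groth.Agent

variable (k : Type u) [Field k] {X : Scheme.{u}} [X.Over (Spec (CommRingCat.of k))]
  [IsProper (X ↘ Spec (CommRingCat.of k))]

omit [Field k] [X.Over (Spec (CommRingCat.of k))] [IsProper (X ↘ Spec (CommRingCat.of k))] in
theorem cl_tensorList_map {α : Type*} {M : X.Modules} : ∀ l : List α,
    PicF.cl (FGA.tensorList (l.map fun _ => M)) = PicF.cl M ^ l.length
  | [] => by rw [List.length_nil, pow_zero, H23.PicMul.one_def]; rfl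
  | _ :: l => by
    show PicF.cl (CohB1.tensorMod M (FGA.tensorList (l.map fun _ => M))) = _
    rw [cl_tensor, cl_tensorList_map l, List.length_cons, pow_succ']

theorem alt_sum_neg {r : ℕ} (q : Polynomial ℚ) (hq : q.natDegree ≤ r) :
    ∑ j ∈ Finset.range (r + 1), (r.choose j : ℚ) * ((-1 : ℚ) ^ j * q.eval (-(j : ℚ))) = r.factorial * q.coeff r := by
  let g := q.comp (-Polynomial.X)
  have hg : g.natDegree ≤ r := Polynomial.natDegree_comp_le.trans (by simpa using hq)
  have hc : g.coeff r = (-1) ^ r * q.coeff r := by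
    show (q.comp (-Polynomial.X)).coeff r = _
    rw [show (-Polynomial.X : Polynomial ℚ) = Polynomial.C (-1) * Polynomial.X by simp,
      Polynomial.comp_C_mul_X_coeff, mul_comm]
  have h := Nakai.alt_sum_eq_coeff g hg
  rw [hc] at h
  have hr : ∀ i, ((-1 : ℚ) ^ i) * ((-1 : ℚ) ^ i) = 1 := fun i => by rw [← mul_pow]; simp
  calc ∑ j ∈ Finset.range (r + 1), (r.choose j : ℚ) * ((-1 : ℚ) ^ j * q.eval (-(j : ℚ)))
      = (-1 : ℚ) ^ r * ∑ j ∈ Finset.range (r + 1), (-1 : ℚ) ^ (r - j) * r.choose j * g.eval (j : ℚ) := by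
        rw [Finset.mul_sum]
        refine Finset.sum_congr rfl fun j hj => ?_
        have hjr : j ≤ r := Nat.lt_succ_iff.1 (Finset.mem_range.1 hj)
        have e : (-1 : ℚ) ^ r * (-1) ^ (r - j) = (-1) ^ j := by
          have : (-1 : ℚ) ^ r = (-1) ^ j * (-1) ^ (r - j) := by rw [← pow_add]; congr 1; omega
          rw [this, mul_assoc, hr, mul_one]
        rw [show g.eval (j : ℚ) = q.eval (-(j : ℚ)) by simp [g], ← e]
        ring
    _ = r.factorial * q.coeff r := by
        rw [h, ← mul_assoc, ← mul_assoc, hr, one_mul, mul_comm]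

/-- The values at negative integers. -/
theorem χ_inverse {L M F : X.Modules} (hL : PicF.IsInvertible L) (hM : PicF.IsInvertible M)
    (hLM : PicF.cl L * PicF.cl M = 1) (hF : Coh.IsCoh F) {C : Closeds X} (hFC : CohB1.support F ⊆ C) {r : ℕ}
    (hC : topologicalKrullDim ↥(C : Set X) ≤ r) {q : Polynomial ℚ}
    (hqn : ∀ n, Snapper.χ k L F n = q.eval (n : ℚ)) (N : ℕ) :
    Snapper.χ k M F N = q.eval (-(N : ℚ)) := by
  haveI := CurveCohLib.isNoetherian_of_proper (k := k) (X := X)
  have hMN := InvX.isInvertible_tensorPow hM N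
  have hF' : Coh.IsCoh (CohB1.tensorMod F (CohB1.tensorPow M N)) :=
    AmpleVan.isCoh_tensor hF (AmpleVan.isCoh_invertible hMN)
  obtain ⟨p, -, hpn⟩ := Nakai.exists_poly k hL hF' (C := C) (d := r)
    ((support_tensorMod_comm (ProjUPX.isQCoh_of_isInvertible hMN) hF.1).trans hFC) hC
  have hLMn : ∀ j : ℕ, PicF.cl L ^ j * PicF.cl M ^ j = 1 := fun j => by rw [← mul_pow, hLM, one_pow]
  have hshift : q = p.comp (Polynomial.X - Polynomial.C (N : ℚ)) → q.eval (-(N : ℚ) + N) = q.eval 0 := fun _ => by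
    rw [neg_add_cancel]
  have h : p = q.comp (Polynomial.X - Polynomial.C (N : ℚ)) := by
    refine Polynomial.eq_of_infinite_eval_eq _ _ (((Set.infinite_range_of_injective
      ((Nat.cast_injective (R := ℚ)).comp (add_right_injective N)))).mono ?_)
    rintro _ ⟨n, rfl⟩
    show p.eval ((N + n : ℕ) : ℚ) = (q.comp (Polynomial.X - Polynomial.C (N : ℚ))).eval ((N + n : ℕ) : ℚ)
    rw [Polynomial.eval_comp, Polynomial.eval_sub, Polynomial.eval_X, Polynomial.eval_C, Nat.cast_add,
      add_sub_cancel_left, ← hqn n, ← Nat.cast_add, ← hpn (N + n)]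
    refine congrArg Int.cast (CurveCohLib.euler_congr (k := k) ((cl_eq_iff.1 ?_).some))
    show PicF.cl (CohB1.tensorMod (CohB1.tensorMod F (CohB1.tensorPow M N)) (CohB1.tensorPow L (N + n))) =
      PicF.cl (CohB1.tensorMod F (CohB1.tensorPow L n))
    rw [cl_tensor, cl_tensor, cl_tensor, cl_tensorPow, cl_tensorPow, cl_tensorPow, pow_add, mul_assoc,
      ← mul_assoc (PicF.cl M ^ N), mul_comm (PicF.cl M ^ N), hLMn, one_mul]
  have h0 := hpn 0
  rw [h, Polynomial.eval_comp, Polynomial.eval_sub, Polynomial.eval_X, Polynomial.eval_C, Nat.cast_zero, zero_sub] at h0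
  rw [← h0]
  refine congrArg Int.cast (CurveCohLib.euler_congr (k := k) ((cl_eq_iff.1 ?_).some))
  show PicF.cl (CohB1.tensorMod F (CohB1.tensorPow M N)) =
    PicF.cl (CohB1.tensorMod (CohB1.tensorMod F (CohB1.tensorPow M N)) (CohB1.tensorPow L 0))
  rw [cl_tensor (CohB1.tensorMod F (CohB1.tensorPow M N)), cl_tensorPow L 0, pow_zero, mul_one]

/-- The alternating sum in terms of the values at negative integers. -/
theorem intNum_eq_sum {d r i : ℕ} (hd : topologicalKrullDim X ≤ d) {L M F : X.Modules} (hL : PicF.IsInvertible L)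
    (hM : PicF.IsInvertible M) (hLM : PicF.cl L * PicF.cl M = 1) (hF : Coh.IsCoh F) {C : Closeds X}
    (hFC : CohB1.support F ⊆ C) (hC : topologicalKrullDim ↥(C : Set X) ≤ r) {q : Polynomial ℚ}
    (hqn : ∀ n, Snapper.χ k L F n = q.eval (n : ℚ)) :
    (FGA.intNum k X d (fun _ : Fin i => M) F : ℚ) =
      ∑ j ∈ Finset.range (i + 1), (i.choose j : ℚ) * ((-1 : ℚ) ^ j * q.eval (-(j : ℚ))) := by
  classical
  have hterm : ∀ I : Finset (Fin i),
      (FGA.eulerCharLE k X (CohB1.tensorMod (FGA.tensorList ((I.sort (· ≤ ·)).map fun _ => M)) F) d : ℚ) =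
        q.eval (-(I.card : ℚ)) := fun I => by
    have hcl : PicF.cl (CohB1.tensorMod (FGA.tensorList ((I.sort (· ≤ ·)).map fun _ => M)) F) =
        PicF.cl (CohB1.tensorMod F (CohB1.tensorPow M I.card)) := by
      rw [cl_tensor, cl_tensorList_map, Finset.length_sort, cl_tensor, cl_tensorPow, mul_comm]
    obtain ⟨e⟩ := cl_eq_iff.1 hcl
    have hMI := InvX.isInvertible_tensorPow hM I.card
    have hqc : Coh.IsQCoh (CohB1.tensorMod F (CohB1.tensorPow M I.card)) :=
      KFlatLib.isQCoh_tensor hF.1 (ProjUPX.isQCoh_of_isInvertible hMI)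
    rw [← χ_inverse k hL hM hLM hF hFC hC hqn I.card,
      Nakai.eulerCharLE_eq_euler k hd ((QCoh.isQCoh_iff_iso e.symm).1 hqc)]
    exact congrArg Int.cast (CurveCohLib.euler_congr (k := k) e)
  have hsum := Finset.sum_powerset_apply_card (x := (Finset.univ : Finset (Fin i)))
    (fun j => (-1 : ℚ) ^ j * q.eval (-(j : ℚ)))
  rw [Finset.powerset_univ, Finset.card_univ, Fintype.card_fin] at hsum
  simp only [nsmul_eq_mul] at hsum
  rw [FGA.intNum, Int.cast_sum, ← hsum]
  refine Finset.sum_congr rfl fun I _ => ?_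
  push_cast
  rw [hterm I]

/-- The intersection number of `r` copies of one module. -/
theorem intNum_eq_coeff {d r : ℕ} (hd : topologicalKrullDim X ≤ d) {L M F : X.Modules} (hL : PicF.IsInvertible L)
    (hM : PicF.IsInvertible M) (hLM : PicF.cl L * PicF.cl M = 1) (hF : Coh.IsCoh F) {C : Closeds X}
    (hFC : CohB1.support F ⊆ C) (hC : topologicalKrullDim ↥(C : Set X) ≤ r) {q : Polynomial ℚ}
    (hq : q.natDegree ≤ r) (hqn : ∀ n, Snapper.χ k L F n = q.eval (n : ℚ)) :
    (FGA.intNum k X d (fun _ : Fin r => M) F : ℚ) = r.factorial * q.coeff r :=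
  (intNum_eq_sum k hd hL hM hLM hF hFC hC hqn).trans (alt_sum_neg q hq)

end Groth.Agent.Big
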