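import Groth.Agent.Big.Volume
import Groth.Agent.InvX.GenLocusPull
import Groth.Agent.Nakai.KleimanDeg

/-!
# Nef and big is positive top self-intersection
-/

set_option autoImplicit false
set_option linter.style.haveILetI false
set_option linter.unusedSectionVars false
set_option backward.isDefEq.respectTransparency false
set_option backward.isDefEq.respectTransparency.types false
set_option maxHeartbeats 1000000

universe u

open CategoryTheory CategoryTheory.Limits AlgebraicGeometry TopologicalSpace Opposite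
open Groth.Agent.H23.PicMul

noncomputable section

namespace Groth.Agent.Big

open Groth.Agent

/-- A nonzero section on every integral closed subscheme. -/
def Gen {X : Scheme.{u}} (A : X.Modules) : Prop :=
  ∀ (Z : Scheme.{u}) (i : Z ⟶ X), IsClosedImmersion i → IsIntegral Z →
    ∃ s : Coh.structureModule Z ⟶ (Scheme.Modules.pullback i).obj A, s ≠ 0

variable (k : Type u) [Field k] {X : Scheme.{u}} [X.Over (Spec (CommRingCat.of k))]
  [IsProper (X ↘ Spec (CommRingCat.of k))]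

include k in
theorem exists_gen_ample {A : X.Modules} (hA : CohB1.IsAmple A) :
    ∃ A' : X.Modules, CohB1.IsAmple A' ∧ Gen A' := by
  haveI : CompactSpace X := QuasiCompact.compactSpace_of_compactSpace (X ↘ Spec (CommRingCat.of k))
  haveI : X.IsSeparated := AmpleVan.isSeparated_of_proper (X := X) (A := k)
  obtain ⟨a, ha, κ, _, σ, -, -, hcov⟩ := AmpleX.exists_cover_genLocus hA
  refine ⟨_, AmpleX.isAmple_tensorPow hA ha, fun Z i hi hZ => ?_⟩
  haveI := hZ
  obtain ⟨j, hj⟩ := hcov (i (genericPoint Z))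
  obtain ⟨e⟩ := PicClLib.nonempty_pullback_structureModule i
  refine ⟨e.inv ≫ (Scheme.Modules.pullback i).map (σ j), Nakai.ne_zero_of_mem_genLocus (x := genericPoint Z) ?_⟩
  have h := InvX.genLocus_pullback i (InvX.isInvertible_tensorPow hA.1 a) (σ j) e.symm
  rw [show e.symm.hom = e.inv from rfl] at h
  rw [h]
  exact hj

/-- `Lᵃ ⊗ Aᵇ ⊗ Dᶜ`. -/
def W (L A D : X.Modules) (a b c : ℕ) : X.Modules :=
  CohB1.tensorMod (CohB1.tensorMod (CohB1.tensorPow L a) (CohB1.tensorPow A b)) (CohB1.tensorPow D c)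

omit [Field k] [X.Over (Spec (CommRingCat.of k))] [IsProper (X ↘ Spec (CommRingCat.of k))] in
theorem isInvertible_W {L A D : X.Modules} (hL : PicF.IsInvertible L) (hA : PicF.IsInvertible A)
    (hD : PicF.IsInvertible D) (a b c : ℕ) : PicF.IsInvertible (W L A D a b c) :=
  InvX.isInvertible_tensorMod (InvX.isInvertible_tensorMod (InvX.isInvertible_tensorPow hL a)
    (InvX.isInvertible_tensorPow hA b)) (InvX.isInvertible_tensorPow hD c)

omit [Field k] [X.Over (Spec (CommRingCat.of k))] [IsProper (X ↘ Spec (CommRingCat.of k))] in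
theorem cl_W (L A D : X.Modules) (a b c : ℕ) :
    PicF.cl (W L A D a b c) = PicF.cl L ^ a * PicF.cl A ^ b * PicF.cl D ^ c := by
  rw [W, cl_tensor, cl_tensor, cl_tensorPow, cl_tensorPow, cl_tensorPow]

/-- `h⁰(M ⊗ Lᵃ ⊗ Aᵇ ⊗ A⁻ᶜ) = O((a + b)ᵈ)`, uniformly in `c`. -/
def Bound₂ (L A D : X.Modules) (d : ℕ) (M : X.Modules) : Prop :=
  ∃ C : ℕ, ∀ a b c, h0 k (CohB1.tensorMod M (W L A D a b c)) ≤ C * (a + b + 1) ^ d

theorem Bound₂.of_iso {L A D M N : X.Modules} {d : ℕ} (e : M ≅ N) : Bound₂ k L A D d M → Bound₂ k L A D d N :=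
  fun ⟨C, h⟩ => ⟨C, fun a b c => le_of_eq_of_le (h0_congr k ((AmpleVan.tw (W L A D a b c)).mapIso e).symm) (h a b c)⟩

theorem Bound₂.zero {L A D M : X.Modules} (hL : PicF.IsInvertible L) (hA : PicF.IsInvertible A)
    (hD : PicF.IsInvertible D) {d : ℕ} (hM : IsZero M) : Bound₂ k L A D d M :=
  ⟨0, fun a b c => by
    haveI := AmpleVan.isEquivalence_tw (isInvertible_W hL hA hD a b c)
    exact le_of_eq_of_le (CurveCohLib.finrank_HH_zero_eq_zero_of_isZero (k := k)
      ((AmpleVan.tw (W L A D a b c)).map_isZero hM)) (Nat.zero_le _)⟩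

theorem Bound₂.ext {L A D : X.Modules} (hL : PicF.IsInvertible L) (hA : PicF.IsInvertible A)
    (hD : PicF.IsInvertible D) {d : ℕ} {S : ShortComplex X.Modules} (hS : S.ShortExact)
    (h₂ : Coh.IsCoh S.X₂) (h₃ : Coh.IsCoh S.X₃) :
    Bound₂ k L A D d S.X₁ → Bound₂ k L A D d S.X₃ → Bound₂ k L A D d S.X₂ :=
  fun ⟨C, hC⟩ ⟨C', hC'⟩ => ⟨C + C', fun a b c => by
    refine (h0_add_tw k hS (isInvertible_W hL hA hD a b c) h₂ h₃).trans ?_
    rw [add_mul]
    exact Nat.add_le_add (hC a b c) (hC' a b c)⟩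

include k in
/-- The uniform bound on an integral scheme. -/
theorem bound₂_integral [IsIntegral X] {d : ℕ} (hdim : topologicalKrullDim X ≤ d) {L A D : X.Modules}
    (hL : PicF.IsInvertible L) (hA : CohB1.IsAmple A) (hD : PicF.IsInvertible D)
    (hAD : PicF.cl A * PicF.cl D = 1) (s : Coh.structureModule X ⟶ A) (hs : s ≠ 0) :
    Bound₂ k L A D d (Coh.structureModule X) := by
  haveI := CurveCohLib.isNoetherian_of_proper (k := k) (X := X)
  obtain ⟨L', hL', ⟨δ⟩⟩ := H23.PicInv.exists_inverse hL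
  have hLL' : PicF.cl L * PicF.cl L' = 1 := by rw [← cl_tensor, cl_eq_iff.2 ⟨δ⟩, H23.PicMul.one_def]
  obtain ⟨e, he, t, ht⟩ := exists_section_twist k hdim hA hL'
  obtain ⟨C, hC⟩ := bound_coh k hA hA.1 (QCoh.isCoh_structureModule' (X := X)) (T := (⊤ : Closeds X))
    (fun x _ => trivial) (d := d) ((Topology.IsInducing.subtypeVal.topologicalKrullDim_le).trans hdim)
  refine ⟨C * (e + 1) ^ d, fun a b c => ?_⟩
  have hW := InvX.isInvertible_tensorMod (CurveDeg.isInvertible_structureModule (X := X))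
    (isInvertible_W hL hA.1 hD a b c)
  have h1 := h0_le_twist_pow k hA.1 hW s hs c
  have hT := InvX.isInvertible_tensorMod hL' (InvX.isInvertible_tensorPow hA.1 e)
  have h2 := h0_le_twist_pow k hT (InvX.isInvertible_tensorMod (InvX.isInvertible_tensorPow hA.1 c) hW) t ht a
  refine (h1.trans h2).trans ?_
  refine le_trans (le_of_eq (h0_congr_cl k
    (N := CohB1.tensorMod (Coh.structureModule X) (CohB1.tensorPow A (e * a + b))) ?_)) ((hC (e * a + b)).trans ?_)
  · rw [cl_tensor, cl_tensorPow, cl_tensor, cl_tensor, cl_tensor, cl_W, cl_tensorPow, cl_tensorPow, one_mul_cl,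
      cl_tensor, cl_tensorPow, one_mul_cl, mul_pow, ← pow_mul, pow_add]
    have e1 : PicF.cl L' ^ a * PicF.cl L ^ a = 1 := by rw [← mul_pow, mul_comm, hLL', one_pow]
    have e2 : PicF.cl A ^ c * PicF.cl D ^ c = 1 := by rw [← mul_pow, hAD, one_pow]
    calc PicF.cl L' ^ a * PicF.cl A ^ (e * a) * (PicF.cl A ^ c * (PicF.cl L ^ a * PicF.cl A ^ b * PicF.cl D ^ c))
        = (PicF.cl L' ^ a * PicF.cl L ^ a) * (PicF.cl A ^ c * PicF.cl D ^ c) * (PicF.cl A ^ (e * a) * PicF.cl A ^ b) := by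
          ac_rfl
      _ = _ := by rw [e1, e2, one_mul, one_mul]
  · rw [mul_assoc, ← mul_pow]
    exact Nat.mul_le_mul_left C (Nat.pow_le_pow_left (by nlinarith) d)

theorem h0_le_tw {M N P : X.Modules} (f : M ⟶ N) [Mono f] (hP : PicF.IsInvertible P) (hN : Coh.IsCoh N) :
    h0 k (CohB1.tensorMod M P) ≤ h0 k (CohB1.tensorMod N P) := by
  haveI := CurveCohLib.isNoetherian_of_proper (k := k) (X := X)
  haveI : Mono ((AmpleVan.tw P).map f) := mono_tw hP f
  have hcoh : Coh.IsCoh ((AmpleVan.tw P).obj N) := AmpleVan.isCoh_tensor hN (AmpleVan.isCoh_invertible hP)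
  show h0 k ((AmpleVan.tw P).obj M) ≤ h0 k ((AmpleVan.tw P).obj N)
  exact h0_le_of_mono k ((AmpleVan.tw P).map f) hcoh

/-- The uniform bound for coherent modules. -/
theorem bound₂_coh {L A D : X.Modules} (hL : PicF.IsInvertible L) (hA : CohB1.IsAmple A) (hG : Gen A)
    (hD : PicF.IsInvertible D) (hAD : PicF.cl A * PicF.cl D = 1) {M : X.Modules} (hM : Coh.IsCoh M) {T : Closeds X}
    (hMT : CohB1.support M ⊆ T) {d : ℕ} (hd : topologicalKrullDim ↥(T : Set X) ≤ d) : Bound₂ k L A D d M := by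
  haveI := CurveCohLib.isNoetherian_of_proper (k := k) (X := X)
  refine QCoh.devissage_ideals (Bound₂ k L A D d) (fun M N ⟨e⟩ hP => hP.of_iso k e)
    (fun M h0 => Bound₂.zero k hL hA.1 hD h0) (T : Set X)
    (fun S hS _ h2 h3 p1 p3 => Bound₂.ext k hL hA.1 hD hS h2 h3 p1 p3) ?_ hM hMT
  intro ξ hξT _ Z i _ hZ hr I ι hι hI _
  letI : Z.Over (Spec (CommRingCat.of k)) := ⟨i ≫ (X ↘ Spec (CommRingCat.of k))⟩
  haveI : IsProper (Z ↘ Spec (CommRingCat.of k)) :=
    inferInstanceAs (IsProper (i ≫ (X ↘ Spec (CommRingCat.of k))))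
  haveI := CurveCohLib.isNoetherian_of_proper (k := k) (X := Z)
  haveI := hι
  have hdim : topologicalKrullDim Z ≤ d := dim_le_of_range i (hr.le.trans hξT) hd
  have hLi := PicClLib.isInvertible_pullback i hL
  have hAi := PicClLib.isInvertible_pullback i hA.1
  have hDi := PicClLib.isInvertible_pullback i hD
  have hADi : PicF.cl ((Scheme.Modules.pullback i).obj A) * PicF.cl ((Scheme.Modules.pullback i).obj D) = 1 := by
    show PicF.pullCl i (PicF.cl A) * PicF.pullCl i (PicF.cl D) = 1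
    rw [← pullCl_mul, hAD, pullCl_one]
  obtain ⟨s, hs⟩ := hG Z i inferInstance hZ
  obtain ⟨C, hC⟩ := bound₂_integral k hdim hLi (AmpleDev.isAmple_pullback_finite k i hA) hDi hADi s hs
  refine ⟨C, fun a b c => le_trans (le_of_eq_of_le
    (?_ : _ = h0 k (CohB1.tensorMod I (W ((Scheme.Modules.pullback i).obj L) ((Scheme.Modules.pullback i).obj A)
      ((Scheme.Modules.pullback i).obj D) a b c))) ?_) (hC a b c)⟩
  · have hP := isInvertible_W hL hA.1 hD a b c
    obtain ⟨e⟩ := AmpleDev.push_tensor_iso i hP I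
    obtain ⟨ψ⟩ : Nonempty ((Scheme.Modules.pullback i).obj (W L A D a b c) ≅
        W ((Scheme.Modules.pullback i).obj L) ((Scheme.Modules.pullback i).obj A)
          ((Scheme.Modules.pullback i).obj D) a b c) := cl_eq_iff.1 (by
      show PicF.pullCl i (PicF.cl (W L A D a b c)) = _
      rw [cl_W, cl_W, pullCl_mul, pullCl_mul, pullCl_pow, pullCl_pow, pullCl_pow]
      rfl)
    obtain ⟨l⟩ := PnCoh.exists_linearEquiv_push k i (rfl : i ≫ (X ↘ Spec (CommRingCat.of k)) = _)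
      (KFlatLib.isQCoh_tensor hI (ProjUPX.isQCoh_of_isInvertible (PicClLib.isInvertible_pullback i hP))) 0
    exact ((h0_congr k e).trans l.finrank_eq.symm).trans (h0_congr k (PicGrp.tensorModIso (Iso.refl I) ψ))
  · have hP := isInvertible_W hLi hAi hDi a b c
    exact h0_le_tw k ι hP (QCoh.isCoh_structureModule' (X := Z))

include k in
theorem exists_mixed_top [IsIntegral X] {n : ℕ} (hdim : topologicalKrullDim X = n) {L A : X.Modules}
    (hL : PicF.IsInvertible L) (hn : Nakai.Nef k L) (hA : CohB1.IsAmple A) :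
    ∃ c : ℕ → ℚ, Nakai.IsMixed k L A (Coh.structureModule X) n c ∧ ∀ i, i ≤ n → 0 ≤ c i := by
  haveI := CurveCohLib.isNoetherian_of_proper (k := k) (X := X)
  obtain ⟨c, hc⟩ := Nakai.exists_mixed k hL hA.1 (QCoh.isCoh_structureModule' (X := X)) (C := (⊤ : Closeds X))
    (d := n) (Nakai.dim_univ_le hdim) (fun x _ => trivial)
  exact ⟨c, hc, (Nakai.kl k n X hdim L A hL hn hA c hc).2⟩

theorem coeff_comb {L A : X.Modules} {n : ℕ} {c : ℕ → ℚ} (hc : Nakai.IsMixed k L A (Coh.structureModule X) n c)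
    {r : Polynomial ℚ} (hr : r.natDegree ≤ n) (hrn : ∀ m, Snapper.χ k L (Coh.structureModule X) m = r.eval (m : ℚ)) :
    r.coeff n = c n := by
  rw [hc 1 0 r hr fun m => (Nakai.χ_congr_left k (by rw [Nakai.cl_comb, pow_one, pow_zero, mul_one]) _ m).trans (hrn m),
    Nakai.form, Finset.sum_eq_single n]
  · simp
  · intro i hi hne
    have : i < n := lt_of_le_of_ne (Nat.lt_succ_iff.1 (Finset.mem_range.1 hi)) hne
    simp [zero_pow (show n - i ≠ 0 by omega)]
  · simp

/-- The sections of the powers of `L^q ⊗ A`. -/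
theorem exists_poly_comb [IsIntegral X] {n : ℕ} (hdim : topologicalKrullDim X = n) {L A : X.Modules}
    (hL : PicF.IsInvertible L) (hn : Nakai.Nef k L) (hA : CohB1.IsAmple A) {c : ℕ → ℚ}
    (hc : Nakai.IsMixed k L A (Coh.structureModule X) n c) (q : ℕ) :
    ∃ r : Polynomial ℚ, r.natDegree ≤ n ∧ r.coeff n = Nakai.form c n q 1 ∧ ∃ j₀ : ℕ, ∀ j, j₀ ≤ j →
      (h0 k (CohB1.tensorMod (CohB1.tensorPow L (q * j)) (CohB1.tensorPow A j)) : ℚ) = r.eval (j : ℚ) := by
  haveI := CurveCohLib.isNoetherian_of_proper (k := k) (X := X)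
  obtain ⟨r, hr, hrn, j₀, hj₀⟩ := exists_poly_h0 k (Nakai.isAmple_comb k hL hn hA q one_pos)
    (QCoh.isCoh_structureModule' (X := X)) (C := (⊤ : Closeds X)) (fun x _ => trivial) (d := n) (Nakai.dim_univ_le hdim)
  refine ⟨r, hr, by rw [hc q 1 r hr hrn, Nat.cast_one], j₀, fun j hj => ?_⟩
  rw [← hj₀ j hj]
  refine congrArg Nat.cast (h0_congr_cl k ?_)
  rw [cl_tensor, cl_tensor, cl_tensorPow, cl_tensorPow, cl_tensorPow, Nakai.cl_comb, one_mul_cl, pow_one, mul_pow,
    ← pow_mul]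

include k in
/-- A nef module of positive top number is big. -/
theorem exists_ample_mono_of_nef [IsIntegral X] {n : ℕ} (hdim : topologicalKrullDim X = n) {L H : X.Modules}
    (hL : PicF.IsInvertible L) (hn : Nakai.Nef k L) (hH : CohB1.IsAmple H) {r : Polynomial ℚ}
    (hr : r.natDegree ≤ n) (hrn : ∀ m, Snapper.χ k L (Coh.structureModule X) m = r.eval (m : ℚ))
    (hpos : 0 < r.coeff n) :
    ∃ (ν : ℕ) (B : X.Modules) (φ : B ⟶ CohB1.tensorPow L ν), 0 < ν ∧ CohB1.IsAmple B ∧ Mono φ := by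
  haveI := CurveCohLib.isNoetherian_of_proper (k := k) (X := X)
  rcases Nat.eq_zero_or_pos n with rfl | hn0
  · exact exists_ample_mono k hdim hH hL fun e he => absurd he (Nat.succ_ne_zero e).symm
  obtain ⟨e, rfl⟩ := Nat.exists_eq_add_of_le' hn0
  obtain ⟨A, hA, hG⟩ := exists_gen_ample k hH
  obtain ⟨D, hD, ⟨δ⟩⟩ := H23.PicInv.exists_inverse hA.1
  have hAD : PicF.cl A * PicF.cl D = 1 := by rw [← cl_tensor, cl_eq_iff.2 ⟨δ⟩, H23.PicMul.one_def]
  obtain ⟨s, hs⟩ : ∃ s : Coh.structureModule X ⟶ A, s ≠ 0 := by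
    obtain ⟨t, ht⟩ := hG X (𝟙 X) inferInstance inferInstance
    exact ⟨t ≫ ((Scheme.Modules.pullbackId X).app A).hom, fun h => ht (by
      rw [← cancel_mono ((Scheme.Modules.pullbackId X).app A).hom, h, zero_comp])⟩
  haveI : Mono s := InvEnd.mono_of_ne_zero CurveDeg.isInvertible_structureModule hA.1 s hs
  let Q := cokernel s
  have hQ : Coh.IsCoh Q := QCoh.isCoh_cokernel QCoh.isQCoh_structureModule (AmpleVan.isCoh_invertible hA.1) s
  let T : Closeds X := ⟨_, QCoh.isClosed_support_of_isFT hQ.1 hQ.2⟩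
  have hTd : topologicalKrullDim ↥(T : Set X) ≤ (e : WithBot ℕ∞) := by
    have hne : (T : Set X) ≠ Set.univ := fun h => by
      obtain ⟨x, hx⟩ := Nakai.genLocus_nonempty hA.1 s hs
      exact Nakai.support_cokernel_subset hA.1 s (h.ge (Set.mem_univ x)) hx
    have hlt := H23.TopDim.dim_lt_of_ssubset (Nakai.ne_top_of_dim_eq hdim) T.isClosed hne
    rw [hdim] at hlt
    exact Nakai.le_pred_of_lt hlt
  obtain ⟨C, hC⟩ := bound₂_coh k hL hA hG hD hAD hQ (T := T) subset_rfl hTd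
  obtain ⟨c, hc, hcn⟩ := exists_mixed_top k hdim hL hn hA
  rw [coeff_comb k hc hr hrn] at hpos
  have hstep : ∀ a b i, h0 k (W L A D a b i) ≤ h0 k (W L A D a b (i + 1)) + C * (a + b + 1) ^ e := by
    intro a b i
    have hR := isInvertible_W hL hA.1 hD a b (i + 1)
    have h := h0_add_tw k (S := ShortComplex.mk s (cokernel.π s) (cokernel.condition s)) (shortExact_cokernel s) hR
      (AmpleVan.isCoh_invertible hA.1) hQ
    simp only at h
    refine le_of_eq_of_le (h0_congr_cl k ?_) (h.trans (Nat.add_le_add (le_of_eq (h0_congr_cl k ?_)) (hC a b (i + 1))))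
    · rw [cl_tensor, cl_W, cl_W, pow_succ']
      calc PicF.cl L ^ a * PicF.cl A ^ b * PicF.cl D ^ i
          = (PicF.cl A * PicF.cl D) * (PicF.cl L ^ a * PicF.cl A ^ b * PicF.cl D ^ i) := by rw [hAD, one_mul]
        _ = _ := by ac_rfl
    · rw [cl_tensor, one_mul_cl]
  have hchain : ∀ a b i, h0 k (W L A D a b 0) ≤ h0 k (W L A D a b i) + i * (C * (a + b + 1) ^ e) := by
    intro a b i
    induction i with
    | zero => simp
    | succ i ih =>
      rw [Nat.succ_mul]
      have := hstep a b i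
      omega
  obtain ⟨q, hq⟩ := exists_nat_gt (4 * ((C : ℚ) * 3 ^ e) / c (e + 1))
  have hq0 : 1 ≤ q := by
    have : (0 : ℚ) < q := lt_of_le_of_lt (by positivity) hq
    exact_mod_cast this
  obtain ⟨p, hp, hpc, j₀, hj₀⟩ := exists_poly_comb k hdim hL hn hA hc q
  have hform : c (e + 1) * (q : ℚ) ^ (e + 1) ≤ p.coeff (e + 1) := by
    rw [hpc, Nakai.form]
    refine le_trans (le_of_eq ?_) (Finset.single_le_sum (f := fun i => c i * (q : ℚ) ^ i * (1 : ℚ) ^ (e + 1 - i))
      (fun i hi => ?_) (Finset.mem_range.2 (Nat.lt_succ_self (e + 1))))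
    · simp
    · have := hcn i (Nat.lt_succ_iff.1 (Finset.mem_range.1 hi))
      positivity
  obtain ⟨t₀, ht₀⟩ := exists_lower_eval hp (lt_of_lt_of_le (by positivity) hform)
  let j := max (max j₀ t₀) 1
  have hj1 : 1 ≤ j := le_max_right _ _
  have h1 : c (e + 1) / 2 * ((q : ℚ) ^ (e + 1) * (j : ℚ) ^ (e + 1)) ≤ (h0 k (W L A D (q * j) j 0) : ℚ) := by
    refine le_trans ?_ ((ht₀ j ((le_max_right j₀ t₀).trans (le_max_left _ 1))).trans (le_of_eq ?_))
    · nlinarith [pow_nonneg (Nat.cast_nonneg (α := ℚ) j) (e + 1)]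
    · rw [← hj₀ j ((le_max_left j₀ t₀).trans (le_max_left _ 1))]
      refine congrArg Nat.cast (h0_congr_cl k ?_)
      rw [cl_W, cl_tensor, cl_tensorPow, cl_tensorPow, pow_zero, mul_one]
  have h2 : ((j + 1) * (C * (q * j + j + 1) ^ e) : ℕ) ≤ 2 * (C * 3 ^ e) * (q ^ e * j ^ (e + 1)) := by
    have h3 : (q * j + j + 1) ^ e ≤ 3 ^ e * (q ^ e * j ^ e) := by
      rw [← mul_pow, ← mul_pow]
      exact Nat.pow_le_pow_left (by nlinarith) e
    calc (j + 1) * (C * (q * j + j + 1) ^ e) ≤ (2 * j) * (C * (3 ^ e * (q ^ e * j ^ e))) :=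
          Nat.mul_le_mul (by omega) (Nat.mul_le_mul_left C h3)
      _ = _ := by ring
  have hpos' : 0 < h0 k (W L A D (q * j) j (j + 1)) := by
    by_contra h0'
    have h3 := hchain (q * j) j (j + 1)
    rw [Nat.eq_zero_of_not_pos h0', Nat.zero_add] at h3
    have h4 : (h0 k (W L A D (q * j) j 0) : ℚ) ≤ 2 * ((C : ℚ) * 3 ^ e) * ((q : ℚ) ^ e * (j : ℚ) ^ (e + 1)) := by
      exact_mod_cast h3.trans h2
    have h5 := h1.trans h4
    rw [div_lt_iff₀ hpos] at hq
    have h6 : (0 : ℚ) < (q : ℚ) ^ e * (j : ℚ) ^ (e + 1) := by positivity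
    have h7 : c (e + 1) / 2 * q * ((q : ℚ) ^ e * (j : ℚ) ^ (e + 1)) ≤
        2 * ((C : ℚ) * 3 ^ e) * ((q : ℚ) ^ e * (j : ℚ) ^ (e + 1)) := le_trans (le_of_eq (by ring)) h5
    have h8 := le_of_mul_le_mul_right h7 h6
    linarith
  have hW := isInvertible_W hL hA.1 hD (q * j) j (j + 1)
  obtain ⟨u, hu⟩ := exists_hom_of_h0_pos k hpos'
  haveI : Mono u := InvEnd.mono_of_ne_zero CurveDeg.isInvertible_structureModule hW u hu
  haveI := mono_tw hA.1 u
  obtain ⟨α⟩ : Nonempty (A ≅ (AmpleVan.tw A).obj (Coh.structureModule X)) := cl_eq_iff.1 (by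
    show _ = PicF.cl (CohB1.tensorMod _ _)
    rw [cl_tensor, one_mul_cl])
  obtain ⟨β⟩ : Nonempty ((AmpleVan.tw A).obj (W L A D (q * j) j (j + 1)) ≅ CohB1.tensorPow L (q * j)) :=
    cl_eq_iff.1 (by
      show PicF.cl (CohB1.tensorMod _ _) = _
      rw [cl_tensor, cl_W, cl_tensorPow]
      calc PicF.cl L ^ (q * j) * PicF.cl A ^ j * PicF.cl D ^ (j + 1) * PicF.cl A
          = PicF.cl L ^ (q * j) * (PicF.cl A ^ (j + 1) * PicF.cl D ^ (j + 1)) := by rw [pow_succ (PicF.cl A)]; ac_rfl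
        _ = _ := by rw [← mul_pow, hAD, one_pow, mul_one])
  exact ⟨q * j, A, α.hom ≫ (AmpleVan.tw A).map u ≫ β.hom, Nat.mul_pos hq0 hj1, hA, inferInstance⟩

include k in
/-- A big nef module has positive top number. -/
theorem coeff_pos_of_mono [IsIntegral X] {n : ℕ} (hdim : topologicalKrullDim X = n) {L H : X.Modules}
    (hL : PicF.IsInvertible L) (hn : Nakai.Nef k L) (hH : CohB1.IsAmple H) {ν : ℕ} (hν : 0 < ν)
    (φ : H ⟶ CohB1.tensorPow L ν) [Mono φ] {r : Polynomial ℚ} (hr : r.natDegree ≤ n)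
    (hrn : ∀ m, Snapper.χ k L (Coh.structureModule X) m = r.eval (m : ℚ)) : 0 < r.coeff n := by
  obtain ⟨A, hA, hG⟩ := exists_gen_ample k hH
  obtain ⟨t, ht⟩ := hG X (𝟙 X) inferInstance inferInstance
  let s := t ≫ ((Scheme.Modules.pullbackId X).app A).hom
  have hs : s ≠ 0 := fun h => ht (by
    rw [← cancel_mono ((Scheme.Modules.pullbackId X).app A).hom, zero_comp]
    exact h)
  obtain ⟨c, hc, hcn⟩ := exists_mixed_top k hdim hL hn hA
  rw [coeff_comb k hc hr hrn]
  obtain ⟨μ, hμ, n₀, hlow⟩ := exists_lower_all k hdim hH hL hν φ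
  have key : ∀ q : ℕ, 1 ≤ q → μ * (q : ℚ) ^ n ≤ Nakai.form c n q 1 := by
    intro q hq
    obtain ⟨p, hp, hpc, j₀, hj₀⟩ := exists_poly_comb k hdim hL hn hA hc q
    rw [← hpc]
    by_contra hlt
    rw [not_le] at hlt
    let g := Polynomial.C (μ * (q : ℚ) ^ n) * Polynomial.X ^ n - p
    have hgd : g.natDegree ≤ n :=
      (Polynomial.natDegree_sub_le _ _).trans (max_le (Polynomial.natDegree_C_mul_X_pow_le _ _) hp)
    have hgc : 0 < g.coeff n := by
      simp only [g, Polynomial.coeff_sub, Polynomial.coeff_C_mul_X_pow, if_true]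
      linarith
    obtain ⟨t₀, ht₀⟩ := exists_lower_eval hgd hgc
    let j := max (max j₀ t₀) (max n₀ 1)
    have hjn : n₀ ≤ q * j := le_trans ((le_max_left n₀ 1).trans (le_max_right _ _)) (Nat.le_mul_of_pos_left j hq)
    have h1 := hlow (q * j) hjn
    have hP := InvX.isInvertible_tensorPow hL (q * j)
    have h2 : (h0 k (CohB1.tensorPow L (q * j)) : ℚ) ≤ p.eval (j : ℚ) := by
      rw [← hj₀ j ((le_max_left j₀ t₀).trans (le_max_left _ _))]
      refine Nat.cast_le.2 ((h0_le_twist_pow k hA.1 hP s hs j).trans (le_of_eq (h0_congr_cl k ?_)))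
      rw [cl_tensor, cl_tensor, mul_comm]
    have h3 := ht₀ j ((le_max_right j₀ t₀).trans (le_max_left _ _))
    have hgev : g.eval (j : ℚ) = μ * (q : ℚ) ^ n * (j : ℚ) ^ n - p.eval (j : ℚ) := by simp [g]
    have hj : (0 : ℚ) < (j : ℚ) ^ n :=
      pow_pos (Nat.cast_pos.2 ((le_max_right n₀ 1).trans (le_max_right _ _))) n
    rw [Nat.cast_mul, mul_pow, ← mul_assoc] at h1
    nlinarith [mul_pos (half_pos hgc) hj]
  rcases Nat.eq_zero_or_pos n with rfl | hn0
  · have := key 1 le_rfl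
    simp [Nakai.form] at this
    linarith
  obtain ⟨e, rfl⟩ := Nat.exists_eq_add_of_le' hn0
  by_contra h0'
  rw [not_lt] at h0'
  obtain ⟨q, hq⟩ := exists_nat_gt ((∑ i ∈ Finset.range (e + 1), c i) / μ)
  have hS : 0 ≤ ∑ i ∈ Finset.range (e + 1), c i :=
    Finset.sum_nonneg fun i hi => hcn i (le_of_lt (Finset.mem_range.1 hi))
  have hqpos : (0 : ℚ) < q := lt_of_le_of_lt (by positivity) hq
  have hq1 : 1 ≤ q := by exact_mod_cast hqpos
  have h := key q hq1
  rw [Nakai.form, Finset.sum_range_succ] at h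
  have h9 : ∑ i ∈ Finset.range (e + 1), c i * (q : ℚ) ^ i * (1 : ℚ) ^ (e + 1 - i) ≤
      (∑ i ∈ Finset.range (e + 1), c i) * (q : ℚ) ^ e := by
    rw [Finset.sum_mul]
    refine Finset.sum_le_sum fun i hi => ?_
    rw [one_pow, mul_one]
    exact mul_le_mul_of_nonneg_left (pow_le_pow_right₀ (by exact_mod_cast hq1) (Nat.lt_succ_iff.1 (Finset.mem_range.1 hi)))
      (hcn i (le_of_lt (Finset.mem_range.1 hi)))
  rw [div_lt_iff₀ hμ] at hq
  have hqe : (0 : ℚ) < (q : ℚ) ^ e := by positivity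
  have h10 : c (e + 1) * (q : ℚ) ^ (e + 1) * (1 : ℚ) ^ (e + 1 - (e + 1)) ≤ 0 := by
    simp only [Nat.sub_self, pow_zero, mul_one]
    exact mul_nonpos_of_nonpos_of_nonneg h0' (by positivity)
  have h11 : μ * (q : ℚ) * (q : ℚ) ^ e ≤ (∑ i ∈ Finset.range (e + 1), c i) * (q : ℚ) ^ e := by
    have : μ * (q : ℚ) * (q : ℚ) ^ e = μ * (q : ℚ) ^ (e + 1) := by ring
    linarith
  have h12 := le_of_mul_le_mul_right h11 hqe
  linarith

end Groth.Agent.Big
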