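import Groth.Agent.Big.NefBig

/-!
# The growth is bounded by the numerical dimension
-/

set_option autoImplicit false
set_option linter.style.haveILetI false
set_option linter.unusedSectionVars false
set_option backward.isDefEq.respectTransparency false
set_option backward.isDefEq.respectTransparency.types false
set_option maxHeartbeats 1000000

universe u

open CategoryTheory CategoryTheory.Limits AlgebraicGeometry TopologicalSpace Opposite
open Groth.Agent.H23.PicMul

noncomputable section

namespace Groth.Agent.Big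

open Groth.Agent

variable (k : Type u) [Field k] {X : Scheme.{u}} [X.Over (Spec (CommRingCat.of k))]

/-- `(L^d · V) = 0` for all integral closed `V` of dimension `d`. -/
def TopZero (L : X.Modules) (d : ℕ) : Prop :=
  ∀ (V : Scheme.{u}) (i : V ⟶ X), IsClosedImmersion i → IsIntegral V → topologicalKrullDim V = (d : ℕ) →
    ∀ q : Polynomial ℚ, q.natDegree ≤ d →
      (∀ n, Snapper.χ k L ((Coh.push i).obj (Coh.structureModule V)) n = q.eval (n : ℚ)) → q.coeff d = 0

theorem TopZero.pullback {W : Scheme.{u}} [W.Over (Spec (CommRingCat.of k))] (i : W ⟶ X) [IsClosedImmersion i]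
    (hi : i ≫ (X ↘ Spec (CommRingCat.of k)) = W ↘ Spec (CommRingCat.of k)) {L : X.Modules}
    (hL : PicF.IsInvertible L) {d : ℕ} (h : TopZero k L d) : TopZero k ((Scheme.Modules.pullback i).obj L) d := by
  intro Z j hj hZ hdim q hq hqn
  haveI := hj
  refine h Z (j ≫ i) inferInstance hZ hdim q hq fun n => ?_
  let e : (Coh.push i).obj ((Coh.push j).obj (Coh.structureModule Z)) ≅ (Coh.push (j ≫ i)).obj (Coh.structureModule Z) :=
    (Scheme.Modules.pushforwardComp j i).app _
  refine ((Nakai.χ_congr k e n).symm.trans ?_).trans (hqn n)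
  exact Nakai.χ_push k i hi hL (QCoh.isQCoh_pushforward j QCoh.isQCoh_structureModule) n

variable [IsProper (X ↘ Spec (CommRingCat.of k))]

theorem coeff_eq_zero_of_components {L : X.Modules} (hL : PicF.IsInvertible L) {M : X.Modules} (hM : Coh.IsCoh M)
    {C : Closeds X} {d : ℕ} (hC : topologicalKrullDim ↥(C : Set X) ≤ d) (hMC : CohB1.support M ⊆ C)
    (h : TopZero k L d) {q : Polynomial ℚ} (hqn : ∀ n, Snapper.χ k L M n = q.eval (n : ℚ)) : q.coeff d = 0 := by
  classical
  haveI := CurveCohLib.isNoetherian_of_proper (k := k) (X := X)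
  have hfin := Snapper.finite_topPts hC
  obtain ⟨R, hR, hRn⟩ := Nakai.isPolyLt_of_mpoly (Snapper.isMPolyLt_sub_components k (L := fun _ : Fin 1 => L)
    (fun _ => hL) hM hC hMC hfin.toFinset fun _ => hfin.mem_toFinset)
  have hcl : ∀ ξ : X, topologicalKrullDim (closure ({ξ} : Set X)) = (d : WithBot ℕ∞) →
      ∃ p : Polynomial ℚ, p.natDegree ≤ d ∧ ∀ n, Snapper.χ k L (Snapper.clMod ξ) n = p.eval (n : ℚ) := fun ξ hξ => by
    refine Nakai.exists_poly k (C := ⟨closure ({ξ} : Set X), isClosed_closure⟩) hL (QCoh.isCoh_push_structure _) ?_ hξ.le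
    refine (QCoh.support_push_subset _ QCoh.isQCoh_structureModule).trans ?_
    rw [H23.RedSub.range_vanishingIdeal]
  choose p hp hpn using hcl
  let p' : X → Polynomial ℚ := fun ξ =>
    if h : topologicalKrullDim (closure ({ξ} : Set X)) = (d : WithBot ℕ∞) then p ξ h else 0
  have hp' : ∀ ξ, topologicalKrullDim (closure ({ξ} : Set X)) = (d : WithBot ℕ∞) → (p' ξ).coeff d = 0 ∧
      ∀ n, Snapper.χ k L (Snapper.clMod ξ) n = (p' ξ).eval (n : ℚ) := fun ξ hξ => by
    simp only [p', dif_pos hξ]
    let W := Scheme.IdealSheafData.vanishingIdeal (⟨closure ({ξ} : Set X), isClosed_closure⟩ : Closeds X)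
    haveI : IsIntegral W.subscheme := QCoh.isIntegral_closure_point ξ
    refine ⟨h W.subscheme W.subschemeι inferInstance inferInstance ?_ _ (hp ξ hξ) (hpn ξ hξ), hpn ξ hξ⟩
    rw [AmpleDev.dim_eq_one_of_closedImmersion W.subschemeι (H23.RedSub.range_vanishingIdeal _)]
    exact hξ
  have heq : q = R + ∑ ξ ∈ hfin.toFinset, Polynomial.C (Snapper.len M ξ) * p' ξ :=
    Polynomial.eq_of_infinite_eval_eq _ _ ((Set.infinite_range_of_injective (Nat.cast_injective (R := ℚ))).mono (by
      rintro _ ⟨n, rfl⟩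
      show Polynomial.eval _ _ = Polynomial.eval _ _
      rw [Polynomial.eval_add, Polynomial.eval_finsetSum, ← hqn n, ← hRn n]
      rw [Finset.sum_congr rfl fun ξ hξ => by
        rw [Polynomial.eval_mul, Polynomial.eval_C, ← (hp' ξ (hfin.mem_toFinset.1 hξ).2).2 n]]
      exact (sub_add_cancel _ _).symm))
  rw [heq, Polynomial.coeff_add, Polynomial.coeff_eq_zero_of_degree_lt hR, zero_add, Polynomial.finsetSum_coeff]
  refine Finset.sum_eq_zero fun ξ hξ => ?_
  rw [Polynomial.coeff_C_mul, (hp' ξ (hfin.mem_toFinset.1 hξ).2).1, mul_zero]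

include k in
/-- The top number propagates upwards. -/
theorem coeff_eq_zero_of_topZero : ∀ (e : ℕ) {X : Scheme.{u}} [X.Over (Spec (CommRingCat.of k))]
    [IsProper (X ↘ Spec (CommRingCat.of k))] [IsIntegral X], topologicalKrullDim X = e →
    ∀ (H L : X.Modules), CohB1.IsAmple H → PicF.IsInvertible L → Nakai.Nef k L → ∀ m : ℕ, m ≤ e → TopZero k L m →
    ∀ q : Polynomial ℚ, q.natDegree ≤ e →
      (∀ n, Snapper.χ k L (Coh.structureModule X) n = q.eval (n : ℚ)) → q.coeff e = 0 := by
  intro e
  induction e with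
  | zero =>
    intro X _ _ _ hdim H L hH hL hn m hme h q hq hqn
    obtain rfl : m = 0 := Nat.le_zero.1 hme
    exact h X (𝟙 X) inferInstance inferInstance hdim q hq fun n => (Nakai.χ_structure k n).symm.trans (hqn n)
  | succ e ih =>
    intro X _ _ _ hdim H L hH hL hn m hme h q hq hqn
    rcases hme.lt_or_eq with hlt | rfl
    swap
    · exact h X (𝟙 X) inferInstance inferInstance hdim q hq fun n => (Nakai.χ_structure k n).symm.trans (hqn n)
    haveI := CurveCohLib.isNoetherian_of_proper (k := k) (X := X)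
    obtain ⟨c, hc, hcn⟩ := exists_mixed_top k hdim hL hn hH
    have hnonneg : 0 ≤ q.coeff (e + 1) := by rw [coeff_comb k hc hq hqn]; exact hcn _ le_rfl
    by_contra hne
    obtain ⟨ν, B, φ, hν, hB, hφ⟩ := exists_ample_mono_of_nef k hdim hL hn hH hq hqn (lt_of_le_of_ne hnonneg (Ne.symm hne))
    haveI := hφ
    obtain ⟨a, ha, t, ht⟩ := exists_section_twist k hdim.le hB CurveDeg.isInvertible_structureModule
    have hLν := InvX.isInvertible_tensorPow hL ν
    have hT := InvX.isInvertible_tensorPow hL (ν * a)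
    obtain ⟨s, hs⟩ : ∃ s : Coh.structureModule X ⟶ CohB1.tensorPow L (ν * a), s ≠ 0 := by
      refine exists_hom_of_h0_pos k (lt_of_lt_of_le ?_ (le_trans
        (h0_le_pow_twist k hB.1 hL (CurveDeg.isInvertible_structureModule (X := X)) φ a)
        (le_of_eq (h0_congr_cl k (by rw [cl_tensor, one_mul_cl])))))
      have hTB := InvX.isInvertible_tensorMod (CurveDeg.isInvertible_structureModule (X := X))
        (InvX.isInvertible_tensorPow hB.1 a)
      haveI : Mono t := InvEnd.mono_of_ne_zero CurveDeg.isInvertible_structureModule hTB t ht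
      refine lt_of_lt_of_le ?_ (h0_le_of_mono k t (AmpleVan.isCoh_invertible hTB))
      haveI := CurveCohLib.finite_HH (k := k) (QCoh.isCoh_structureModule' (X := X)) 0
      haveI : Nontrivial (Coh.HH X (Coh.structureModule X) 0) :=
        ⟨⟨(Sheaf.H.equiv₀ (Coh.toAb (Coh.structureModule X)) isTerminalTop).symm (1 : Γ(X, ⊤)), 0, fun h =>
          one_ne_zero (α := Γ(X, ⊤)) (((Sheaf.H.equiv₀ (Coh.toAb (Coh.structureModule X)) isTerminalTop).symm.injective
            (h.trans (map_zero _).symm)))⟩⟩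
      exact Module.finrank_pos
    haveI : Mono s := InvEnd.mono_of_ne_zero CurveDeg.isInvertible_structureModule hT s hs
    have hQ : Coh.IsCoh (cokernel s) :=
      QCoh.isCoh_cokernel QCoh.isQCoh_structureModule (AmpleVan.isCoh_invertible hT) s
    let T : Closeds X := ⟨_, QCoh.isClosed_support_of_isFT hQ.1 hQ.2⟩
    have hTd : topologicalKrullDim ↥(T : Set X) ≤ (e : WithBot ℕ∞) := by
      have hne : (T : Set X) ≠ Set.univ := fun h => by
        obtain ⟨x, hx⟩ := Nakai.genLocus_nonempty hT s hs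
        exact Nakai.support_cokernel_subset hT s (h.ge (Set.mem_univ x)) hx
      have hlt := H23.TopDim.dim_lt_of_ssubset (Nakai.ne_top_of_dim_eq hdim) T.isClosed hne
      rw [hdim] at hlt
      exact Nakai.le_pred_of_lt hlt
    have hZ : TopZero k L e := by
      intro V i hi hV hVd p hp hpn
      haveI := hi
      haveI := hV
      letI : V.Over (Spec (CommRingCat.of k)) := ⟨i ≫ (X ↘ Spec (CommRingCat.of k))⟩
      haveI : IsProper (V ↘ Spec (CommRingCat.of k)) :=
        inferInstanceAs (IsProper (i ≫ (X ↘ Spec (CommRingCat.of k))))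
      exact ih hVd _ _ (AmpleDev.isAmple_pullback_finite k i hH) (PicClLib.isInvertible_pullback i hL)
        (hn.pullback k i rfl hL) m (Nat.lt_succ_iff.1 hlt) (h.pullback k i rfl hL) p hp fun n =>
          (Nakai.χ_push k i rfl hL QCoh.isQCoh_structureModule n).symm.trans (hpn n)
    obtain ⟨p, hp, hpn⟩ := Nakai.exists_poly k hL hQ (C := T) subset_rfl hTd
    have hp0 := coeff_eq_zero_of_components k hL hQ (C := T) hTd subset_rfl hZ hpn
    have hrel : p = q.comp (Polynomial.X + Polynomial.C ((ν * a : ℕ) : ℚ)) - q :=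
      Polynomial.eq_of_infinite_eval_eq _ _ ((Set.infinite_range_of_injective (Nat.cast_injective (R := ℚ))).mono (by
        rintro _ ⟨n, rfl⟩
        show p.eval (n : ℚ) = (q.comp (Polynomial.X + Polynomial.C ((ν * a : ℕ) : ℚ)) - q).eval (n : ℚ)
        have hadd := congrFun (Snapper.χ_add k hL
          (S := ShortComplex.mk s (cokernel.π s) (cokernel.condition s)) (shortExact_cokernel s)
          (QCoh.isCoh_structureModule' (X := X)) (AmpleVan.isCoh_invertible hT) hQ) n
        simp only [Pi.add_apply] at hadd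
        have h2 : Snapper.χ k L (CohB1.tensorPow L (ν * a)) n = q.eval ((n + ν * a : ℕ) : ℚ) := by
          rw [← hqn (n + ν * a)]
          refine congrArg Int.cast (CurveCohLib.euler_congr (k := k) ((cl_eq_iff.1 ?_).some))
          show PicF.cl (CohB1.tensorMod (CohB1.tensorPow L (ν * a)) (CohB1.tensorPow L n)) =
            PicF.cl (CohB1.tensorMod (Coh.structureModule X) (CohB1.tensorPow L (n + ν * a)))
          rw [cl_tensor, cl_tensor, one_mul_cl, cl_tensorPow, cl_tensorPow, cl_tensorPow, pow_add, mul_comm]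
        rw [h2, hqn n, hpn n, Nat.cast_add] at hadd
        simp only [Polynomial.eval_sub, Polynomial.eval_comp, Polynomial.eval_add, Polynomial.eval_X, Polynomial.eval_C]
        linarith))
    rw [hrel, Nakai.coeff_comp_sub q hq] at hp0
    have hνa : ((ν * a : ℕ) : ℚ) ≠ 0 := Nat.cast_ne_zero.2 (Nat.mul_pos hν ha).ne'
    simp only [mul_eq_zero] at hp0
    rcases hp0 with (h1 | h1) | h1 <;> first | exact hne h1 | exact hνa h1 | exact Nat.cast_add_one_ne_zero e h1

include k in
/-- `h⁰(M ⊗ Lᵃ) = O(aʲ)` if `L` is nef with `L^(j+1)` numerically trivial. -/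
theorem bound_of_topZero : ∀ (e : ℕ) {X : Scheme.{u}} [X.Over (Spec (CommRingCat.of k))]
    [IsProper (X ↘ Spec (CommRingCat.of k))] (H L : X.Modules), CohB1.IsAmple H → PicF.IsInvertible L →
    Nakai.Nef k L → ∀ j : ℕ, TopZero k L (j + 1) → ∀ (M : X.Modules), Coh.IsCoh M → ∀ T : Closeds X,
    CohB1.support M ⊆ T → topologicalKrullDim ↥(T : Set X) ≤ e → Bound k L j M := by
  intro e
  induction e using Nat.strong_induction_on with
  | _ e ih =>
    intro X _ _ H L hH hL hn j hz M hM T hMT hd
    rcases Nat.lt_or_ge e (j + 1) with hej | hej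
    · exact bound_coh k hH hL hM hMT (hd.trans (by exact_mod_cast Nat.lt_succ_iff.1 hej))
    haveI := CurveCohLib.isNoetherian_of_proper (k := k) (X := X)
    refine QCoh.devissage_ideals (Bound k L j) (fun M N ⟨e⟩ hP => hP.of_iso k e)
      (fun M h0 => Bound.zero k hL h0) (T : Set X)
      (fun S hS _ h2 h3 p1 p3 => Bound.ext k hL hS h2 h3 p1 p3) ?_ hM hMT
    intro ξ hξT _ Z i _ hZ hr I ι hι hI _
    letI : Z.Over (Spec (CommRingCat.of k)) := ⟨i ≫ (X ↘ Spec (CommRingCat.of k))⟩
    haveI : IsProper (Z ↘ Spec (CommRingCat.of k)) :=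
      inferInstanceAs (IsProper (i ≫ (X ↘ Spec (CommRingCat.of k))))
    haveI := CurveCohLib.isNoetherian_of_proper (k := k) (X := Z)
    haveI := hι
    have hdim : topologicalKrullDim Z ≤ e := dim_le_of_range i (hr.le.trans hξT) hd
    have hLi := PicClLib.isInvertible_pullback i hL
    have hHi := AmpleDev.isAmple_pullback_finite k i hH
    have hni := hn.pullback k i rfl hL
    have hzi := hz.pullback k i rfl hL
    have hZb : Bound k ((Scheme.Modules.pullback i).obj L) j (Coh.structureModule Z) := by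
      generalize (Scheme.Modules.pullback i).obj L = LZ at hLi hni hzi
      obtain ⟨d', hd'e, hd'⟩ := dim_nat_of_le hdim
      rcases Nat.lt_or_ge d' (j + 1) with hdj | hdj
      · exact bound_invertible k (hd'.le.trans (by exact_mod_cast Nat.lt_succ_iff.1 hdj)) hHi hLi
      obtain ⟨q, hq, hqn⟩ := Nakai.exists_poly k hLi (QCoh.isCoh_structureModule' (X := Z)) (C := (⊤ : Closeds Z))
        (fun x _ => trivial) (Nakai.dim_univ_le hd')
      have hq0 := coeff_eq_zero_of_topZero k d' hd' _ LZ hHi hLi hni (j + 1) hdj hzi q hq hqn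
      obtain ⟨A, hA, hG⟩ := exists_gen_ample k hHi
      obtain ⟨D, hD, ⟨δ⟩⟩ := H23.PicInv.exists_inverse hA.1
      have hAD : PicF.cl A * PicF.cl D = 1 := by rw [← cl_tensor, cl_eq_iff.2 ⟨δ⟩, H23.PicMul.one_def]
      obtain ⟨t, ht⟩ := hG Z (𝟙 Z) inferInstance inferInstance
      obtain ⟨s, hs⟩ : ∃ s : Coh.structureModule Z ⟶ A, s ≠ 0 :=
        ⟨t ≫ ((Scheme.Modules.pullbackId Z).app A).hom, fun h => ht (by
          rw [← cancel_mono ((Scheme.Modules.pullbackId Z).app A).hom, h, zero_comp])⟩
      have hnone : ∀ a, 0 < a → h0 k (CohB1.tensorMod D (CohB1.tensorPow LZ a)) = 0 := by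
        intro a ha
        by_contra hne
        have hDL := InvX.isInvertible_tensorMod hD (InvX.isInvertible_tensorPow hLi a)
        obtain ⟨u, hu⟩ := exists_hom_of_h0_pos k (Nat.pos_of_ne_zero hne)
        haveI : Mono u := InvEnd.mono_of_ne_zero CurveDeg.isInvertible_structureModule hDL u hu
        haveI := mono_tw hA.1 u
        obtain ⟨α⟩ : Nonempty (A ≅ (AmpleVan.tw A).obj (Coh.structureModule Z)) := cl_eq_iff.1 (by
          show _ = PicF.cl (CohB1.tensorMod _ _)
          rw [cl_tensor, one_mul_cl])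
        obtain ⟨β⟩ : Nonempty ((AmpleVan.tw A).obj (CohB1.tensorMod D (CohB1.tensorPow LZ a)) ≅ CohB1.tensorPow LZ a) :=
          cl_eq_iff.1 (by
            show PicF.cl (CohB1.tensorMod _ _) = _
            rw [cl_tensor, cl_tensor, mul_comm, ← mul_assoc, hAD, one_mul])
        exact (coeff_pos_of_mono k hd' hLi hni hA ha (α.hom ≫ (AmpleVan.tw A).map u ≫ β.hom) hq hqn).ne' hq0
      haveI : Mono s := InvEnd.mono_of_ne_zero CurveDeg.isInvertible_structureModule hA.1 s hs
      have hQ : Coh.IsCoh (cokernel s) :=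
        QCoh.isCoh_cokernel QCoh.isQCoh_structureModule (AmpleVan.isCoh_invertible hA.1) s
      have hQD : Coh.IsCoh (CohB1.tensorMod (cokernel s) D) := AmpleVan.isCoh_tensor hQ (AmpleVan.isCoh_invertible hD)
      let T' : Closeds Z := ⟨_, QCoh.isClosed_support_of_isFT hQ.1 hQ.2⟩
      obtain ⟨e', rfl⟩ : ∃ e', d' = e' + 1 := ⟨d' - 1, by omega⟩
      have hTd : topologicalKrullDim ↥(T' : Set Z) ≤ (e' : WithBot ℕ∞) := by
        have hne : (T' : Set Z) ≠ Set.univ := fun h => by
          obtain ⟨x, hx⟩ := Nakai.genLocus_nonempty hA.1 s hs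
          exact Nakai.support_cokernel_subset hA.1 s (h.ge (Set.mem_univ x)) hx
        have hlt := H23.TopDim.dim_lt_of_ssubset (Nakai.ne_top_of_dim_eq hd') T'.isClosed hne
        rw [hd'] at hlt
        exact Nakai.le_pred_of_lt hlt
      obtain ⟨C, hC⟩ := ih e' (by omega) _ LZ hHi hLi hni j hzi _ hQD T'
        ((support_tensorMod_comm (ProjUPX.isQCoh_of_isInvertible hD) hQ.1).trans subset_rfl) hTd
      refine ⟨C + h0 k (CohB1.tensorMod (Coh.structureModule Z) (CohB1.tensorPow LZ 0)), fun a => ?_⟩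
      rcases Nat.eq_zero_or_pos a with rfl | ha
      · simp
      have hLa := InvX.isInvertible_tensorPow hLi a
      have hR := InvX.isInvertible_tensorMod hD hLa
      have h := h0_add_tw k (S := ShortComplex.mk s (cokernel.π s) (cokernel.condition s)) (shortExact_cokernel s) hR
        (AmpleVan.isCoh_invertible hA.1) hQ
      simp only at h
      obtain ⟨ω⟩ := tw_tw_iso (cokernel s) D (CohB1.tensorPow LZ a)
      rw [h0_congr_cl k (show PicF.cl (CohB1.tensorMod (Coh.structureModule Z) (CohB1.tensorMod D (CohB1.tensorPow LZ a))) =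
          PicF.cl (CohB1.tensorMod D (CohB1.tensorPow LZ a)) by rw [cl_tensor, one_mul_cl]), hnone a ha, Nat.zero_add,
        ← h0_congr k ω] at h
      refine le_trans (le_of_eq (h0_congr_cl k ?_)) ((h.trans (hC a)).trans (Nat.mul_le_mul_right _ (Nat.le_add_right _ _)))
      rw [cl_tensor, cl_tensor A, cl_tensor, ← mul_assoc, hAD, one_mul, one_mul_cl]
    obtain ⟨C, hC⟩ := Bound.of_mono k hLi ι QCoh.isCoh_structureModule' hZb
    refine ⟨C, fun m => le_of_eq_of_le ?_ (hC m)⟩
    have hP := InvX.isInvertible_tensorPow hL m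
    obtain ⟨e⟩ := AmpleDev.push_tensor_iso i hP I
    obtain ⟨ψ⟩ : Nonempty ((Scheme.Modules.pullback i).obj (CohB1.tensorPow L m) ≅
        CohB1.tensorPow ((Scheme.Modules.pullback i).obj L) m) := cl_eq_iff.1 (by
      show PicF.pullCl i (PicF.cl (CohB1.tensorPow L m)) = _
      rw [cl_tensorPow, cl_tensorPow, pullCl_pow]
      rfl)
    obtain ⟨l⟩ := PnCoh.exists_linearEquiv_push k i (rfl : i ≫ (X ↘ Spec (CommRingCat.of k)) = _)
      (KFlatLib.isQCoh_tensor hI (ProjUPX.isQCoh_of_isInvertible (PicClLib.isInvertible_pullback i hP))) 0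
    exact ((h0_congr k e).trans l.finrank_eq.symm).trans (h0_congr k (PicGrp.tensorModIso (Iso.refl I) ψ))

end Groth.Agent.Big
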