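import Groth.Agent.Big.NumEq

/-!
# The symbol depends only on numerical classes
-/

set_option autoImplicit false
set_option linter.style.haveILetI false
set_option linter.unusedSectionVars false
set_option backward.isDefEq.respectTransparency false
set_option backward.isDefEq.respectTransparency.types false
set_option maxHeartbeats 1000000

universe u

open CategoryTheory CategoryTheory.Limits AlgebraicGeometry TopologicalSpace Opposite
open Groth.Agent.H23.PicMul

noncomputable section

namespace Groth.Agent.Big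

open Groth.Agent

variable (k : Type u) [Field k] {X : Scheme.{u}} [X.Over (Spec (CommRingCat.of k))]
  [IsProper (X ↘ Spec (CommRingCat.of k))] {r : ℕ}

include k in
/-- A map which is bijective off a subset changes the symbol only by modules on that subset. -/
theorem alt_eq_of_isoOn {N : Fin r → X.Modules} (hN : ∀ i, PicF.IsInvertible (N i)) {U : X.Opens} {C : Set X}
    (hsmall : ∀ G : X.Modules, Coh.IsCoh G → CohB1.support G ⊆ C \ U → alt k N G = 0) {A B : X.Modules}
    (hA : Coh.IsCoh A) (hB : Coh.IsCoh B) (hAC : CohB1.support A ⊆ C) (hBC : CohB1.support B ⊆ C) (φ : A ⟶ B)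
    (hφ : Snapper.IsoOn U φ) : alt k N A = alt k N B := by
  haveI := CurveCohLib.isNoetherian_of_proper (k := k) (X := X)
  obtain ⟨hk, hc⟩ := Snapper.support_subset_compl hφ
  obtain ⟨hk', hc'⟩ := Snapper.support_sub_of_map hA hB φ
  have h := Snapper.χs_map k hN hA hB φ
  have hsum : alt k N A + alt k N (cokernel φ) = alt k N B + alt k N (kernel φ) := by
    simp only [alt, ← Finset.sum_add_distrib, ← mul_add]
    exact Finset.sum_congr rfl fun f _ => congrArg (sgn f * ·) (congrFun h (cube f))
  rw [hsmall _ (QCoh.isCoh_cokernel hA.1 hB φ) fun x hx => ⟨hBC (hc' hx), hc hx⟩,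
    hsmall _ (QCoh.isCoh_kernel hA hB φ) fun x hx => ⟨hAC (hk' hx), hk hx⟩, add_zero, add_zero] at hsum
  exact hsum

include k in
/-- Tensoring with an invertible module over an integral subscheme. -/
theorem alt_tensor_clMod {N : Fin r → X.Modules} (hN : ∀ i, PicF.IsInvertible (N i)) {A : X.Modules}
    (hA : PicF.IsInvertible A) (ξ : X) {d : ℕ}
    (hd : topologicalKrullDim (closure ({ξ} : Set X)) ≤ ((d + 1 : ℕ) : WithBot ℕ∞))
    (hsmall : ∀ G : X.Modules, Coh.IsCoh G → topologicalKrullDim ↥(CohB1.support G) ≤ (d : ℕ) → alt k N G = 0) :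
    alt k N (CohB1.tensorMod (Snapper.clMod ξ) A) = alt k N (Snapper.clMod ξ) := by
  haveI := CurveCohLib.isNoetherian_of_proper (k := k) (X := X)
  let C : Closeds X := ⟨closure ({ξ} : Set X), isClosed_closure⟩
  let Z := Snapper.clMod ξ
  have hZ : Coh.IsCoh Z := QCoh.isCoh_push_structure _
  have hZC : CohB1.support Z ⊆ C := by
    refine (QCoh.support_push_subset _ QCoh.isQCoh_structureModule).trans ?_
    rw [H23.RedSub.range_vanishingIdeal]
  obtain ⟨U, hξ, e, he⟩ := InvX.exists_frame hA ξ
  have hsm : ∀ G : X.Modules, Coh.IsCoh G → CohB1.support G ⊆ (C : Set X) \ U → alt k N G = 0 := fun G hG hGs => by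
    refine hsmall G hG ((H23.TopDim.dim_le_dim_of_subset hGs).trans ?_)
    haveI : IrreducibleSpace ↥(C : Set X) := by
      exact Subtype.irreducibleSpace isIrreducible_singleton.closure
    let S : Set ↥(C : Set X) := Subtype.val ⁻¹' ((C : Set X) \ U)
    have hS : IsClosed S := (C.isClosed.sdiff U.2).preimage continuous_subtype_val
    have hne : S ≠ Set.univ := fun h => (h.ge (Set.mem_univ ⟨ξ, subset_closure rfl⟩)).2 hξ
    have htop : topologicalKrullDim ↥(C : Set X) ≠ ⊤ :=
      ne_top_of_le_ne_top (fun h => (ENat.natCast_ne_top (d + 1)) (WithBot.coe_eq_top.1 h)) hd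
    have hlt := H23.TopDim.dim_lt_of_ssubset htop hS hne
    have heq : topologicalKrullDim ↥((C : Set X) \ U) = topologicalKrullDim ↥S := by
      have := (Topology.IsEmbedding.subtypeVal.homeomorphImage S).isHomeomorph.topologicalKrullDim_eq
      rw [Set.image_preimage_eq_of_subset (by rw [Subtype.range_coe]; exact Set.diff_subset)] at this
      exact this.symm
    rw [heq]
    exact Nakai.le_pred_of_lt (lt_of_lt_of_le hlt hd)
  obtain ⟨K, I, a, b, c, hK, hI, ha, hb, hc⟩ := Snapper.exists_link_frame hA he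
  let F := AmpleVan.tw Z
  have hcoh : ∀ {G}, Coh.IsCoh G → Coh.IsCoh (F.obj G) := fun h => AmpleVan.isCoh_tensor h hZ
  have hsupp : ∀ G, CohB1.support (F.obj G) ⊆ C := fun G => fun x hx => hZC (CurveTensor.support_tensor_subset hx)
  have hAc := AmpleVan.isCoh_invertible hA
  have e1 := alt_eq_of_isoOn k hN hsm (hcoh hK) (hcoh QCoh.isCoh_structureModule') (hsupp _) (hsupp _) _ (ha.tensor Z)
  have e2 := alt_eq_of_isoOn k hN hsm (hcoh hK) (hcoh hI) (hsupp _) (hsupp _) _ (hb.tensor Z)
  have e3 := alt_eq_of_isoOn k hN hsm (hcoh hAc) (hcoh hI) (hsupp _) (hsupp _) _ (hc.tensor Z)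
  have f1 : alt k N (F.obj (Coh.structureModule X)) = alt k N Z := alt_congr_cl k (fun _ => rfl) (by
    show PicF.cl (CohB1.tensorMod _ _) = _
    rw [cl_tensor, one_mul_cl])
  have f2 : alt k N (F.obj A) = alt k N (CohB1.tensorMod Z A) := alt_congr_cl k (fun _ => rfl) (by
    show PicF.cl (CohB1.tensorMod _ _) = _
    rw [cl_tensor, cl_tensor, mul_comm])
  rw [← f1, ← f2, e3, ← e2, e1]

/-- Degree zero on every curve. -/
def NumTriv (D : X.Modules) : Prop :=
  ∀ (Y : Scheme.{u}) (ι : Y ⟶ X) [IsClosedImmersion ι], IsIntegral Y → topologicalKrullDim Y = 1 → cdeg k ι D = 0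

theorem len_eq_zero_or {F : X.Modules} (ξ : X) (a : ℚ) (h : ξ ∈ CohB1.support F → a = 0) :
    Snapper.len F ξ * a = 0 := by
  by_cases hξ : ξ ∈ CohB1.support F
  · rw [h hξ, mul_zero]
  · rw [Snapper.len_eq_zero hξ, zero_mul]

include k in
/-- A numerically trivial entry kills the symbol. -/
theorem alt_eq_zero_of_numTriv {D : X.Modules} (hD : PicF.IsInvertible D) (hnum : NumTriv k D) :
    ∀ (r : ℕ) (M : Fin r → X.Modules), (∀ i, PicF.IsInvertible (M i)) → ∀ F : X.Modules, Coh.IsCoh F →
      topologicalKrullDim ↥(CohB1.support F) ≤ (r + 1 : ℕ) → alt k (Fin.cons D M) F = 0 := by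
  classical
  haveI := CurveCohLib.isNoetherian_of_proper (k := k) (X := X)
  intro r
  induction r with
  | zero =>
    intro M hM F hF hr
    let C : Closeds X := ⟨_, QCoh.isClosed_support_of_isFT hF.1 hF.2⟩
    have hfin := Snapper.finite_topPts (C := C) hr
    rw [alt_components k (Fin.cases hD hM) hF (C := C) hr subset_rfl hfin.toFinset fun ξ => hfin.mem_toFinset]
    refine Finset.sum_eq_zero fun ξ hξ => mul_eq_zero_of_right _ ?_
    let W := Scheme.IdealSheafData.vanishingIdeal (⟨closure ({ξ} : Set X), isClosed_closure⟩ : Closeds X)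
    haveI : IsIntegral W.subscheme := QCoh.isIntegral_closure_point ξ
    have hd : topologicalKrullDim W.subscheme = 1 :=
      ((AmpleDev.dim_eq_one_of_closedImmersion W.subschemeι (H23.RedSub.range_vanishingIdeal _)).trans
        (hfin.mem_toFinset.1 hξ).2).trans Nat.cast_one
    have h := hnum W.subscheme W.subschemeι inferInstance hd
    rw [cdeg, neg_eq_zero] at h
    rw [← h]
    exact alt_congr_cl k (fun i => by fin_cases i; rfl) rfl
  | succ r ih =>
    intro M hM F hF hr
    let C : Closeds X := ⟨_, QCoh.isClosed_support_of_isFT hF.1 hF.2⟩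
    have hfin := Snapper.finite_topPts (C := C) hr
    let M' : Fin r → X.Modules := fun j => M j.succ
    have hN : ∀ i, PicF.IsInvertible ((Fin.cons D M' : Fin (r + 1) → X.Modules) i) := Fin.cases hD fun j => hM _
    have hN' : ∀ i, PicF.IsInvertible ((Fin.cons (M 0) (Fin.cons D M') : Fin (r + 2) → X.Modules) i) :=
      Fin.cases (hM 0) hN
    have hswap : ∀ G, alt k (Fin.cons D M) G = alt k (Fin.cons (M 0) (Fin.cons D M')) G := fun G => by
      rw [← alt_perm k (Equiv.swap (0 : Fin (r + 2)) 1) (Fin.cons D M)]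
      refine alt_congr_cl k (fun i => ?_) rfl
      refine Fin.cases ?_ (fun j => ?_) i
      · rw [Function.comp_apply, Equiv.swap_apply_left, show (1 : Fin (r + 2)) = Fin.succ 0 from rfl, Fin.cons_succ,
          Fin.cons_zero]
      · refine Fin.cases ?_ (fun l => ?_) j
        · rw [Function.comp_apply, show (Fin.succ 0 : Fin (r + 2)) = 1 from rfl, Equiv.swap_apply_right, Fin.cons_zero,
            show (1 : Fin (r + 2)) = Fin.succ 0 from rfl, Fin.cons_succ, Fin.cons_zero]
        · rw [Function.comp_apply, Equiv.swap_apply_of_ne_of_ne (Fin.succ_ne_zero _)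
            (fun h => Fin.succ_ne_zero l (Fin.succ_injective _ (h.trans (show (1 : Fin (r + 2)) = Fin.succ 0 from rfl)))),
            Fin.cons_succ, Fin.cons_succ, Fin.cons_succ]
    rw [hswap, alt_components k hN' hF (C := C) hr subset_rfl hfin.toFinset fun ξ => hfin.mem_toFinset]
    refine Finset.sum_eq_zero fun ξ hξ => mul_eq_zero_of_right _ ?_
    rw [alt_cons, alt_tensor_clMod k hN (hM 0) ξ (d := r + 1) (hfin.mem_toFinset.1 hξ).2.le
      (fun G hG hd => ih M' (fun j => hM _) G hG hd), sub_self]

include k in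
/-- Changing one entry within its numerical class. -/
theorem alt_update_eq {M : Fin r → X.Modules} (hM : ∀ i, PicF.IsInvertible (M i)) {F : X.Modules} (hF : Coh.IsCoh F)
    (hr : topologicalKrullDim ↥(CohB1.support F) ≤ r) (j : Fin r) {A : X.Modules} (hA : PicF.IsInvertible A)
    (h : ∀ (Y : Scheme.{u}) (ι : Y ⟶ X) [IsClosedImmersion ι], IsIntegral Y → topologicalKrullDim Y = 1 →
      cdeg k ι A = cdeg k ι (M j)) :
    alt k (Function.update M j A) F = alt k M F := by
  obtain ⟨n, rfl⟩ : ∃ n, r = n + 1 := ⟨r - 1, by have := j.pos; omega⟩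
  haveI := CurveCohLib.isNoetherian_of_proper (k := k) (X := X)
  obtain ⟨B, hB, ⟨δ⟩⟩ := H23.PicInv.exists_inverse (hM j)
  have hMB : PicF.cl (M j) * PicF.cl B = 1 := by rw [← cl_tensor, cl_eq_iff.2 ⟨δ⟩, H23.PicMul.one_def]
  have hD := InvX.isInvertible_tensorMod hA hB
  have hnum : NumTriv k (CohB1.tensorMod A B) := fun Y ι _ hY hd => by
    rw [cdeg_add k ι (hd.le) hA hB, cdeg_inverse k ι hd.le (hM j) hB hMB, h Y ι hY hd]
    ring
  let σ := Equiv.swap (0 : Fin (n + 1)) j
  let T : Fin n → X.Modules := fun i => M (σ i.succ)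
  have hT : ∀ i, PicF.IsInvertible (T i) := fun i => hM _
  have hzero := alt_eq_zero_of_numTriv k hD hnum n T hT F hF hr
  have e1 : alt k (Function.update M j A) F = alt k (Fin.cons A T) F := by
    rw [← alt_perm k σ (Function.update M j A)]
    refine alt_congr_cl k (fun i => Fin.cases ?_ (fun l => ?_) i) rfl
    · simp [σ]
    · rw [Function.comp_apply, Fin.cons_succ, Function.update_of_ne]
      intro he
      exact Fin.succ_ne_zero l (σ.injective (he.trans (Equiv.swap_apply_left 0 j).symm))
  have e2 : alt k M F = alt k (Fin.cons (M j) T) F := by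
    rw [← alt_perm k σ M]
    refine alt_congr_cl k (fun i => Fin.cases ?_ (fun l => ?_) i) rfl
    · simp [σ]
    · rfl
  have e3 : alt k (Fin.cons A T) F = alt k (Fin.cons (CohB1.tensorMod (CohB1.tensorMod A B) (M j)) T) F :=
    alt_congr_cl k (Fin.cases (by
      rw [Fin.cons_zero, Fin.cons_zero, cl_tensor, cl_tensor, mul_assoc, mul_comm (PicF.cl B), hMB, mul_one])
      fun _ => rfl) rfl
  rw [e1, e2, e3, alt_cons_tensor k hT hF hD (hM j) hr, hzero, zero_add]

end Groth.Agent.Big
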