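import Groth.Agent.Big.Basic
import Groth.Agent.Nakai.Birat3
import Groth.Agent.Nakai.ProjEuler
import Groth.Agent.Lib.CurveBundle

/-!
# The bound on proper schemes
-/

set_option autoImplicit false
set_option linter.style.haveILetI false
set_option linter.unusedSectionVars false
set_option backward.isDefEq.respectTransparency false
set_option backward.isDefEq.respectTransparency.types false
set_option maxHeartbeats 1000000

universe u

open CategoryTheory CategoryTheory.Limits AlgebraicGeometry TopologicalSpace Opposite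
open Groth.Agent.H23.PicMul

noncomputable section

namespace Groth.Agent.Big

open Groth.Agent

variable (k : Type u) [Field k] {X Y : Scheme.{u}} [X.Over (Spec (CommRingCat.of k))]
  [Y.Over (Spec (CommRingCat.of k))]

/-- Global sections of a direct image. -/
theorem exists_equiv_push (f : Y ⟶ X) (hf : f ≫ (X ↘ Spec (CommRingCat.of k)) = Y ↘ Spec (CommRingCat.of k))
    (M : Y.Modules) : Nonempty (Coh.HH Y M 0 ≃ₗ[k] Coh.HH X ((Coh.push f).obj M) 0) :=
  PnCoh.nonempty_linearEquiv_of_natPushEquiv k f hf M 0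
    ⟨PnCoh.pushH0 f.base (QCoh.abSheaf M), fun φ x => PnCoh.pushH0_natural f.base φ x⟩

theorem mono_unitToPush [IsIntegral X] [IsIntegral Y] (f : Y ⟶ X) (hη : f (genericPoint Y) = genericPoint X) :
    Mono (ClSub.unitToPush f) := by
  refine InvEnd.mono_of_app_injective _ fun W s t h => ?_
  rw [← sub_eq_zero]
  refine (AlgebraicGeometry.basicOpen_eq_bot_iff (X := X) (U := W) (s - t : Γ(X, W))).1 ?_
  rw [← le_bot_iff]
  intro x hx
  have h1 : genericPoint X ∈ X.basicOpen (s - t : Γ(X, W)) :=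
    (genericPoint_specializes x).mem_open (X.basicOpen (s - t : Γ(X, W))).isOpen hx
  rw [← hη] at h1
  have h2 : genericPoint Y ∈ f ⁻¹ᵁ X.basicOpen (s - t : Γ(X, W)) := h1
  have h' : (f.app W) s = (f.app W) t := h
  rw [Scheme.preimage_basicOpen, map_sub, h', sub_self, Scheme.basicOpen_zero] at h2
  exact h2.elim

variable [IsProper (X ↘ Spec (CommRingCat.of k))] [IsProper (Y ↘ Spec (CommRingCat.of k))]

/-- Pullback along a dominant morphism does not lose sections. -/
theorem h0_le_pullback [IsIntegral X] [IsIntegral Y] (f : Y ⟶ X)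
    (hf : f ≫ (X ↘ Spec (CommRingCat.of k)) = Y ↘ Spec (CommRingCat.of k)) (hη : f (genericPoint Y) = genericPoint X)
    {L : X.Modules} (hL : PicF.IsInvertible L) :
    h0 k (CohB1.tensorMod (Coh.structureModule X) L) ≤
      h0 k (CohB1.tensorMod (Coh.structureModule Y) ((Scheme.Modules.pullback f).obj L)) := by
  haveI := CurveCohLib.isNoetherian_of_proper (k := k) (X := Y)
  haveI := mono_unitToPush f hη
  haveI : Mono ((AmpleVan.tw L).map (ClSub.unitToPush f)) := mono_tw hL _
  obtain ⟨e⟩ := AmpleDev.push_tensor_iso f hL (Coh.structureModule Y)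
  obtain ⟨l⟩ := exists_equiv_push k f hf (CohB1.tensorMod (Coh.structureModule Y) ((Scheme.Modules.pullback f).obj L))
  haveI := CurveCohLib.finite_HH (k := k) (AmpleVan.isCoh_tensor (QCoh.isCoh_structureModule' (X := Y))
    (AmpleVan.isCoh_invertible (PicClLib.isInvertible_pullback f hL))) 0
  haveI : Module.Finite k (Coh.HH X ((AmpleVan.tw L).obj ((Coh.push f).obj (Coh.structureModule Y))) 0) :=
    Module.Finite.equiv (l.trans (CurveCohLib.hhEquiv (k := k) e 0).symm)
  exact (h0_le_of_mono' k ((AmpleVan.tw L).map (ClSub.unitToPush f))).trans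
    (le_of_eq ((h0_congr k e).trans l.finrank_eq.symm))

omit [Y.Over (Spec (CommRingCat.of k))] [IsProper (Y ↘ Spec (CommRingCat.of k))] in
/-- `h⁰(Lᵐ) = O(mᵈ)` on an integral proper scheme. -/
theorem bound_invertible_proper [IsIntegral X] {d : ℕ} (hdim : topologicalKrullDim X ≤ d) {L : X.Modules}
    (hL : PicF.IsInvertible L) : Bound k L d (Coh.structureModule X) := by
  obtain ⟨e, hed, he⟩ := dim_nat_of_le hdim
  obtain ⟨Z, hZi, π, hπ, hη, hZd, -, A, hA⟩ := Nakai.exists_chow k X he
  haveI := hZi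
  haveI := hπ
  letI : Z.Over (Spec (CommRingCat.of k)) := ⟨π ≫ (X ↘ Spec (CommRingCat.of k))⟩
  haveI : IsProper (Z ↘ Spec (CommRingCat.of k)) :=
    inferInstanceAs (IsProper (π ≫ (X ↘ Spec (CommRingCat.of k))))
  haveI := CurveCohLib.isNoetherian_of_proper (k := k) (X := Z)
  obtain ⟨C, hC⟩ := bound_invertible k (d := d) (hZd.le.trans (by exact_mod_cast hed)) hA
    (PicClLib.isInvertible_pullback π hL)
  refine ⟨C, fun m => ((h0_le_pullback k π rfl hη (InvX.isInvertible_tensorPow hL m)).trans (le_of_eq ?_)).trans (hC m)⟩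
  refine h0_congr_cl k ?_
  rw [cl_tensor, cl_tensor, cl_tensorPow]
  refine congrArg (fun c => _ * c) ?_
  show PicF.pullCl π (PicF.cl (CohB1.tensorPow L m)) = _
  rw [cl_tensorPow, pullCl_pow]
  rfl

omit [Y.Over (Spec (CommRingCat.of k))] [IsProper (Y ↘ Spec (CommRingCat.of k))] in
/-- `h⁰(M ⊗ Lᵐ) = O(mᵈ)` on a proper scheme. -/
theorem bound_coh_proper {L : X.Modules} (hL : PicF.IsInvertible L)
    {M : X.Modules} (hM : Coh.IsCoh M) {T : Closeds X} (hMT : CohB1.support M ⊆ T) {d : ℕ}
    (hd : topologicalKrullDim ↥(T : Set X) ≤ d) : Bound k L d M := by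
  haveI := CurveCohLib.isNoetherian_of_proper (k := k) (X := X)
  refine QCoh.devissage_ideals (Bound k L d) (fun M N ⟨e⟩ hP => hP.of_iso k e)
    (fun M h0 => Bound.zero k hL h0) (T : Set X)
    (fun S hS _ h2 h3 p1 p3 => Bound.ext k hL hS h2 h3 p1 p3) ?_ hM hMT
  intro ξ hξT _ Z i _ hZ hr I ι hι hI _
  letI : Z.Over (Spec (CommRingCat.of k)) := ⟨i ≫ (X ↘ Spec (CommRingCat.of k))⟩
  haveI : IsProper (Z ↘ Spec (CommRingCat.of k)) :=
    inferInstanceAs (IsProper (i ≫ (X ↘ Spec (CommRingCat.of k))))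
  haveI := CurveCohLib.isNoetherian_of_proper (k := k) (X := Z)
  haveI := hι
  have hdim : topologicalKrullDim Z ≤ d := dim_le_of_range i (hr.le.trans hξT) hd
  have hLi := PicClLib.isInvertible_pullback i hL
  obtain ⟨C, hC⟩ := Bound.of_mono k hLi ι QCoh.isCoh_structureModule' (bound_invertible_proper k hdim hLi)
  refine ⟨C, fun m => le_of_eq_of_le ?_ (hC m)⟩
  have hP := InvX.isInvertible_tensorPow hL m
  obtain ⟨e⟩ := AmpleDev.push_tensor_iso i hP I
  obtain ⟨ψ⟩ : Nonempty ((Scheme.Modules.pullback i).obj (CohB1.tensorPow L m) ≅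
      CohB1.tensorPow ((Scheme.Modules.pullback i).obj L) m) := cl_eq_iff.1 (by
    show PicF.pullCl i (PicF.cl (CohB1.tensorPow L m)) = _
    rw [cl_tensorPow, cl_tensorPow, pullCl_pow]
    rfl)
  obtain ⟨l⟩ := PnCoh.exists_linearEquiv_push k i (rfl : i ≫ (X ↘ Spec (CommRingCat.of k)) = _)
    (KFlatLib.isQCoh_tensor hI (ProjUPX.isQCoh_of_isInvertible (PicClLib.isInvertible_pullback i hP))) 0
  exact ((h0_congr k e).trans l.finrank_eq.symm).trans (h0_congr k (PicGrp.tensorModIso (Iso.refl I) ψ))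

omit [Y.Over (Spec (CommRingCat.of k))] [IsProper (Y ↘ Spec (CommRingCat.of k))] in
/-- Modules with small support have few sections. -/
theorem eventually_h0_lt {L : X.Modules} (hL : PicF.IsInvertible L) {M : X.Modules} (hM : Coh.IsCoh M) {T : Closeds X}
    (hMT : CohB1.support M ⊆ T) {d : ℕ} (hd : topologicalKrullDim ↥(T : Set X) < d) {ε : ℝ} (hε : 0 < ε) :
    ∀ᶠ n : ℕ in Filter.atTop, (h0 k (CohB1.tensorMod M (CohB1.tensorPow L n)) : ℝ) < ε * (n : ℝ) ^ d := by
  haveI := CurveCohLib.isNoetherian_of_proper (k := k) (X := X)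
  rcases d with _ | e
  · have hempty : (T : Set X) = ∅ := by
      rw [← Set.not_nonempty_iff_eq_empty]
      intro hne
      haveI := hne.to_subtype
      obtain ⟨x⟩ := hne.to_subtype
      haveI : Nonempty (IrreducibleCloseds ↥(T : Set X)) :=
        ⟨⟨closure {x}, isIrreducible_singleton.closure, isClosed_closure⟩⟩
      exact absurd hd (not_lt.2 (by rw [Nat.cast_zero]; exact Order.krullDim_nonneg))
    have hz : IsZero M := CurveCohLib.isZero_of_subsingleton_stalks fun x =>
      not_not.1 fun h => (hempty ▸ hMT h : x ∈ (∅ : Set X))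
    refine Filter.Eventually.of_forall fun n => ?_
    haveI := AmpleVan.isEquivalence_tw (InvX.isInvertible_tensorPow hL n)
    have h1 : h0 k (CohB1.tensorMod M (CohB1.tensorPow L n)) = 0 :=
      CurveCohLib.finrank_HH_zero_eq_zero_of_isZero (k := k) ((AmpleVan.tw (CohB1.tensorPow L n)).map_isZero hz)
    rw [h1, Nat.cast_zero]
    positivity
  · obtain ⟨C, hC⟩ := bound_coh_proper k hL hM hMT (Nakai.le_pred_of_lt hd)
    obtain ⟨N, hN⟩ := exists_nat_gt ((C : ℝ) * 2 ^ e / ε)
    refine Filter.eventually_atTop.2 ⟨max N 1, fun n hn => ?_⟩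
    have hn1 : 1 ≤ n := (le_max_right N 1).trans hn
    have h1 : (h0 k (CohB1.tensorMod M (CohB1.tensorPow L n)) : ℝ) ≤ (C : ℝ) * 2 ^ e * (n : ℝ) ^ e := by
      have : h0 k (CohB1.tensorMod M (CohB1.tensorPow L n)) ≤ C * 2 ^ e * n ^ e := by
        refine (hC n).trans ?_
        rw [mul_assoc, ← mul_pow]
        exact Nat.mul_le_mul_left C (Nat.pow_le_pow_left (by omega) e)
      exact_mod_cast this
    refine lt_of_le_of_lt h1 ?_
    rw [pow_succ', ← mul_assoc ε]
    refine mul_lt_mul_of_pos_right ?_ (pow_pos (by exact_mod_cast hn1) e)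
    rw [div_lt_iff₀ hε] at hN
    have h2 : (N : ℝ) ≤ n := by exact_mod_cast (le_max_left N 1).trans hn
    nlinarith

omit [Y.Over (Spec (CommRingCat.of k))] [IsProper (Y ↘ Spec (CommRingCat.of k))] in
theorem h0_add_tw' {S : ShortComplex X.Modules} (hS : S.ShortExact) {R : X.Modules} (hR : PicF.IsInvertible R)
    (h₂ : Coh.IsCoh S.X₂) (h₃ : Coh.IsCoh S.X₃) :
    h0 k (CohB1.tensorMod S.X₂ R) ≤ h0 k (CohB1.tensorMod S.X₁ R) + h0 k (CohB1.tensorMod S.X₃ R) := by
  haveI := CurveCohLib.isNoetherian_of_proper (k := k) (X := X)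
  refine (h0_le_add k (shortExact_tw hS hR) (AmpleVan.isCoh_tensor h₂ (AmpleVan.isCoh_invertible hR))
    (AmpleVan.isCoh_tensor h₃ (AmpleVan.isCoh_invertible hR))).trans ?_
  exact le_rfl

/-- The converse estimate for a birational morphism. -/
theorem eventually_pullback_le [IsIntegral X] [IsIntegral Y] (f : Y ⟶ X)
    (hf : f ≫ (X ↘ Spec (CommRingCat.of k)) = Y ↘ Spec (CommRingCat.of k)) (hη : f (genericPoint Y) = genericPoint X)
    (hfib : ∀ y, f y = genericPoint X → y = genericPoint Y) (hdeg : f.residueDegree (genericPoint Y) = 1)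
    {d : ℕ} (hdim : topologicalKrullDim X = d) {L : X.Modules} (hL : PicF.IsInvertible L) {ε : ℝ} (hε : 0 < ε) :
    ∀ᶠ n : ℕ in Filter.atTop, (h0 k (CohB1.tensorPow ((Scheme.Modules.pullback f).obj L) n) : ℝ) <
      (h0 k (CohB1.tensorPow L n) : ℝ) + ε * (n : ℝ) ^ d := by
  haveI := CurveCohLib.isNoetherian_of_proper (k := k) (X := X)
  haveI := CurveCohLib.isNoetherian_of_proper (k := k) (X := Y)
  haveI : IsProper f := by
    haveI : IsProper (f ≫ (X ↘ Spec (CommRingCat.of k))) := by rw [hf]; infer_instance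
    exact IsProper.of_comp f (X ↘ Spec (CommRingCat.of k))
  haveI := mono_unitToPush f hη
  let u := ClSub.unitToPush f
  have hP : Coh.IsCoh ((Coh.push f).obj (Coh.structureModule Y)) :=
    ExistEasy.isCoh_pushforward_proper f QCoh.isCoh_structureModule'
  have hQ : Coh.IsCoh (cokernel u) := QCoh.isCoh_cokernel QCoh.isQCoh_structureModule hP u
  let T : Closeds X := ⟨_, QCoh.isClosed_support_of_isFT hQ.1 hQ.2⟩
  have hT : genericPoint X ∉ T := by
    obtain ⟨V, hV, hxV, hfin⟩ := (S2080.result f (genericPoint X) (by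
      rw [(genericPoint_spec X).def, irreducibleComponents_eq_maximals_closed]
      exact ⟨⟨isClosed_univ, IrreducibleSpace.isIrreducible_univ X⟩, fun _ _ _ => Set.subset_univ _⟩)).1
        ((Set.finite_singleton (genericPoint Y)).subset fun y hy => hfib y hy)
    have hrk := Nakai.rk_push_structure_generic f hη hV hxV hfin
    rw [hdeg] at hrk
    haveI := QCoh.finite_stalk_of_isFT hP.1 hP.2 (genericPoint X)
    have hadd := CurveBundle.rk_add' u (cokernel.π u) (cokernel.condition u) (shortExact_cokernel u) this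
    rw [show CurveBundle.rk ((Coh.push f).obj (Coh.structureModule Y)) = 1 from hrk,
      CurveBundle.rk_eq (InvEnd.isFinLocFreeOfRank_one (CurveDeg.isInvertible_structureModule (X := X)))] at hadd
    intro hmem
    letI := (CurveBundle.isField_stalk_generic (X := X)).toField
    haveI := QCoh.finite_stalk_of_isFT hQ.1 hQ.2 (genericPoint X)
    have h0' : Module.finrank (X.presheaf.stalk (genericPoint X))
        ((cokernel u).presheaf.stalk (genericPoint X)) = 0 := by
      have : CurveBundle.rk (cokernel u) = 0 := by omega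
      exact this
    exact hmem (Module.finrank_zero_iff.1 h0')
  have hTd : topologicalKrullDim ↥(T : Set X) < d := by
    have hlt := H23.TopDim.dim_lt_of_ssubset (Nakai.ne_top_of_dim_eq hdim) T.isClosed
      fun h => hT (h.ge (Set.mem_univ _))
    rwa [hdim] at hlt
  refine (eventually_h0_lt k hL hQ (T := T) subset_rfl hTd hε).mono fun n hn => ?_
  have hLn := InvX.isInvertible_tensorPow hL n
  obtain ⟨e⟩ := AmpleDev.push_tensor_iso f hLn (Coh.structureModule Y)
  obtain ⟨l⟩ := exists_equiv_push k f hf (CohB1.tensorMod (Coh.structureModule Y) ((Scheme.Modules.pullback f).obj (CohB1.tensorPow L n)))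
  have h1 : h0 k (CohB1.tensorPow ((Scheme.Modules.pullback f).obj L) n) =
      h0 k (CohB1.tensorMod ((Coh.push f).obj (Coh.structureModule Y)) (CohB1.tensorPow L n)) := by
    refine Eq.trans (h0_congr_cl k ?_) (l.finrank_eq.trans (h0_congr k e).symm)
    rw [cl_tensor, cl_tensorPow, ← H23.PicMul.one_def, one_mul]
    show _ = PicF.pullCl f (PicF.cl (CohB1.tensorPow L n))
    rw [cl_tensorPow, pullCl_pow]
    rfl
  have h2 := h0_add_tw' k (S := ShortComplex.mk u (cokernel.π u) (cokernel.condition u)) (shortExact_cokernel u)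
    hLn hP hQ
  have h3 : h0 k (CohB1.tensorMod (Coh.structureModule X) (CohB1.tensorPow L n)) = h0 k (CohB1.tensorPow L n) :=
    h0_congr_cl k (by rw [cl_tensor, ← H23.PicMul.one_def, one_mul])
  simp only at h2
  rw [h3, ← h1] at h2
  have h4 : (h0 k (CohB1.tensorPow ((Scheme.Modules.pullback f).obj L) n) : ℝ) ≤
      (h0 k (CohB1.tensorPow L n) : ℝ) + (h0 k (CohB1.tensorMod (cokernel u) (CohB1.tensorPow L n)) : ℝ) := by
    exact_mod_cast h2
  linarith

end Groth.Agent.Big
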