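import Groth.Agent.Big.IntNum
import Groth.Agent.Big.Values

/-!
# The two-variable quadratic of a surface
-/

set_option autoImplicit false
set_option linter.style.haveILetI false
set_option linter.unusedSectionVars false
set_option backward.isDefEq.respectTransparency false
set_option backward.isDefEq.respectTransparency.types false
set_option maxHeartbeats 1000000

universe u

open CategoryTheory CategoryTheory.Limits AlgebraicGeometry TopologicalSpace Opposite
open Groth.Agent.H23.PicMul

noncomputable section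

namespace Groth.Agent.Big

open Groth.Agent

/-- A quadratic in two variables. -/
def qf (c : Fin 6 → ℚ) (a b : ℚ) : ℚ :=
  c 0 + c 1 * a + c 2 * b + c 3 * a ^ 2 + c 4 * a * b + c 5 * b ^ 2

/-- The coefficients after the substitution `a ↦ -a`. -/
def qflip (c : Fin 6 → ℚ) : Fin 6 → ℚ := ![c 0, -c 1, c 2, c 3, -c 4, c 5]

/-- The coefficients after exchanging the variables. -/
def qswap (c : Fin 6 → ℚ) : Fin 6 → ℚ := ![c 0, c 2, c 1, c 5, c 4, c 3]

/-- The coefficients after the substitution `b ↦ m b`. -/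
def qscale (c : Fin 6 → ℚ) (m : ℚ) : Fin 6 → ℚ := ![c 0, c 1, m * c 2, c 3, m * c 4, m ^ 2 * c 5]

theorem qf_qflip (c : Fin 6 → ℚ) (a b : ℚ) : qf (qflip c) a b = qf c (-a) b := by
  simp only [qf, qflip, Matrix.cons_val]; ring

theorem qf_qswap (c : Fin 6 → ℚ) (a b : ℚ) : qf (qswap c) a b = qf c b a := by
  simp only [qf, qswap, Matrix.cons_val]; ring

theorem qf_qscale (c : Fin 6 → ℚ) (m a b : ℚ) : qf (qscale c m) a b = qf c a (m * b) := by
  simp only [qf, qscale, Matrix.cons_val]; ring

/-- Polynomials of total degree at most two in two variables are quadratics. -/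
theorem exists_qf (P : MvPolynomial (Fin 2) ℚ) (hP : P.totalDegree ≤ 2) :
    ∃ c : Fin 6 → ℚ, ∀ v : Fin 2 → ℚ, MvPolynomial.eval v P = qf c (v 0) (v 1) := by
  classical
  suffices h : ∀ s ⊆ P.support, ∃ c : Fin 6 → ℚ, ∀ v : Fin 2 → ℚ,
      ∑ d ∈ s, P.coeff d * ∏ i, v i ^ d i = qf c (v 0) (v 1) by
    obtain ⟨c, hc⟩ := h P.support subset_rfl
    exact ⟨c, fun v => (MvPolynomial.eval_eq' v P).trans (hc v)⟩
  intro s hs
  induction s using Finset.induction with
  | empty => exact ⟨0, fun v => by simp [qf]⟩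
  | insert d s hd ih =>
    obtain ⟨c, hc⟩ := ih fun x hx => hs (Finset.mem_insert_of_mem hx)
    have hdeg : d 0 + d 1 ≤ 2 := by
      have h := (MvPolynomial.le_totalDegree (hs (Finset.mem_insert_self d s))).trans hP
      rwa [Finsupp.sum_fintype _ _ (fun _ => rfl), Fin.sum_univ_two] at h
    have h0 : d 0 ≤ 2 := by omega
    have h1 : d 1 ≤ 2 := by omega
    obtain ⟨e, he⟩ : ∃ e : Fin 6 → ℚ, ∀ a b : ℚ, qf e a b = a ^ d 0 * b ^ d 1 := by
      refine ⟨![if d 0 = 0 ∧ d 1 = 0 then 1 else 0, if d 0 = 1 ∧ d 1 = 0 then 1 else 0,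
        if d 0 = 0 ∧ d 1 = 1 then 1 else 0, if d 0 = 2 ∧ d 1 = 0 then 1 else 0,
        if d 0 = 1 ∧ d 1 = 1 then 1 else 0, if d 0 = 0 ∧ d 1 = 2 then 1 else 0], fun a b => ?_⟩
      interval_cases (d 0) <;> interval_cases (d 1) <;> first | omega | simp [qf]
    refine ⟨fun i => P.coeff d * e i + c i, fun v => ?_⟩
    rw [Finset.sum_insert hd, hc, Fin.prod_univ_two, ← he]
    simp only [qf]; ring

variable (k : Type u) [Field k] {X : Scheme.{u}} [X.Over (Spec (CommRingCat.of k))]

/-- `χ(Lᵃ ⊗ Aᵇ)` is the quadratic `c`. -/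
def Quad (L A : X.Modules) (c : Fin 6 → ℚ) : Prop :=
  ∀ a b : ℕ, (Curv2.euler k X (CohB1.tensorMod (CohB1.tensorPow L a) (CohB1.tensorPow A b)) : ℚ) = qf c a b

variable {L A M : X.Modules} {c : Fin 6 → ℚ}

theorem Quad.symm (h : Quad k L A c) : Quad k A L (qswap c) := fun a b => by
  rw [qf_qswap, ← h b a]
  exact congrArg Int.cast (CurveCohLib.euler_congr (k := k) ((cl_eq_iff.1 (by
    rw [cl_tensor, cl_tensor, mul_comm])).some))

theorem Quad.pow (h : Quad k L A c) (m : ℕ) : Quad k L (CohB1.tensorPow A m) (qscale c m) := fun a b => by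
  rw [qf_qscale, ← Nat.cast_mul, ← h a (m * b)]
  exact congrArg Int.cast (CurveCohLib.euler_congr (k := k) ((cl_eq_iff.1 (by
    rw [cl_tensor, cl_tensor, cl_tensorPow, cl_tensorPow, cl_tensorPow, cl_tensorPow, pow_mul])).some))

variable [IsProper (X ↘ Spec (CommRingCat.of k))]

theorem exists_quad (hdim : topologicalKrullDim X ≤ 2) (hL : PicF.IsInvertible L) (hA : PicF.IsInvertible A) :
    ∃ c, Quad k L A c := by
  haveI := CurveCohLib.isNoetherian_of_proper (k := k) (X := X)
  obtain ⟨P, hP, hPn⟩ := Nakai.exists_poly₂ k hL hA (QCoh.isCoh_structureModule' (X := X)) (C := (⊤ : Closeds X))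
    (d := 2) ((Topology.IsInducing.subtypeVal.topologicalKrullDim_le).trans hdim) (fun x _ => trivial)
  obtain ⟨c, hc⟩ := exists_qf P hP
  refine ⟨c, fun a b => ?_⟩
  have h := hPn ![a, b]
  rw [hc] at h
  simp only [Matrix.cons_val_zero, Matrix.cons_val_one] at h
  rw [← h]
  refine congrArg Int.cast (CurveCohLib.euler_congr (k := k) ((cl_eq_iff.1 ?_).some))
  simp only [Curv2.tensorPows, cl_tensor, cl_tensorPow, Fin.castSucc_zero, Fin.last, Fin.reduceFinMk,
    Matrix.cons_val_zero, Matrix.cons_val_one]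
  rw [one_mul_cl]

theorem Quad.flip (hdim : topologicalKrullDim X ≤ 2) (hL : PicF.IsInvertible L) (hA : PicF.IsInvertible A)
    (hM : PicF.IsInvertible M) (hLM : PicF.cl L * PicF.cl M = 1) (h : Quad k L A c) : Quad k M A (qflip c) :=
  fun a b => by
  haveI := CurveCohLib.isNoetherian_of_proper (k := k) (X := X)
  let q : Polynomial ℚ := Polynomial.C (c 0 + c 2 * b + c 5 * (b : ℚ) ^ 2) +
    Polynomial.C (c 1 + c 4 * b) * Polynomial.X + Polynomial.C (c 3) * Polynomial.X ^ 2
  have hq : ∀ n : ℚ, q.eval n = qf c n b := fun n => by simp [q, qf]; ring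
  have hqn : ∀ n, Snapper.χ k L (CohB1.tensorPow A b) n = q.eval (n : ℚ) := fun n => by
    rw [hq, ← h n b]
    exact congrArg Int.cast (CurveCohLib.euler_congr (k := k) ((cl_eq_iff.1 (by
      show PicF.cl (CohB1.tensorMod (CohB1.tensorPow A b) (CohB1.tensorPow L n)) = _
      rw [cl_tensor, cl_tensor, mul_comm])).some))
  rw [qf_qflip, ← hq, ← χ_inverse k hL hM hLM (AmpleVan.isCoh_invertible (InvX.isInvertible_tensorPow hA b))
    (C := (⊤ : Closeds X)) (fun x _ => trivial) (r := 2)
    ((Topology.IsInducing.subtypeVal.topologicalKrullDim_le).trans hdim) hqn a]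
  exact congrArg Int.cast (CurveCohLib.euler_congr (k := k) ((cl_eq_iff.1 (by
    show _ = PicF.cl (CohB1.tensorMod (CohB1.tensorPow A b) (CohB1.tensorPow M a))
    rw [cl_tensor, cl_tensor, mul_comm])).some))

/-- The intersection number is the mixed coefficient. -/
theorem intNum_eq_quad (hdim : topologicalKrullDim X ≤ 2) (hL : PicF.IsInvertible L) (hA : PicF.IsInvertible A)
    (h : Quad k L A c) : (FGA.intNum k X 2 ![L, A] (Coh.structureModule X) : ℚ) = c 4 := by
  classical
  haveI := CurveCohLib.isNoetherian_of_proper (k := k) (X := X)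
  have key : ∀ (l : List (Fin 2)) (a b : ℕ),
      PicF.cl (FGA.tensorList (l.map ![L, A])) = PicF.cl L ^ a * PicF.cl A ^ b →
      (FGA.eulerCharLE k X (CohB1.tensorMod (FGA.tensorList (l.map ![L, A])) (Coh.structureModule X)) 2 : ℚ) =
        qf c a b := fun l a b hl => by
    rw [← h a b]
    have e : Nonempty (CohB1.tensorMod (FGA.tensorList (l.map ![L, A])) (Coh.structureModule X) ≅
        CohB1.tensorMod (CohB1.tensorPow L a) (CohB1.tensorPow A b)) := cl_eq_iff.1 (by
      rw [cl_tensor, cl_tensor, hl, mul_comm _ (PicF.cl (Coh.structureModule X)), one_mul_cl, cl_tensorPow,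
        cl_tensorPow])
    rw [Nakai.eulerCharLE_eq_euler k hdim ((QCoh.isQCoh_iff_iso e.some.symm).1
      (KFlatLib.isQCoh_tensor (ProjUPX.isQCoh_of_isInvertible (InvX.isInvertible_tensorPow hL a))
        (ProjUPX.isQCoh_of_isInvertible (InvX.isInvertible_tensorPow hA b))))]
    exact congrArg Int.cast (CurveCohLib.euler_congr (k := k) e.some)
  rw [FGA.intNum, show (Finset.univ : Finset (Finset (Fin 2))) = {∅, {0}, {1}, {0, 1}} by decide]
  rw [Finset.sum_insert (by decide), Finset.sum_insert (by decide), Finset.sum_insert (by decide),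
    Finset.sum_singleton]
  push_cast
  have h01 : ({0, 1} : Finset (Fin 2)).sort (· ≤ ·) = [0, 1] := by
    rw [Finset.sort_insert _ (by decide) (by decide), Finset.sort_singleton]
  rw [Finset.sort_empty, Finset.sort_singleton, Finset.sort_singleton, h01,
    key [] 0 0 (by rw [pow_zero, pow_zero, one_mul, H23.PicMul.one_def]; rfl),
    key [0] 1 0 (by show PicF.cl (CohB1.tensorMod L _) = _; rw [cl_tensor, pow_one, pow_zero, H23.PicMul.one_def]; rfl),
    key [1] 0 1 (by show PicF.cl (CohB1.tensorMod A _) = _; rw [cl_tensor, pow_one, pow_zero, one_mul, mul_comm]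
                    exact one_mul_cl _),
    key [0, 1] 1 1 (by
      show PicF.cl (CohB1.tensorMod L (CohB1.tensorMod A (Coh.structureModule X))) = _
      rw [cl_tensor, cl_tensor, pow_one, pow_one, mul_comm (PicF.cl A), one_mul_cl])]
  simp only [Finset.card_empty, Finset.card_singleton, show ({0, 1} : Finset (Fin 2)).card = 2 from rfl, qf]
  push_cast
  ring

/-- The self-intersection is twice the square coefficient. -/
theorem intNum_self_eq (hdim : topologicalKrullDim X ≤ 2) (hL : PicF.IsInvertible L)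
    (h : Quad k L A c) : (FGA.intNum k X 2 ![L, L] (Coh.structureModule X) : ℚ) = 2 * c 3 := by
  obtain ⟨c', hc'⟩ := exists_quad k hdim hL hL
  rw [intNum_eq_quad k hdim hL hL hc']
  have e : ∀ a b : ℕ, qf c' a b = qf c ((a : ℚ) + b) 0 := fun a b => by
    rw [← hc' a b, ← Nat.cast_add, ← Nat.cast_zero, ← h (a + b) 0]
    exact congrArg Int.cast (CurveCohLib.euler_congr (k := k) ((cl_eq_iff.1 (by
      rw [cl_tensor, cl_tensor, cl_tensorPow, cl_tensorPow, cl_tensorPow, cl_tensorPow, pow_zero, mul_one,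
        pow_add])).some))
  have h0 := e 0 0
  have h1 := e 1 0
  have h2 := e 0 1
  have h3 := e 1 1
  simp only [qf, Nat.cast_zero, Nat.cast_one] at h0 h1 h2 h3
  linarith

end Groth.Agent.Big
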