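import Groth.Agent.Big.RealEff
import Groth.Agent.Nakai.Criterion
import Groth.Agent.AmpleDev.Basic

/-!
# The ample cone of a smooth surface
-/

set_option autoImplicit false
set_option linter.style.haveILetI false
set_option linter.unusedSectionVars false
set_option backward.isDefEq.respectTransparency false
set_option backward.isDefEq.respectTransparency.types false
set_option maxHeartbeats 1000000

universe u

open CategoryTheory CategoryTheory.Limits AlgebraicGeometry TopologicalSpace
open Groth.Agent.H23.PicMul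

noncomputable section

namespace Groth.Agent.Big.RealForm

open Groth.Agent NumR

section Integral

variable (k : Type u) [Field k] {X : Scheme.{u}} [X.Over (Spec (CommRingCat.of k))]
  [IsProper (X ↘ Spec (CommRingCat.of k))]

include k in
/-- An ample module has positive degree on every curve. -/
theorem cdeg_pos_of_ample {L : X.Modules} (hL : CohB1.IsAmple L) {Y : Scheme.{u}} (ι : Y ⟶ X) [IsClosedImmersion ι]
    [IsIntegral Y] (hY : topologicalKrullDim Y = 1) : 0 < cdeg k ι L := by
  letI : Y.Over (Spec (CommRingCat.of k)) := ⟨ι ≫ (X ↘ Spec (CommRingCat.of k))⟩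
  haveI : IsProper (Y ↘ Spec (CommRingCat.of k)) :=
    inferInstanceAs (IsProper (ι ≫ (X ↘ Spec (CommRingCat.of k))))
  haveI := CurveCohLib.isNoetherian_of_proper (k := k) (X := Y)
  rw [cdeg_self k ι rfl hL.1]
  have hA := AmpleDev.isAmple_pullback_finite k ι hL
  have hY' : topologicalKrullDim Y = (1 : ℕ) := hY.trans Nat.cast_one.symm
  obtain ⟨q, hq, hqn⟩ := Nakai.exists_push_poly k (𝟙 Y) hA.1 hY'
  rw [cdeg_eq, ← Nakai.coeff_one_eq_sub k hq hqn]
  exact coeff_pos_invertible k hY' hA CurveDeg.isInvertible_structureModule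
    (fun n => (Nakai.χ_structure k n).trans (hqn n))

variable [IsIntegral X]

omit [IsProper (X ↘ Spec (CommRingCat.of k))] [IsIntegral X] [X.Over (Spec (CommRingCat.of k))] in
/-- A closed curve inside an integral curve is all of it. -/
theorem eq_of_dim_eq (J : X.IdealSheafData) [IsIntegral J.subscheme] {S : Set X} (hS : IsClosed S)
    (hJ : topologicalKrullDim (J.support : Set X) = 1) (hSd : topologicalKrullDim S = 1)
    (hsub : S ⊆ (J.support : Set X)) : S = (J.support : Set X) := by
  have hd : topologicalKrullDim J.subscheme = 1 :=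
    (AmpleDev.dim_eq_one_of_closedImmersion J.subschemeι J.range_subschemeι).trans hJ
  refine hsub.antisymm ?_
  rw [← J.range_subschemeι]
  rintro _ ⟨z, rfl⟩
  by_contra hz
  have hne : J.subschemeι ⁻¹' S ≠ Set.univ := fun h => hz (h.ge (Set.mem_univ z))
  have hlt := H23.TopDim.dim_lt_of_ssubset (Nakai.ne_top_of_dim_eq (d := 1) (hd.trans Nat.cast_one.symm))
    (hS.preimage J.subschemeι.continuous) hne
  rw [(J.subschemeι.isClosedEmbedding.isEmbedding.homeomorphImage _).isHomeomorph.topologicalKrullDim_eq,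
    Set.image_preimage_eq_of_subset (by rw [J.range_subschemeι]; exact hsub), hSd, hd] at hlt
  exact lt_irrefl _ hlt

include k in
/-- A divisor not containing a curve has nonpositive ideal degree on it. -/
theorem cdeg_idealMod_nonpos_of_not_subset {Y : Scheme.{u}} (ι : Y ⟶ X) [IsClosedImmersion ι] [IsIntegral Y]
    (hY : topologicalKrullDim Y = 1) {D : X.IdealSheafData} (hD : BlowUp.IsEffCartierIdeal D)
    (hsub : ¬ Set.range ι ⊆ (D.support : Set X)) : cdeg k ι (ClSub.idealMod D) ≤ 0 := by
  letI : Y.Over (Spec (CommRingCat.of k)) := ⟨ι ≫ (X ↘ Spec (CommRingCat.of k))⟩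
  haveI : IsProper (Y ↘ Spec (CommRingCat.of k)) :=
    inferInstanceAs (IsProper (ι ≫ (X ↘ Spec (CommRingCat.of k))))
  haveI := CurveCohLib.isNoetherian_of_proper (k := k) (X := Y)
  have hη : ι (genericPoint Y) ∉ (D.support : Set X) := fun h => hsub (by
    rw [← Set.image_univ, ← genericPoint_closure, ← ι.isClosedEmbedding.closure_image_eq, Set.image_singleton]
    exact D.support.isClosed.closure_subset_iff.2 (Set.singleton_subset_iff.2 h))
  have hE := isEffCartier_comap ι hD hη
  set E := D.comap ι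
  rw [cdeg_self k ι rfl (isInvertible_ideal hD), cdeg_congr k (𝟙 Y) (cl_idealMod_comap ι D hD hE), cdeg,
    alt_push k (𝟙 Y) (Category.id_comp _) (fun j => by fin_cases j; exact isInvertible_ideal hE)
      QCoh.isQCoh_structureModule]
  haveI : Mono ((AmpleVan.tw (Coh.structureModule Y)).map (ClSub.idealModι E)) := by
    haveI := AmpleVan.isEquivalence_tw (CurveDeg.isInvertible_structureModule (X := Y))
    haveI : Mono (ClSub.idealModι E) := inferInstanceAs (Mono (kernel.ι _))
    infer_instance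
  have e := alt_cons_ideal k (M := (![] : Fin 0 → Y.Modules)) (fun i => i.elim0)
    (QCoh.isCoh_structureModule' (X := Y)) (isInvertible_ideal hE) (D := E)
  have hd0 : topologicalKrullDim ↥(E.support : Set Y) ≤ ((0 : ℕ) : WithBot ℕ∞) :=
    dim_support_le k hE (e := 0) (hY.trans Nat.cast_one.symm).le
  have hcl : ∀ x ∈ CohB1.support (ClSub.quotMod E), IsClosed ({x} : Set Y) := fun x hx => by
    rw [← Euler.closure_eq_self_of_dim_le_zero E.support.isClosed hd0 (support_quotMod_subset E hx)]
    exact isClosed_closure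
  rw [neg_nonpos]
  have e2 : alt k (fun j => (Scheme.Modules.pullback (𝟙 Y)).obj ((![ClSub.idealMod E] : Fin 1 → Y.Modules) j))
      (Coh.structureModule Y) = (Curv2.euler k Y (ClSub.quotMod E) : ℚ) := by
    rw [alt_congr_cl k (N := Fin.cons (ClSub.idealMod E) ![]) (G := Coh.structureModule Y) (fun j => by
      fin_cases j; exact cl_eq_iff.2 ⟨(Scheme.Modules.pullbackId Y).app _⟩) rfl, e]
    refine (alt_congr_cl k (N := (![] : Fin 0 → Y.Modules)) (G := ClSub.quotMod E) (fun i => i.elim0) ?_).trans (alt_empty k _ _)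
    rw [cl_tensor, one_mul_cl]
  rw [e2, CurveCohLib.euler_eq_finrank_zero (k := k) (ParShLib.isCoh_quotMod E) hcl]
  positivity

include k in
/-- The criterion of Nakai and Moishezon on an integral surface. -/
theorem isAmple_of_surface (hdim : topologicalKrullDim X = 2) {L : X.Modules} (hL : PicF.IsInvertible L)
    (hsq : 0 < pair k L L)
    (hc : ∀ (Y : Scheme.{u}) (ι : Y ⟶ X) [IsClosedImmersion ι] [IsIntegral Y], topologicalKrullDim Y = 1 →
      0 < cdeg k ι L) : CohB1.IsAmple L := by
  haveI := CurveCohLib.isNoetherian_of_proper (k := k) (X := X)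
  refine Nakai.isAmple_of_pos k hL fun Z i hi hZ d hd hdZ q hq hqn => ?_
  haveI := hi
  haveI := hZ
  have hd2 : d ≤ 2 := by
    have h := (AmpleDev.dim_eq_one_of_closedImmersion i rfl).trans_le (topologicalKrullDim_subspace_le X (Set.range i))
    rw [hdZ, hdim] at h
    exact_mod_cast h
  rcases (show d = 1 ∨ d = 2 by omega) with rfl | rfl
  · rw [Nakai.coeff_one_eq_sub k hq hqn, ← cdeg_eq]
    exact hc Z i (hdZ.trans Nat.cast_one)
  · have hr : Set.range i = Set.range (𝟙 X : X ⟶ X) := by
      have hu : Set.range i = Set.univ := by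
        by_contra hne
        have hlt := H23.TopDim.dim_lt_of_ssubset (Nakai.ne_top_of_dim_eq (d := 2) hdim)
          i.isClosedEmbedding.isClosed_range hne
        rw [← AmpleDev.dim_eq_one_of_closedImmersion i rfl, hdZ, hdim] at hlt
        exact lt_irrefl _ hlt
      rw [hu]
      exact (Set.range_eq_univ.2 fun y => ⟨y, rfl⟩).symm
    obtain ⟨φ⟩ := QCoh.push_structure_iso (𝟙 X) i hr
    obtain ⟨c, hcq⟩ := exists_quad k hdim.le hL hL
    have hc3 : 0 < c 3 := by
      have := (pair_eq_of_quad k hdim.le hL hL hcq).2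
      linarith
    let p : Polynomial ℚ := Polynomial.C (c 0) + Polynomial.C (c 1) * Polynomial.X + Polynomial.C (c 3) * Polynomial.X ^ 2
    have hp : ∀ n : ℕ, Snapper.χ k L (Coh.structureModule X) n = p.eval (n : ℚ) := fun n => by
      have e : p.eval (n : ℚ) = qf c n (0 : ℕ) := by simp [p, qf]
      rw [e, ← hcq n 0]
      exact congrArg Int.cast (CurveCohLib.euler_congr (k := k) ((cl_eq_iff.1 (by
        show PicF.cl (CohB1.tensorMod _ _) = _
        rw [cl_tensor, cl_tensor, one_mul_cl, cl_tensorPow L 0, pow_zero, mul_one])).some))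
    have hqp : q = p := Polynomial.eq_of_infinite_eval_eq q p ((Set.infinite_range_of_injective
      Nat.cast_injective).mono (by
        rintro _ ⟨n, rfl⟩
        show q.eval (n : ℚ) = p.eval (n : ℚ)
        rw [← hp n, ← hqn n, Nakai.χ_congr k φ n, ← Nakai.χ_structure]))
    rw [hqp]
    simpa [p] using hc3

end Integral

variable (k : Type u) [Field k] {X : Scheme.{u}} [X.Over (Spec (CommRingCat.of k))] [PicGrp.Law X]
  [IsProper (X ↘ Spec (CommRingCat.of k))] [Smooth (X ↘ Spec (CommRingCat.of k))] [IsIntegral X]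
  (hdim : topologicalKrullDim X = 2) {B : N1R k X →ₗ[ℝ] N1R k X →ₗ[ℝ] ℝ} (hB : IsIntForm₂ k X B)

include hdim hB

/-- The pairing with the class of a curve is the degree on it. -/
theorem B_curveCl {L : X.Modules} (hL : PicF.IsInvertible L) {I : X.IdealSheafData}
    (hI : PicF.IsInvertible (ClSub.idealMod I)) :
    B (clR k X L hL) (curveCl k X I hI) = ((cdeg k I.subschemeι L : ℚ) : ℝ) := by
  rw [curveCl, map_neg, B_clR hdim hB hL hI, pair_symm, pair_curve_self k hI hL, Rat.cast_neg, neg_neg]

theorem B_curve_pos {L : X.Modules} (hL : CohB1.IsAmple L) {I : X.IdealSheafData} (hIi : IsIntegral I.subscheme)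
    (hd : topologicalKrullDim (I.support : Set X) = 1) (hI : PicF.IsInvertible (ClSub.idealMod I)) :
    0 < B (clR k X L hL.1) (curveCl k X I hI) := by
  haveI := hIi
  rw [B_curveCl k hdim hB hL.1 hI]
  exact_mod_cast cdeg_pos_of_ample k hL I.subschemeι
    ((AmpleDev.dim_eq_one_of_closedImmersion I.subschemeι I.range_subschemeι).trans hd)

theorem ample_curve_pos {x : N1R k X} (hx : x ∈ ampleCone k X) {I : X.IdealSheafData} (hIi : IsIntegral I.subscheme)
    (hd : topologicalKrullDim (I.support : Set X) = 1) (hI : PicF.IsInvertible (ClSub.idealMod I)) :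
    0 < B x (curveCl k X I hI) := by
  let C : ConvexCone ℝ (N1R k X) :=
    { carrier := {x | 0 < B x (curveCl k X I hI)}
      smul_mem' := fun c hc y hy => by
        simp only [Set.mem_setOf_eq, map_smul, LinearMap.smul_apply, smul_eq_mul] at hy ⊢
        exact mul_pos hc hy
      add_mem' := fun a ha b hb => by
        simp only [Set.mem_setOf_eq, map_add, LinearMap.add_apply] at ha hb ⊢
        linarith }
  refine ConvexCone.hull_min (C := C) ?_ hx
  rintro _ ⟨L, hL, hA, rfl⟩
  exact B_curve_pos k hdim hB hA hIi hd hI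

theorem ampleCone_subset_nef : (ampleCone k X : Set (N1R k X)) ⊆ nefCone₂ k X B :=
  fun _ hx _ h1 h2 h3 => (ample_curve_pos k hdim hB hx h1 h2 h3).le

variable [Module.Finite ℝ (N1R k X)] {H : X.Modules} (hH : CohB1.IsAmple H)

include hH

theorem ampleCone_subset_posCone : (ampleCone k X : Set (N1R k X)) ⊆ posCone k X B H hH.1 := by
  let C : ConvexCone ℝ (N1R k X) :=
    { carrier := posCone k X B H hH.1
      smul_mem' := fun c hc y hy => by
        refine ⟨?_, ?_⟩
        · simp only [map_smul, LinearMap.smul_apply, smul_eq_mul]; exact mul_pos hc (mul_pos hc hy.1)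
        · simp only [map_smul, LinearMap.smul_apply, smul_eq_mul]; exact mul_pos hc hy.2
      add_mem' := fun a ha b hb => by
        have hab := pair_pos hdim hB hH ha.1 ha.2 hb.1.le hb.2
        refine ⟨?_, ?_⟩
        · simp only [map_add, LinearMap.add_apply, symm hdim hB b a]; linarith [ha.1, hb.1]
        · simp only [map_add, LinearMap.add_apply]; linarith [ha.2, hb.2] }
  intro x hx
  refine ConvexCone.hull_min (C := C) ?_ hx
  rintro _ ⟨L, hL, hA, rfl⟩
  have hsq : 0 < B (clR k X L hL) (clR k X L hL) := hh_pos hdim hB hA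
  have h0 : 0 ≤ B (clR k X L hL) (clR k X H hH.1) :=
    nef_pair_posCone k hdim hB hH (fun I h1 h2 h3 => (B_curve_pos k hdim hB hA h1 h2 h3).le)
      (h_mem_posCone k hdim hB hH)
  exact ⟨hsq, lt_of_le_of_ne h0 (h_ne_zero hdim hB hH hsq).symm⟩

omit hH hB hdim [IsIntegral X] [Smooth (X ↘ Spec (CommRingCat.of k))] in
theorem eventually_add {L M : X.Modules} (hL : CohB1.IsAmple L) (hM : PicF.IsInvertible M) :
    ∃ N : ℕ, 0 < N ∧ ∀ n, N ≤ n → (n : ℝ) • clR k X L hL.1 + clR k X M hM ∈ ampleCone k X := by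
  haveI := CurveCohLib.isNoetherian_of_proper (k := k) (X := X)
  haveI : CompactSpace X := QuasiCompact.compactSpace_of_compactSpace (X ↘ Spec (CommRingCat.of k))
  haveI : X.IsSeparated := AmpleVan.isSeparated_of_proper (X := X) (A := k)
  obtain ⟨s, -, hs⟩ := AmpleX.eventually_ample_tensor hL hM
  refine ⟨s + 1, Nat.succ_pos _, fun n hn => ?_⟩
  obtain ⟨hA, -⟩ := hs n (by omega)
  refine ConvexCone.subset_hull ⟨_, hA.1, hA, ?_⟩
  rw [clR_tensor k X (InvX.isInvertible_tensorPow hL.1 n) hM, clR_pow k X hL.1]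

omit hH hB hdim [IsIntegral X] [Smooth (X ↘ Spec (CommRingCat.of k))] in
/-- The ample cone is open. -/
theorem isOpen_ampleCone : IsOpen (ampleCone k X : Set (N1R k X)) := by
  classical
  have hgen : ∀ x ∈ {x : N1R k X | ∃ (L : X.Modules) (hL : PicF.IsInvertible L), CohB1.IsAmple L ∧ x = clR k X L hL},
      x ∈ interior (ampleCone k X : Set (N1R k X)) := by
    rintro _ ⟨L, hL, hA, rfl⟩
    obtain ⟨b, hbs, hspan, hli⟩ :=
      exists_linearIndependent ℝ {x : N1R k X | ∃ (L : X.Modules) (hL : PicF.IsInvertible L), x = clR k X L hL}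
    rw [span_clR] at hspan
    haveI : Fintype b := hli.setFinite.fintype
    let bb : Module.Basis b ℝ (N1R k X) := Module.Basis.mk hli (by rw [Subtype.range_coe, hspan])
    have hev : ∀ i : b, ∃ N : ℕ, 0 < N ∧ ∀ n, N ≤ n → (n : ℝ) • clR k X L hL + bb i ∈ ampleCone k X ∧
        (n : ℝ) • clR k X L hL - bb i ∈ ampleCone k X := fun i => by
      obtain ⟨M, hM, hMe⟩ := hbs i.2
      obtain ⟨M', hM', hMM'⟩ := H23.PicInv.exists_inverse hM
      obtain ⟨N₁, h₁, h₁'⟩ := eventually_add k hA hM
      obtain ⟨N₂, -, h₂'⟩ := eventually_add k hA hM'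
      have e : bb i = clR k X M hM := (Module.Basis.mk_apply _ _ _).trans hMe
      refine ⟨max N₁ N₂, lt_max_of_lt_left h₁, fun n hn => ⟨?_, ?_⟩⟩
      · rw [e]; exact h₁' n (le_trans (le_max_left _ _) hn)
      · rw [e, sub_eq_add_neg, ← clR_inverse k X hM hM' hMM']; exact h₂' n (le_trans (le_max_right _ _) hn)
    choose N hN0 hN using hev
    let n : ℕ := ∑ i, N i + 1
    have hn : ∀ i, N i ≤ n := fun i => (Finset.single_le_sum (fun j _ => Nat.zero_le (N j)) (Finset.mem_univ i)).trans
      (Nat.le_succ _)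
    let U : Set (N1R k X) := {y | ∑ i, |bb.repr y i - bb.repr (clR k X L hL) i| < 1 / (n : ℝ)}
    have hn0 : (0 : ℝ) < n := by exact_mod_cast Nat.succ_pos _
    refine mem_interior.2 ⟨U, fun y hy => ?_, ?_, ?_⟩
    · set l := clR k X L hL
      set c : b → ℝ := fun i => bb.repr y i - bb.repr l i
      have hyc : y = l + ∑ i, c i • bb i := by
        simp only [c, sub_smul, Finset.sum_sub_distrib, bb.sum_repr]
        abel
      set t := ∑ i, |c i|
      have ht : t < 1 / (n : ℝ) := hy
      have hpos : 0 < 1 - (n : ℝ) * t := by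
        rw [lt_div_iff₀ hn0] at ht; linarith
      have hl : l ∈ ampleCone k X := ConvexCone.subset_hull ⟨L, hL, hA, rfl⟩
      have key : y = (1 - (n : ℝ) * t) • l + ∑ i, (|c i| • ((n : ℝ) • l) + c i • bb i) := by
        rw [hyc, Finset.sum_add_distrib, ← Finset.sum_smul, sub_smul, one_smul, smul_smul, mul_comm t]
        abel
      rw [key]
      have hterm : ∀ i, |c i| • ((n : ℝ) • l) + c i • bb i = 0 ∨ |c i| • ((n : ℝ) • l) + c i • bb i ∈ ampleCone k X := by
        intro i
        rcases lt_trichotomy (c i) 0 with h | h | h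
        · right
          rw [abs_of_neg h, show -c i • ((n : ℝ) • l) + c i • bb i = (-c i) • ((n : ℝ) • l - bb i) by module]
          exact (ampleCone k X).smul_mem (neg_pos.2 h) ((hN i n (hn i)).2)
        · left; simp [h]
        · right
          rw [abs_of_pos h, ← smul_add]
          exact (ampleCone k X).smul_mem h ((hN i n (hn i)).1)
      have hsum : ∀ s : Finset b, ∀ z ∈ ampleCone k X,
          z + ∑ i ∈ s, (|c i| • ((n : ℝ) • l) + c i • bb i) ∈ ampleCone k X := by
        intro s
        induction s using Finset.induction_on with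
        | empty => intro z hz; simpa using hz
        | @insert i s hi ih =>
          intro z hz
          rw [Finset.sum_insert hi, ← add_assoc]
          refine ih _ ?_
          rcases hterm i with h | h
          · rw [h, add_zero]; exact hz
          · exact (ampleCone k X).add_mem hz h
      exact hsum Finset.univ _ ((ampleCone k X).smul_mem hpos hl)
    · exact isOpen_lt (continuous_finsetSum _ fun i _ => continuous_abs.comp
        ((IsModuleTopology.continuous_of_linearMap (bb.coord i)).sub continuous_const)) continuous_const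
    · show ∑ i, |bb.repr _ i - bb.repr _ i| < _
      simp only [sub_self, abs_zero, Finset.sum_const_zero]
      positivity
  let S : ConvexCone ℝ (N1R k X) :=
    { carrier := interior (ampleCone k X : Set (N1R k X))
      smul_mem' := fun c hc y hy => by
        obtain ⟨U, hU, hUo, hyU⟩ := mem_interior.1 hy
        refine mem_interior.2 ⟨(fun z => c⁻¹ • z) ⁻¹' U, fun z hz => ?_, hUo.preimage (continuous_const_smul _), ?_⟩
        · have := (ampleCone k X).smul_mem hc (hU hz)
          rwa [smul_inv_smul₀ hc.ne'] at this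
        · show c⁻¹ • c • y ∈ U
          rwa [inv_smul_smul₀ hc.ne']
      add_mem' := fun a ha b hb => by
        obtain ⟨U, hU, hUo, haU⟩ := mem_interior.1 ha
        refine mem_interior.2 ⟨(fun z => z + (-b)) ⁻¹' U, fun z hz => ?_, hUo.preimage (by fun_prop), ?_⟩
        · have := (ampleCone k X).add_mem (hU hz) (interior_subset hb)
          simpa using this
        · show a + b + -b ∈ U
          simpa using haU }
  exact interior_eq_iff_isOpen.1 (subset_antisymm interior_subset fun x hx => ConvexCone.hull_min (C := S) hgen hx)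

/-- The criterion for real classes. -/
theorem mem_ampleCone_iff (x : N1R k X) : x ∈ (ampleCone k X : Set (N1R k X)) ↔
    (0 < B x x ∧ ∀ (I : X.IdealSheafData), IsIntegral I.subscheme → topologicalKrullDim (I.support : Set X) = 1 →
      ∀ hI : PicF.IsInvertible (ClSub.idealMod I), 0 < B x (curveCl k X I hI)) := by
  refine ⟨fun hx => ⟨(ampleCone_subset_posCone k hdim hB hH hx).1, fun I h1 h2 h3 =>
    ample_curve_pos k hdim hB hx h1 h2 h3⟩, fun ⟨hxx, hxC⟩ => ?_⟩
  set h := clR k X H hH.1
  have hxnef : x ∈ nefCone₂ k X B := fun I h1 h2 h3 => (hxC I h1 h2 h3).le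
  have hxp : x ∈ posCone k X B H hH.1 :=
    ⟨hxx, lt_of_le_of_ne (nef_pair_posCone k hdim hB hH hxnef (h_mem_posCone k hdim hB hH))
      (h_ne_zero hdim hB hH hxx).symm⟩
  have hPo : IsOpen (posCone k X B H hH.1) :=
    (isOpen_lt continuous_const (continuous_diag B)).inter (isOpen_lt continuous_const (continuous_right B _))
  have hopA := isOpen_ampleCone (k := k) (X := X)
  have hhA : h ∈ ampleCone k X := ConvexCone.subset_hull ⟨H, hH.1, hH, rfl⟩
  have hray : Continuous fun ε : ℝ => x - ε • h := by fun_prop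
  obtain ⟨ε, hεP, hε⟩ : ∃ ε : ℝ, x - ε • h ∈ posCone k X B H hH.1 ∧ 0 < ε := by
    have h0 : (fun ε : ℝ => x - ε • h) ⁻¹' posCone k X B H hH.1 ∈ nhds (0 : ℝ) :=
      (hPo.preimage hray).mem_nhds (by simpa using hxp)
    exact Filter.nonempty_of_mem (Filter.inter_mem (mem_nhdsWithin_of_mem_nhds h0) self_mem_nhdsWithin :
      _ ∈ nhdsWithin (0 : ℝ) (Set.Ioi 0))
  obtain ⟨w, ⟨hwP, hwA⟩, hwq⟩ := (dense_ratPts k X).inter_open_nonempty
    (posCone k X B H hH.1 ∩ (fun w => x - w) ⁻¹' (ampleCone k X : Set (N1R k X)))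
    (hPo.inter (hopA.preimage (by fun_prop))) ⟨x - ε • h, hεP, by
      show x - (x - ε • h) ∈ ampleCone k X
      rw [sub_sub_cancel]; exact (ampleCone k X).smul_mem hε hhA⟩
  obtain ⟨n, L, hL, hn, hwL⟩ := (mem_ratPts k X).1 hwq
  have hn' : (0 : ℝ) < n := by exact_mod_cast hn
  obtain ⟨hL1, hL2⟩ : 0 < pair k L L ∧ 0 < pair k L H := by
    have e1 : B (clR k X L hL) (clR k X L hL) = (n : ℝ) * (n * B w w) := by
      rw [← hwL]; simp only [map_smul, LinearMap.smul_apply, smul_eq_mul]
    have e2 : B (clR k X L hL) h = (n : ℝ) * B w h := by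
      rw [← hwL]; simp only [map_smul, LinearMap.smul_apply, smul_eq_mul]
    rw [B_clR hdim hB hL hL] at e1
    rw [B_clR hdim hB hL hH.1] at e2
    exact ⟨by exact_mod_cast (e1 ▸ mul_pos hn' (mul_pos hn' hwP.1) : (0 : ℝ) < ((pair k L L : ℚ) : ℝ)),
      by exact_mod_cast (e2 ▸ mul_pos hn' hwP.2 : (0 : ℝ) < ((pair k L H : ℚ) : ℝ))⟩
  obtain ⟨m, hm, s, hs⟩ := exists_section_pow k hdim hB hH hL hL1 hL2
  have hP := InvX.isInvertible_tensorPow hL m
  obtain ⟨D, hD, hcl⟩ := exists_divisor_of_section hP s hs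
  have hI := (S8914.result D).2 hD
  have hinv := clR_inverse k X hP hI (cl_eq_iff.1 (by rw [cl_tensor]; exact hcl.trans one_def.symm))
  obtain ⟨T, wt, C, hC, hTw, hsum⟩ := curve_decomp k hdim hB hD hI
  let V : Set (N1R k X) := posCone k X B H hH.1 ∩ ((fun y => y - w) ⁻¹' (ampleCone k X : Set (N1R k X))) ∩
    ⋂ ξ ∈ T, {y | 0 < B y (curveCl k X (C ξ) (hC ξ))}
  have hVo : IsOpen V := (hPo.inter (hopA.preimage (by fun_prop))).inter
    (isOpen_biInter_finset fun ξ _ => isOpen_lt continuous_const (continuous_right B _))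
  have hxV : x ∈ V := ⟨⟨hxp, hwA⟩, Set.mem_iInter₂.2 fun ξ hξ =>
    hxC _ (hTw ξ hξ).2.1 (hTw ξ hξ).2.2 _⟩
  have hVC : ∀ y ∈ V, ∀ (I : X.IdealSheafData), IsIntegral I.subscheme →
      topologicalKrullDim (I.support : Set X) = 1 →
      ∀ hJ : PicF.IsInvertible (ClSub.idealMod I), 0 < B y (curveCl k X I hJ) := by
    intro y hy I h1 h2 hJ
    by_cases hwI : 0 ≤ B w (curveCl k X I hJ)
    · have h3 := ample_curve_pos k hdim hB hy.1.2 h1 h2 hJ
      simp only [map_sub, LinearMap.sub_apply] at h3
      linarith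
    · push Not at hwI
      have he : ∀ z, B z (clR k X (ClSub.idealMod D) hI) = -((m : ℝ) * ((n : ℝ) * B z w)) := fun z => by
        rw [hinv, clR_pow k X hL, ← hwL, map_neg, map_smul, map_smul, smul_eq_mul, smul_eq_mul]
      have hneg : ∃ ξ ∈ T, B (curveCl k X I hJ) (curveCl k X (C ξ) (hC ξ)) < 0 := by
        by_contra hcon
        push Not at hcon
        have h4 := hsum (curveCl k X I hJ)
        rw [he, symm hdim hB (curveCl k X I hJ) w] at h4
        have h5 : (∑ ξ ∈ T, (wt ξ : ℝ) * B (curveCl k X I hJ) (clR k X (ClSub.idealMod (C ξ)) (hC ξ))) ≤ 0 := by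
          refine Finset.sum_nonpos fun ξ hξ => mul_nonpos_of_nonneg_of_nonpos (by exact_mod_cast (hTw ξ hξ).1) ?_
          have := hcon ξ hξ
          rw [show curveCl k X (C ξ) (hC ξ) = -clR k X (ClSub.idealMod (C ξ)) (hC ξ) from rfl, map_neg] at this
          linarith
        have : (m : ℝ) * ((n : ℝ) * B w (curveCl k X I hJ)) < 0 :=
          mul_neg_of_pos_of_neg (by exact_mod_cast hm) (mul_neg_of_pos_of_neg hn' hwI)
        linarith
      obtain ⟨ξ, hξ, hlt⟩ := hneg
      haveI := h1
      haveI := (hTw ξ hξ).2.1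
      have hI2 : ∀ {J : X.IdealSheafData} (hJ : PicF.IsInvertible (ClSub.idealMod J))
          {J' : X.IdealSheafData} (hJ' : PicF.IsInvertible (ClSub.idealMod J')),
          B (curveCl k X J hJ) (curveCl k X J' hJ') = ((pair k (ClSub.idealMod J) (ClSub.idealMod J') : ℚ) : ℝ) :=
        fun hJ _ hJ' => by
          simp only [curveCl, map_neg, LinearMap.neg_apply, neg_neg, B_clR hdim hB hJ hJ']
      rw [hI2 hJ (hC ξ), Rat.cast_lt_zero, pair_curve_self k hJ (hC ξ), neg_lt_zero] at hlt
      by_cases hsub : (I.support : Set X) ⊆ ((C ξ).support : Set X)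
      · obtain ⟨φ⟩ : Nonempty ((Coh.push (C ξ).subschemeι).obj (Coh.structureModule _) ≅
            (Coh.push I.subschemeι).obj (Coh.structureModule I.subscheme)) :=
          QCoh.push_structure_iso I.subschemeι (C ξ).subschemeι (by
            rw [I.range_subschemeι, (C ξ).range_subschemeι]
            exact (eq_of_dim_eq (C ξ) I.support.isClosed (hTw ξ hξ).2.2 h2 hsub).symm)
        have heq : B y (curveCl k X I hJ) = B y (curveCl k X (C ξ) (hC ξ)) := by
          have : B.flip (curveCl k X I hJ) = B.flip (curveCl k X (C ξ) (hC ξ)) := LinearMap.ext_on span_clR (by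
            rintro _ ⟨M, hM, rfl⟩
            simp only [LinearMap.flip_apply, B_curveCl k hdim hB hM hJ, B_curveCl k hdim hB hM (hC ξ), cdeg]
            rw [alt_congr_cl k (fun _ => rfl) (cl_eq_iff.2 ⟨φ.symm⟩)])
          exact LinearMap.congr_fun this y
        rw [heq]
        exact Set.mem_iInter₂.1 hy.2 ξ hξ
      · exact absurd hlt (not_lt.2 (cdeg_idealMod_nonpos_of_not_subset k I.subschemeι
          ((AmpleDev.dim_eq_one_of_closedImmersion I.subschemeι I.range_subschemeι).trans h2)
          ((S8914.result _).1 (hC ξ)) (by rwa [I.range_subschemeι])))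
  obtain ⟨δ, hδV, hδ⟩ : ∃ δ : ℝ, x - δ • h ∈ V ∧ 0 < δ := by
    have h0 : (fun ε : ℝ => x - ε • h) ⁻¹' V ∈ nhds (0 : ℝ) := (hVo.preimage hray).mem_nhds (by simpa using hxV)
    exact Filter.nonempty_of_mem (Filter.inter_mem (mem_nhdsWithin_of_mem_nhds h0) self_mem_nhdsWithin :
      _ ∈ nhdsWithin (0 : ℝ) (Set.Ioi 0))
  obtain ⟨y, ⟨hyV, hyA⟩, hyq⟩ := (dense_ratPts k X).inter_open_nonempty
    (V ∩ (fun y => x - y) ⁻¹' (ampleCone k X : Set (N1R k X))) (hVo.inter (hopA.preimage (by fun_prop)))
    ⟨x - δ • h, hδV, by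
      show x - (x - δ • h) ∈ ampleCone k X
      rw [sub_sub_cancel]; exact (ampleCone k X).smul_mem hδ hhA⟩
  obtain ⟨p, M, hM, hp, hyM⟩ := (mem_ratPts k X).1 hyq
  have hp' : (0 : ℝ) < p := by exact_mod_cast hp
  have hMa : CohB1.IsAmple M := by
    refine isAmple_of_surface k hdim hM ?_ fun Y ι _ _ hY => ?_
    · have e1 : B (clR k X M hM) (clR k X M hM) = (p : ℝ) * (p * B y y) := by
        rw [← hyM]; simp only [map_smul, LinearMap.smul_apply, smul_eq_mul]
      rw [B_clR hdim hB hM hM] at e1
      exact_mod_cast (e1 ▸ mul_pos hp' (mul_pos hp' hyV.1.1.1) : (0 : ℝ) < ((pair k M M : ℚ) : ℝ))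
    · obtain ⟨J, hJ1, hJ2, hJ3, -, hJp⟩ := exists_curve_ideal k hdim ι hY
      have hJ := (S8914.result J).2 hJ3
      have h6 := mul_pos hp' (hVC y hyV J hJ1 hJ2 hJ)
      rw [← smul_eq_mul, ← LinearMap.smul_apply, ← map_smul, hyM, curveCl, map_neg, B_clR hdim hB hM hJ,
        pair_symm, hJp M hM, Rat.cast_neg, neg_neg] at h6
      exact_mod_cast h6
  have hy2 : y ∈ ampleCone k X := by
    have hyi : y = (1 / (p : ℝ)) • clR k X M hM := by rw [← hyM, smul_smul, one_div_mul_cancel hp'.ne', one_smul]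
    rw [hyi]
    exact (ampleCone k X).smul_mem (by positivity) (ConvexCone.subset_hull ⟨M, hM, hMa, rfl⟩)
  have := (ampleCone k X).add_mem hy2 hyA
  rwa [add_sub_cancel] at this

end Groth.Agent.Big.RealForm
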