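import Groth.Agent.Big.SurfCurve
import Groth.Agent.Big.Hodge
import Groth.Agent.Big.NumEq
import Groth.Agent.H23.PicInv
import Groth.Prelude.Def_NumR

/-!
# The intersection form on real classes of a smooth surface
-/

set_option autoImplicit false
set_option linter.style.haveILetI false
set_option linter.unusedSectionVars false
set_option backward.isDefEq.respectTransparency false
set_option backward.isDefEq.respectTransparency.types false
set_option maxHeartbeats 1000000

universe u

open CategoryTheory CategoryTheory.Limits AlgebraicGeometry TopologicalSpace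
open Groth.Agent.H23.PicMul

noncomputable section

namespace Groth.Agent.Big.RealForm

open Groth.Agent NumR

variable (k : Type u) [Field k] (X : Scheme.{u}) [X.Over (Spec (CommRingCat.of k))] [PicGrp.Law X]

theorem clR_tensor {L M : X.Modules} (hL : PicF.IsInvertible L) (hM : PicF.IsInvertible M)
    (hLM : PicF.IsInvertible (CohB1.tensorMod L M)) :
    clR k X (CohB1.tensorMod L M) hLM = clR k X L hL + clR k X M hM := by
  rw [clR_def, clR_def, clR_def, ← map_add, NumR.cl, NumR.cl, NumR.cl, ← map_add, ← ofMul_mul]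
  congr 3
  exact Subtype.ext (PicGrp.cls_mul_cls_val hL hM).symm

theorem clR_inverse {L M : X.Modules} (hL : PicF.IsInvertible L) (hM : PicF.IsInvertible M)
    (h : Nonempty (CohB1.tensorMod L M ≅ Coh.structureModule X)) : clR k X M hM = - clR k X L hL := by
  rw [clR_def, clR_def, ← map_neg, NumR.cl, NumR.cl, ← map_neg, ← ofMul_inv, PicGrp.cls_inv_eq_cls hL hM h]

theorem toN1R_eq_clR (v : N1 k X) : ∃ (L : X.Modules) (hL : PicF.IsInvertible L), toN1R k X v = clR k X L hL := by
  obtain ⟨L, hL, rfl⟩ := exists_eq_cl v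
  exact ⟨L, hL, rfl⟩

theorem clR_pow {L : X.Modules} (hL : PicF.IsInvertible L) (n : ℕ) (hn : PicF.IsInvertible (CohB1.tensorPow L n)) :
    clR k X (CohB1.tensorPow L n) hn = (n : ℝ) • clR k X L hL := by
  rw [Nat.cast_smul_eq_nsmul, clR_def, clR_def, ← map_nsmul, NumR.cl, NumR.cl, ← map_nsmul, ← ofMul_pow]
  congr 3
  exact Subtype.ext (PicGrp.cls_pow_val hL n).symm

theorem exists_natMul_ratCast (a : ℚ) : ∃ (d : ℕ) (z : ℤ), 0 < d ∧ (d : ℝ) * (a : ℝ) = (z : ℝ) :=
  ⟨a.den, a.num, a.pos, by
    have h : ((a.den : ℚ) * a) = (a.num : ℚ) := by rw [mul_comm]; exact Rat.mul_den_eq_num a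
    exact_mod_cast h⟩

/-- The rational classes. -/
def ratPts : AddSubgroup (N1R k X) where
  carrier := {x | ∃ n : ℕ, 0 < n ∧ (n : ℝ) • x ∈ (toN1R k X).range}
  zero_mem' := ⟨1, one_pos, 0, by simp⟩
  neg_mem' := by
    rintro x ⟨n, hn, v, hv⟩
    exact ⟨n, hn, -v, by rw [map_neg, hv, smul_neg]⟩
  add_mem' := by
    rintro x y ⟨n, hn, v, hv⟩ ⟨m, hm, w, hw⟩
    refine ⟨n * m, Nat.mul_pos hn hm, (m : ℤ) • v + (n : ℤ) • w, ?_⟩
    rw [map_add, map_zsmul, map_zsmul, hv, hw, ← Int.cast_smul_eq_zsmul ℝ, ← Int.cast_smul_eq_zsmul ℝ, smul_smul,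
      smul_smul, smul_add]
    push_cast
    rw [mul_comm (m : ℝ)]

theorem mem_ratPts {x : N1R k X} : x ∈ ratPts k X ↔ ∃ (n : ℕ) (L : X.Modules) (hL : PicF.IsInvertible L),
    0 < n ∧ (n : ℝ) • x = clR k X L hL := by
  constructor
  · rintro ⟨n, hn, v, hv⟩
    obtain ⟨L, hL, h⟩ := toN1R_eq_clR k X v
    exact ⟨n, L, hL, hn, hv.symm.trans h⟩
  · rintro ⟨n, L, hL, hn, h⟩
    exact ⟨n, hn, _, h.symm⟩

/-- The rational classes are dense. -/
theorem dense_ratPts : Dense (ratPts k X : Set (N1R k X)) := by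
  have hq : ∀ (q : ℚ) (x : N1R k X), x ∈ ratPts k X → (q : ℝ) • x ∈ ratPts k X := by
    rintro q x ⟨n, hn, v, hv⟩
    obtain ⟨d, z, hd, hz⟩ := exists_natMul_ratCast q
    refine ⟨d * n, Nat.mul_pos hd hn, z • v, ?_⟩
    rw [map_zsmul, hv, ← Int.cast_smul_eq_zsmul ℝ, smul_smul, smul_smul, ← hz]
    push_cast
    ring_nf
  have hsmul : ∀ (r : ℝ) (x : N1R k X), x ∈ closure (ratPts k X : Set (N1R k X)) →
      r • x ∈ closure (ratPts k X : Set (N1R k X)) := fun r x hx => by
    refine (map_mem_closure₂ (f := fun (a : ℝ) (b : N1R k X) => a • b) continuous_smul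
      ((Rat.denseRange_cast (𝕜 := ℝ)) r) hx ?_)
    rintro _ ⟨q, rfl⟩ b hb
    exact hq q b hb
  let W : Submodule ℝ (N1R k X) :=
    { carrier := closure (ratPts k X : Set (N1R k X))
      zero_mem' := subset_closure (zero_mem _)
      add_mem' := fun ha hb => map_mem_closure₂ continuous_add ha hb fun _ h1 _ h2 => add_mem h1 h2
      smul_mem' := fun r _ hx => hsmul r _ hx }
  have hW : ⊤ ≤ W := by
    rw [← NumR.span_clR, Submodule.span_le]
    rintro _ ⟨L, hL, rfl⟩
    exact subset_closure ((mem_ratPts k X).2 ⟨1, L, hL, one_pos, by simp⟩)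
  exact fun x => hW (Submodule.mem_top (x := x))

variable {k X}

instance : IsTopologicalAddGroup (N1R k X) := IsModuleTopology.topologicalAddGroup ℝ _

theorem continuous_right (B : N1R k X →ₗ[ℝ] N1R k X →ₗ[ℝ] ℝ) (z : N1R k X) : Continuous fun x => B x z :=
  IsModuleTopology.continuous_of_linearMap (B.flip z)

theorem continuous_diag [Module.Finite ℝ (N1R k X)] (B : N1R k X →ₗ[ℝ] N1R k X →ₗ[ℝ] ℝ) :
    Continuous fun x => B x x :=
  (IsModuleTopology.continuous_bilinear_of_finite_left B).comp (continuous_id.prodMk continuous_id)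

variable [IsProper (X ↘ Spec (CommRingCat.of k))] (hdim : topologicalKrullDim X = 2)
  {B : N1R k X →ₗ[ℝ] N1R k X →ₗ[ℝ] ℝ} (hB : IsIntForm₂ k X B)

include hdim hB

theorem B_clR {L M : X.Modules} (hL : PicF.IsInvertible L) (hM : PicF.IsInvertible M) :
    B (clR k X L hL) (clR k X M hM) = ((pair k L M : ℚ) : ℝ) := by
  rw [hB L M hL hM, ← intNum_eq_pair k hdim.le hL hM]
  norm_cast

theorem symm (x y : N1R k X) : B x y = B y x := by
  have h : B = B.flip := LinearMap.ext_on span_clR (by
    rintro _ ⟨L, hL, rfl⟩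
    refine LinearMap.ext_on span_clR ?_
    rintro _ ⟨M, hM, rfl⟩
    rw [LinearMap.flip_apply, B_clR hdim hB hL hM, B_clR hdim hB hM hL, pair_symm])
  exact LinearMap.congr_fun (LinearMap.congr_fun h x) y

variable [IsIntegral X]

/-- The index inequality for real classes. -/
theorem index_le [Module.Finite ℝ (N1R k X)] {H : X.Modules} (hH : CohB1.IsAmple H) (x : N1R k X) :
    B x x * B (clR k X H hH.1) (clR k X H hH.1) ≤ B x (clR k X H hH.1) ^ 2 := by
  have hc : IsClosed {x : N1R k X | B x x * B (clR k X H hH.1) (clR k X H hH.1) ≤ B x (clR k X H hH.1) ^ 2} :=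
    isClosed_le ((continuous_diag B).mul continuous_const) ((continuous_right B _).pow 2)
  refine (closure_minimal (s := (ratPts k X : Set (N1R k X))) (fun y hy => ?_) hc) (dense_ratPts k X x)
  obtain ⟨n, L, hL, hn, h⟩ := (mem_ratPts k X).1 hy
  have hn' : (0 : ℝ) < n := by exact_mod_cast hn
  have h1 : B (clR k X L hL) (clR k X L hL) * B (clR k X H hH.1) (clR k X H hH.1) ≤
      B (clR k X L hL) (clR k X H hH.1) ^ 2 := by
    rw [B_clR hdim hB hL hL, B_clR hdim hB hH.1 hH.1, B_clR hdim hB hL hH.1]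
    exact_mod_cast pair_index_le k hdim hH hL
  rw [← h] at h1
  simp only [map_smul, LinearMap.smul_apply, smul_eq_mul] at h1
  show B y y * B (clR k X H hH.1) (clR k X H hH.1) ≤ B y (clR k X H hH.1) ^ 2
  refine le_of_mul_le_mul_left ?_ (mul_pos hn' hn')
  linear_combination h1

theorem hh_pos {H : X.Modules} (hH : CohB1.IsAmple H) : 0 < B (clR k X H hH.1) (clR k X H hH.1) := by
  rw [B_clR hdim hB hH.1 hH.1]
  exact_mod_cast pair_self_pos k hdim hH

variable [Smooth (X ↘ Spec (CommRingCat.of k))]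

/-- A class pairing to zero with all classes vanishes. -/
theorem clR_eq_zero {L : X.Modules} (hL : PicF.IsInvertible L) (h : ∀ z, B (clR k X L hL) z = 0) :
    clR k X L hL = 0 := by
  have hnum : Pic13.IsNumEquivZero k X L := fun Y ι hι hY hd => by
    haveI := hY
    obtain ⟨I, -, -, hI, -, hp⟩ := exists_curve_ideal k hdim ι hd
    have hIinv := (S8914.result I).2 hI
    have h0 := h (clR k X (ClSub.idealMod I) hIinv)
    rw [B_clR hdim hB hL hIinv, pair_symm, hp L hL, Rat.cast_eq_zero, neg_eq_zero,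
      ← curveDeg_eq k ι (hd.trans Nat.cast_one.symm).le hL] at h0
    exact_mod_cast h0
  rw [clR_def, cl_eq_zero hL hnum, map_zero]

/-- The form is nondegenerate. -/
theorem nondeg [Module.Finite ℝ (N1R k X)] {y : N1R k X} (h : ∀ z, B y z = 0) : y = 0 := by
  classical
  obtain ⟨b, hbs, hspan, hli⟩ :=
    exists_linearIndependent ℝ {x : N1R k X | ∃ (L : X.Modules) (hL : PicF.IsInvertible L), x = clR k X L hL}
  rw [span_clR] at hspan
  haveI : Fintype b := hli.setFinite.fintype
  choose L hL hbL using fun i : b => hbs i.2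
  let G : Matrix b b ℤ := Matrix.of fun i j => FGA.intNum k X 2 ![L i, L j] (Coh.structureModule X)
  have hG : ∀ i j : b, B (i : N1R k X) (j : N1R k X) = (G i j : ℝ) := fun i j => by
    rw [hbL i, hbL j, hB _ _ (hL i) (hL j)]; rfl
  have hzero : ∀ v : N1R k X, (∀ j : b, B v (j : N1R k X) = 0) → ∀ z, B v z = 0 := fun v hv z => by
    have hle : Submodule.span ℝ b ≤ LinearMap.ker (B v) := Submodule.span_le.2 fun j hj => hv ⟨j, hj⟩
    exact hle (hspan ▸ Submodule.mem_top (x := z))
  have hdet : G.det ≠ 0 := by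
    intro h0
    obtain ⟨c, hc, hcG⟩ := Matrix.exists_vecMul_eq_zero_iff.2 h0
    obtain ⟨M, hM, hMe⟩ := toN1R_eq_clR k X (∑ i, c i • cl k X (L i) (hL i))
    have hv : clR k X M hM = ∑ i : b, (c i : ℝ) • (i : N1R k X) := by
      rw [← hMe, map_sum]
      refine Finset.sum_congr rfl fun i _ => ?_
      rw [map_zsmul, Int.cast_smul_eq_zsmul, hbL i, clR_def]
    have hv0 : clR k X M hM = 0 := clR_eq_zero hdim hB hM (hzero _ fun j => by
      rw [hv, map_sum, LinearMap.sum_apply]
      simp only [map_smul, LinearMap.smul_apply, hG, smul_eq_mul]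
      have := congrFun hcG j
      simp only [Matrix.vecMul, dotProduct, Pi.zero_apply] at this
      exact_mod_cast this)
    rw [hv] at hv0
    exact hc (funext fun i => by exact_mod_cast Fintype.linearIndependent_iff.1 hli _ hv0 i)
  have hy : y ∈ Submodule.span ℝ (Set.range fun i : b => (i : N1R k X)) := by
    rw [Subtype.range_coe, hspan]; trivial
  obtain ⟨r, hr⟩ := (Submodule.mem_span_range_iff_exists_fun ℝ).1 hy
  have hr0 : Matrix.vecMul r (G.map (Int.castRingHom ℝ)) = 0 := funext fun j => by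
    have h1 := h (j : N1R k X)
    rw [← hr, map_sum, LinearMap.sum_apply] at h1
    simp only [map_smul, LinearMap.smul_apply, hG, smul_eq_mul] at h1
    simpa [Matrix.vecMul, dotProduct] using h1
  have hdetR : (G.map (Int.castRingHom ℝ)).det ≠ 0 := by
    rw [← RingHom.mapMatrix_apply, ← RingHom.map_det]
    simpa using hdet
  have : r = 0 := Matrix.eq_zero_of_vecMul_eq_zero hdetR hr0
  rw [← hr, this]
  simp

variable [Module.Finite ℝ (N1R k X)] {H : X.Modules} (hH : CohB1.IsAmple H)

include hH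

omit [Smooth (X ↘ Spec (CommRingCat.of k))] in
theorem orth_h_nonpos {w : N1R k X} (hw : B w (clR k X H hH.1) = 0) : B w w ≤ 0 := by
  have h := index_le hdim hB hH w
  have hp := hh_pos hdim hB hH
  rw [hw] at h
  nlinarith

omit [Smooth (X ↘ Spec (CommRingCat.of k))] in
theorem h_ne_zero {x : N1R k X} (hx : 0 < B x x) : B x (clR k X H hH.1) ≠ 0 := fun h =>
  absurd (orth_h_nonpos hdim hB hH h) (not_le.2 hx)

/-- The orthogonal of a class of positive square is negative definite. -/
theorem eq_zero_of_orth {x y : N1R k X} (hx : 0 < B x x) (hxy : B x y = 0) (hy : 0 ≤ B y y) : y = 0 := by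
  set h := clR k X H hH.1
  have hxh := h_ne_zero hdim hB hH hx
  have hs := symm hdim hB
  have hz := orth_h_nonpos hdim hB hH (w := B y h • x - B x h • y) (by
    simp only [map_sub, map_smul, LinearMap.sub_apply, LinearMap.smul_apply, smul_eq_mul]; ring)
  simp only [map_sub, map_smul, LinearMap.sub_apply, LinearMap.smul_apply, smul_eq_mul, hs y x, hxy] at hz
  have hxh2 : 0 < B x h ^ 2 := lt_of_le_of_ne (sq_nonneg _) (Ne.symm (pow_ne_zero 2 hxh))
  have hyh : B y h = 0 := by
    by_contra hne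
    have : 0 < B y h ^ 2 := lt_of_le_of_ne (sq_nonneg _) (Ne.symm (pow_ne_zero 2 hne))
    nlinarith [mul_pos this hx, mul_nonneg hxh2.le hy]
  rw [hyh] at hz
  have hyy : B y y = 0 := le_antisymm (by nlinarith) hy
  refine nondeg hdim hB fun z => ?_
  have hp := hh_pos hdim hB hH
  set w := B h h • z - B z h • h
  have hw : B w h = 0 := by
    simp only [w, map_sub, map_smul, LinearMap.sub_apply, LinearMap.smul_apply, smul_eq_mul]; ring
  have hyw : B y w = 0 := by
    by_contra hne
    have hq : ∀ t : ℝ, 2 * t * B y w + t ^ 2 * B w w ≤ 0 := fun t => by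
      have := orth_h_nonpos hdim hB hH (w := y + t • w) (by
        show B (y + t • w) h = 0
        simp only [map_add, map_smul, LinearMap.add_apply, LinearMap.smul_apply, smul_eq_mul, hyh, hw]; ring)
      simp only [map_add, map_smul, LinearMap.add_apply, LinearMap.smul_apply, smul_eq_mul, hyy, hs w y] at this
      nlinarith
    have hww := orth_h_nonpos hdim hB hH hw
    rcases lt_or_gt_of_ne hne with hlt | hgt
    · have h1 := hq (-1 / (1 - B w w) * -B y w)
      have hd : 0 < 1 - B w w := by linarith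
      field_simp at h1
      nlinarith
    · have h1 := hq (B y w / (1 - B w w))
      have hd : 0 < 1 - B w w := by linarith
      field_simp at h1
      nlinarith
  simp only [w, map_sub, map_smul, smul_eq_mul, hyh, mul_zero, sub_zero] at hyw
  exact (mul_eq_zero.1 hyw).resolve_left hp.ne'

omit [Smooth (X ↘ Spec (CommRingCat.of k))] in
/-- Classes in the closed positive half cone pair positively. -/
theorem pair_pos {x y : N1R k X} (hx : 0 < B x x) (hxH : 0 < B x (clR k X H hH.1)) (hy : 0 ≤ B y y)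
    (hyH : 0 < B y (clR k X H hH.1)) : 0 < B x y := by
  set h := clR k X H hH.1
  by_contra hne
  push Not at hne
  have hz := orth_h_nonpos hdim hB hH (w := B x h • y - B y h • x) (by
    simp only [map_sub, map_smul, LinearMap.sub_apply, LinearMap.smul_apply, smul_eq_mul]; ring)
  simp only [map_sub, map_smul, LinearMap.sub_apply, LinearMap.smul_apply, smul_eq_mul, symm hdim hB y x] at hz
  nlinarith [mul_pos (mul_pos hyH hyH) hx, mul_nonneg (mul_nonneg hxH.le hxH.le) hy,
    mul_nonneg (mul_nonneg hxH.le hyH.le) (neg_nonneg.2 hne)]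

end Groth.Agent.Big.RealForm
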