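import Groth.Agent.Big.RealAmple
import Groth.Agent.AlgSpLib.CartierRegular

/-!
# Closure of the ample cone and negative definite configurations
-/

set_option autoImplicit false
set_option linter.style.haveILetI false
set_option linter.unusedSectionVars false
set_option backward.isDefEq.respectTransparency false
set_option backward.isDefEq.respectTransparency.types false
set_option maxHeartbeats 1000000

universe u

open CategoryTheory CategoryTheory.Limits AlgebraicGeometry TopologicalSpace
open Groth.Agent.H23.PicMul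

noncomputable section

namespace Groth.Agent.Big.RealForm

open Groth.Agent NumR

/-- An integral symmetric matrix negative on nonzero integer vectors is negative on nonzero real vectors. -/
theorem negDef_real {r : ℕ} (G : Matrix (Fin r) (Fin r) ℤ) (hs : ∀ i j, G i j = G j i)
    (h : ∀ a : Fin r → ℤ, a ≠ 0 → ∑ i, ∑ j, a i * a j * G i j < 0) (v : Fin r → ℝ) (hv : v ≠ 0) :
    ∑ i, ∑ j, v i * v j * (G i j : ℝ) < 0 := by
  classical
  let Q : (Fin r → ℝ) → ℝ := fun v => ∑ i, ∑ j, v i * v j * (G i j : ℝ)
  have hQc : Continuous Q := continuous_finsetSum _ fun i _ => continuous_finsetSum _ fun j _ =>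
    ((continuous_apply i).mul (continuous_apply j)).mul continuous_const
  have hle : ∀ w, Q w ≤ 0 := fun w => by
    refine closure_minimal (s := Set.range fun q : Fin r → ℚ => fun i => (q i : ℝ)) ?_
      (isClosed_le hQc continuous_const) ((DenseRange.piMap fun _ : Fin r => Rat.denseRange_cast (𝕜 := ℝ)) w)
    rintro _ ⟨q, rfl⟩
    show Q _ ≤ 0
    let d : ℕ := ∏ i, (q i).den
    have hd : 0 < d := Finset.prod_pos fun i _ => (q i).pos
    have hz : ∀ i, ∃ z : ℤ, (z : ℝ) = (d : ℝ) * (q i : ℝ) := fun i => by
      obtain ⟨e, he⟩ := Finset.dvd_prod_of_mem (fun i => (q i).den) (Finset.mem_univ i)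
      refine ⟨(e : ℤ) * (q i).num, ?_⟩
      have h1 : ((q i).den : ℝ) * (q i : ℝ) = ((q i).num : ℝ) := by
        have h2 : ((q i).den : ℚ) * q i = ((q i).num : ℚ) := by rw [mul_comm]; exact Rat.mul_den_eq_num _
        exact_mod_cast h2
      rw [show d = (q i).den * e from he]
      push_cast
      rw [← h1]; ring
    choose z hz using hz
    have hzQ : ((∑ i, ∑ j, z i * z j * G i j : ℤ) : ℝ) = (d : ℝ) * d * Q (fun i => (q i : ℝ)) := by
      simp only [Q, Finset.mul_sum]
      push_cast
      refine Finset.sum_congr rfl fun i _ => Finset.sum_congr rfl fun j _ => ?_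
      rw [hz, hz]; ring
    have hz0 : (∑ i, ∑ j, z i * z j * G i j : ℤ) ≤ 0 := by
      by_cases h0 : z = 0
      · simp [h0]
      · exact (h z h0).le
    have : ((∑ i, ∑ j, z i * z j * G i j : ℤ) : ℝ) ≤ 0 := by exact_mod_cast hz0
    rw [hzQ] at this
    have hd' : (0 : ℝ) < d := by exact_mod_cast hd
    exact nonpos_of_mul_nonpos_right this (mul_pos hd' hd')
  have hG0 : G.det ≠ 0 := fun hdet => by
    obtain ⟨c, hc, hcG⟩ := Matrix.exists_vecMul_eq_zero_iff.2 hdet
    have h1 := h c hc
    rw [Finset.sum_comm] at h1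
    have : ∀ j, ∑ i, c i * c j * G i j = c j * (Matrix.vecMul c G) j := fun j => by
      rw [Matrix.vecMul, dotProduct, Finset.mul_sum]
      exact Finset.sum_congr rfl fun i _ => by ring
    simp only [this, hcG, Pi.zero_apply, mul_zero, Finset.sum_const_zero] at h1
    exact lt_irrefl _ h1
  refine lt_of_le_of_ne (hle v) fun h0 => hv ?_
  have hlin : ∀ j, ∑ i, v i * (G i j : ℝ) = 0 := fun j => by
    set s := ∑ i, v i * (G i j : ℝ) with hs'
    have hadd : ∀ u w : Fin r → ℝ,
        Q (u + w) = Q u + 2 * (∑ b, (∑ a, u a * (G a b : ℝ)) * w b) + Q w := fun u w => by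
      have hc : ∑ a, ∑ b, w a * u b * (G a b : ℝ) = ∑ b, (∑ a, u a * (G a b : ℝ)) * w b := by
        refine Finset.sum_congr rfl fun a _ => ?_
        rw [Finset.sum_mul]
        exact Finset.sum_congr rfl fun b _ => by rw [hs a b]; ring
      have hc' : ∑ a, ∑ b, u a * w b * (G a b : ℝ) = ∑ b, (∑ a, u a * (G a b : ℝ)) * w b := by
        rw [Finset.sum_comm]
        refine Finset.sum_congr rfl fun a _ => ?_
        rw [Finset.sum_mul]
        exact Finset.sum_congr rfl fun b _ => by ring
      simp only [Q, Pi.add_apply, add_mul, mul_add, Finset.sum_add_distrib]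
      rw [hc, hc']
      ring
    have hexp : ∀ t : ℝ, Q (Function.update v j (v j + t)) = Q v + 2 * t * s + t ^ 2 * (G j j : ℝ) := fun t => by
      have hu : Function.update v j (v j + t) = v + Pi.single j t := funext fun i => by
        rcases eq_or_ne i j with rfl | hij
        · simp
        · simp [Function.update_of_ne hij, Pi.single_eq_of_ne hij]
      rw [hu, hadd, hs']
      simp only [Q, Pi.single_apply, mul_ite, mul_zero, Finset.sum_ite_eq', Finset.mem_univ, if_true, ite_mul,
        zero_mul]
      ring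
    have hjj : (G j j : ℝ) ≤ 0 := by
      have := hle (fun i => if i = j then 1 else 0)
      simpa [Q] using this
    by_contra hne
    have h1 := hle (Function.update v j (v j + s / (1 - (G j j : ℝ))))
    rw [hexp, show Q v = 0 from h0, zero_add] at h1
    have hd : 0 < 1 - (G j j : ℝ) := by linarith
    have hpos : 0 < s ^ 2 := lt_of_le_of_ne (sq_nonneg _) (Ne.symm (pow_ne_zero 2 hne))
    field_simp at h1
    nlinarith
  have hdetR : (G.map (Int.castRingHom ℝ)).det ≠ 0 := by
    rw [← RingHom.mapMatrix_apply, ← RingHom.map_det]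
    simpa using hG0
  exact Matrix.eq_zero_of_vecMul_eq_zero hdetR (funext fun j => by simpa [Matrix.vecMul, dotProduct] using hlin j)

variable (k : Type u) [Field k] {X : Scheme.{u}} [X.Over (Spec (CommRingCat.of k))] [PicGrp.Law X]
  [IsProper (X ↘ Spec (CommRingCat.of k))] [Smooth (X ↘ Spec (CommRingCat.of k))] [IsIntegral X]
  (hdim : topologicalKrullDim X = 2) {B : N1R k X →ₗ[ℝ] N1R k X →ₗ[ℝ] ℝ} (hB : IsIntForm₂ k X B)

include hdim hB

theorem curveCl_pair {I J : X.IdealSheafData} (hI : PicF.IsInvertible (ClSub.idealMod I))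
    (hJ : PicF.IsInvertible (ClSub.idealMod J)) :
    B (curveCl k X I hI) (curveCl k X J hJ) =
      (FGA.intNum k X 2 ![ClSub.idealMod I, ClSub.idealMod J] (Coh.structureModule X) : ℝ) := by
  simp only [curveCl, map_neg, LinearMap.neg_apply, neg_neg]
  exact hB _ _ hI hJ

/-- Distinct curves meet nonnegatively. -/
theorem curveCl_pair_nonneg {I J : X.IdealSheafData} (hI : PicF.IsInvertible (ClSub.idealMod I))
    (hJ : PicF.IsInvertible (ClSub.idealMod J)) (hIi : IsIntegral I.subscheme) (hJi : IsIntegral J.subscheme)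
    (hId : topologicalKrullDim (I.support : Set X) = 1) (hJd : topologicalKrullDim (J.support : Set X) = 1)
    (hne : I ≠ J) : 0 ≤ B (curveCl k X I hI) (curveCl k X J hJ) := by
  haveI := hIi
  haveI := hJi
  have e : B (curveCl k X I hI) (curveCl k X J hJ) = ((pair k (ClSub.idealMod I) (ClSub.idealMod J) : ℚ) : ℝ) := by
    simp only [curveCl, map_neg, LinearMap.neg_apply, neg_neg, B_clR hdim hB hI hJ]
  rw [e, pair_curve_self k hI hJ, Rat.cast_nonneg, neg_nonneg]
  refine cdeg_idealMod_nonpos_of_not_subset k I.subschemeι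
    ((AmpleDev.dim_eq_one_of_closedImmersion I.subschemeι I.range_subschemeι).trans hId) ((S8914.result J).1 hJ) ?_
  rw [I.range_subschemeι]
  intro hsub
  have hs := eq_of_dim_eq J I.support.isClosed hJd hId hsub
  refine hne ?_
  rw [AlgSpLib.CartierRegular.eq_vanishingIdeal_support I, AlgSpLib.CartierRegular.eq_vanishingIdeal_support J]
  exact congrArg _ (Closeds.ext hs)

variable [Module.Finite ℝ (N1R k X)] {H : X.Modules} (hH : CohB1.IsAmple H)

include hH

theorem h_pair_curve_pos {I : X.IdealSheafData} (hI : PicF.IsInvertible (ClSub.idealMod I))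
    (hIi : IsIntegral I.subscheme) (hId : topologicalKrullDim (I.support : Set X) = 1) :
    0 < B (clR k X H hH.1) (curveCl k X I hI) :=
  B_curve_pos k hdim hB hH hIi hId hI

theorem nef_add_ample {x y : N1R k X} (hx : x ∈ nefCone₂ k X B) (hy : y ∈ (ampleCone k X : Set (N1R k X))) :
    x + y ∈ (ampleCone k X : Set (N1R k X)) := by
  refine (mem_ampleCone_iff k hdim hB hH _).2 ⟨?_, fun I h1 h2 h3 => ?_⟩
  · have hxy : 0 ≤ B x y := nef_pair_posCone k hdim hB hH hx (ampleCone_subset_posCone k hdim hB hH hy)
    have hxx := nef_sq_nonneg k hdim hB hH hx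
    have hyy := (ampleCone_subset_posCone k hdim hB hH hy).1
    simp only [map_add, LinearMap.add_apply, symm hdim hB y x]
    linarith
  · have h4 := hx I h1 h2 h3
    have h5 := ample_curve_pos k hdim hB hy h1 h2 h3
    simp only [map_add, LinearMap.add_apply]
    linarith

theorem closure_eq_nef :
    closure (ampleCone k X : Set (N1R k X)) = {x | 0 ≤ B x x ∧ x ∈ nefCone₂ k X B} := by
  refine subset_antisymm (closure_minimal (fun x hx => ⟨(ampleCone_subset_posCone k hdim hB hH hx).1.le,
    ampleCone_subset_nef k hdim hB hx⟩) ?_) fun x hx => ?_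
  · refine IsClosed.inter (s₁ := {x | 0 ≤ B x x}) (isClosed_le continuous_const (continuous_diag B)) ?_
    simp only [nefCone₂, Set.ofPred_forall]
    exact isClosed_iInter fun I => isClosed_iInter fun _ => isClosed_iInter fun _ => isClosed_iInter fun hI =>
      isClosed_le continuous_const (continuous_right B _)
  · refine mem_closure_of_tendsto (f := fun t : ℝ => x + t • clR k X H hH.1) (b := nhdsWithin 0 (Set.Ioi 0)) ?_
      (Filter.eventually_of_mem self_mem_nhdsWithin fun t ht => nef_add_ample k hdim hB hH hx.2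
        ((ampleCone k X).smul_mem ht (ConvexCone.subset_hull ⟨H, hH.1, hH, rfl⟩)))
    have hc : Continuous fun t : ℝ => x + t • clR k X H hH.1 := by fun_prop
    have := (hc.tendsto 0).mono_left (nhdsWithin_le_nhds (s := Set.Ioi 0))
    simpa using this

theorem closure_inter_posCone :
    closure (ampleCone k X : Set (N1R k X)) ∩ posCone k X B H hH.1 = {x | 0 < B x x ∧ x ∈ nefCone₂ k X B} := by
  rw [closure_eq_nef k hdim hB hH]
  refine subset_antisymm (fun x hx => ⟨hx.2.1, hx.1.2⟩) fun x hx => ⟨⟨hx.1.le, hx.2⟩, hx.1, ?_⟩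
  exact lt_of_le_of_ne (nef_pair_posCone k hdim hB hH hx.2 (h_mem_posCone k hdim hB hH))
    (h_ne_zero hdim hB hH hx.1).symm

variable {r : ℕ} (C : Fin r → X.IdealSheafData) (hCi : ∀ i, IsIntegral (C i).subscheme)
  (hCd : ∀ i, topologicalKrullDim ((C i).support : Set X) = 1) (hCinv : ∀ i, PicF.IsInvertible (ClSub.idealMod (C i)))

omit hH [Module.Finite ℝ (N1R k X)] in
theorem sum_sq (v : Fin r → ℝ) :
    B (∑ i, v i • curveCl k X (C i) (hCinv i)) (∑ i, v i • curveCl k X (C i) (hCinv i)) =
      ∑ i, ∑ j, v i * v j *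
        (FGA.intNum k X 2 ![ClSub.idealMod (C i), ClSub.idealMod (C j)] (Coh.structureModule X) : ℝ) := by
  simp only [map_sum, map_smul, LinearMap.sum_apply, LinearMap.smul_apply, smul_eq_mul, curveCl_pair k hdim hB,
    Finset.mul_sum]
  rw [Finset.sum_comm]
  exact Finset.sum_congr rfl fun i _ => Finset.sum_congr rfl fun j _ => by ring

include hCinv in
omit hH [Module.Finite ℝ (N1R k X)] in
theorem intNum_symm (i j : Fin r) :
    FGA.intNum k X 2 ![ClSub.idealMod (C i), ClSub.idealMod (C j)] (Coh.structureModule X) =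
      FGA.intNum k X 2 ![ClSub.idealMod (C j), ClSub.idealMod (C i)] (Coh.structureModule X) := by
  have h1 := curveCl_pair k hdim hB (hCinv i) (hCinv j)
  rw [symm hdim hB, curveCl_pair k hdim hB (hCinv j) (hCinv i)] at h1
  exact_mod_cast h1.symm

omit hH [Module.Finite ℝ (N1R k X)] in
theorem negDef_sum (hneg : ∀ a : Fin r → ℤ, a ≠ 0 → ∑ i, ∑ j, a i * a j *
      FGA.intNum k X 2 ![ClSub.idealMod (C i), ClSub.idealMod (C j)] (Coh.structureModule X) < 0)
    (v : Fin r → ℝ) (hv : v ≠ 0) :
    B (∑ i, v i • curveCl k X (C i) (hCinv i)) (∑ i, v i • curveCl k X (C i) (hCinv i)) < 0 := by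
  rw [sum_sq k hdim hB C hCinv]
  exact negDef_real (Matrix.of fun i j => FGA.intNum k X 2 ![ClSub.idealMod (C i), ClSub.idealMod (C j)]
    (Coh.structureModule X)) (intNum_symm k hdim hB C hCinv) hneg v hv

include hCinv in
theorem card_succ_le (hneg : ∀ a : Fin r → ℤ, a ≠ 0 → ∑ i, ∑ j, a i * a j *
      FGA.intNum k X 2 ![ClSub.idealMod (C i), ClSub.idealMod (C j)] (Coh.structureModule X) < 0) :
    r + 1 ≤ Module.finrank ℝ (N1R k X) := by
  classical
  set e : Fin r → N1R k X := fun i => curveCl k X (C i) (hCinv i)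
  have hli : LinearIndependent ℝ e := Fintype.linearIndependent_iff.2 fun v hv i => by
    by_contra hne
    have := negDef_sum k hdim hB C hCinv hneg v (fun h => hne (congrFun h i))
    rw [hv] at this
    simp at this
  have hlt : Submodule.span ℝ (Set.range e) < ⊤ := lt_top_iff_ne_top.2 fun htop => by
    obtain ⟨v, hv⟩ := (Submodule.mem_span_range_iff_exists_fun ℝ).1
      (htop ▸ Submodule.mem_top : clR k X H hH.1 ∈ Submodule.span ℝ (Set.range e))
    have hp := hh_pos hdim hB hH
    rw [← hv] at hp
    rcases eq_or_ne v 0 with rfl | hne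
    · simp at hp
    · have := negDef_sum k hdim hB C hCinv hneg v hne
      linarith
  have h1 := Submodule.finrank_lt hlt.ne
  rw [finrank_span_eq_card hli, Fintype.card_fin] at h1
  omega

include hCi hCd in
/-- The walls of curves meet in the closed ample cone exactly for negative definite configurations. -/
theorem walls_iff (hC : Function.Injective C) :
    (∃ x : N1R k X, x ∈ closure (ampleCone k X : Set (N1R k X)) ∧ x ∈ posCone k X B H hH.1 ∧
        ∀ i, x ∈ wall k X B (C i) (hCinv i)) ↔
      (∀ a : Fin r → ℤ, a ≠ 0 → ∑ i, ∑ j, a i * a j *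
        FGA.intNum k X 2 ![ClSub.idealMod (C i), ClSub.idealMod (C j)] (Coh.structureModule X) < 0) := by
  classical
  set h := clR k X H hH.1
  set e : Fin r → N1R k X := fun i => curveCl k X (C i) (hCinv i)
  have he0 : ∀ i, 0 < B h (e i) := fun i => h_pair_curve_pos k hdim hB hH (hCinv i) (hCi i) (hCd i)
  have hoff : ∀ i j, i ≠ j → 0 ≤ B (e i) (e j) := fun i j hij =>
    curveCl_pair_nonneg k hdim hB (hCinv i) (hCinv j) (hCi i) (hCi j) (hCd i) (hCd j) fun he => hij (hC he)
  constructor
  · rintro ⟨x, -, hxp, hxw⟩ a ha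
    set u : Fin r → ℝ := fun i => max (a i : ℝ) 0
    set w : Fin r → ℝ := fun i => max (-(a i : ℝ)) 0
    have huw : ∀ i, (a i : ℝ) = u i - w i := fun i => by
      simp only [u, w]; rcases le_total (a i : ℝ) 0 with h | h <;> simp [h]
    have hu0 : ∀ i, u i * w i = 0 := fun i => by
      simp only [u, w]; rcases le_total (a i : ℝ) 0 with h | h <;> simp [h]
    have hcross : 0 ≤ B (∑ i, u i • e i) (∑ i, w i • e i) := by
      simp only [map_sum, map_smul, LinearMap.sum_apply, LinearMap.smul_apply, smul_eq_mul, Finset.mul_sum]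
      refine Finset.sum_nonneg fun j _ => Finset.sum_nonneg fun i _ => ?_
      rcases eq_or_ne i j with rfl | hij
      · rw [← mul_assoc, mul_comm (w i), hu0, zero_mul]
      · exact mul_nonneg (le_max_right _ _) (mul_nonneg (le_max_right _ _) (hoff i j hij))
    have horth : ∀ v : Fin r → ℝ, B x (∑ i, v i • e i) = 0 := fun v => by
      rw [map_sum]
      exact Finset.sum_eq_zero fun i _ => by rw [map_smul, show B x (e i) = 0 from hxw i, smul_zero]
    have hz : ∀ v : Fin r → ℝ, (∀ i, 0 ≤ v i) → ∑ i, v i • e i = 0 → v = 0 := fun v hv h0 => by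
      have h1 : ∑ i, v i * B h (e i) = 0 := by
        have := congrArg (B h) h0
        simpa [map_sum, map_smul, smul_eq_mul] using this
      funext i
      exact (mul_eq_zero.1 ((Finset.sum_eq_zero_iff_of_nonneg fun j _ => mul_nonneg (hv j) (he0 j).le).1 h1 i
        (Finset.mem_univ i))).resolve_right (he0 i).ne'
    have hsum : ∑ i, (a i : ℝ) • e i = (∑ i, u i • e i) - ∑ i, w i • e i := by
      rw [← Finset.sum_sub_distrib]
      exact Finset.sum_congr rfl fun i _ => by rw [huw, sub_smul]
    have key : B (∑ i, (a i : ℝ) • e i) (∑ i, (a i : ℝ) • e i) < 0 := by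
      by_contra hnn
      push Not at hnn
      have hy := eq_zero_of_orth hdim hB hH hxp.1 (horth _) hnn
      rw [hsum, sub_eq_zero] at hy
      have h2 : 0 ≤ B (∑ i, u i • e i) (∑ i, u i • e i) := by
        nth_rewrite 2 [hy]; exact hcross
      have hU := eq_zero_of_orth hdim hB hH hxp.1 (horth _) h2
      have e1 := hz u (fun i => le_max_right _ _) hU
      have e2 := hz w (fun i => le_max_right _ _) (hy.symm.trans hU)
      refine ha (funext fun i => ?_)
      have := huw i
      rw [congrFun e1 i, congrFun e2 i] at this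
      simpa using this
    rw [sum_sq k hdim hB C hCinv] at key
    exact_mod_cast key
  · intro hneg
    let G : Matrix (Fin r) (Fin r) ℝ := Matrix.of fun i j => B (e i) (e j)
    have hdet : IsUnit G.det := isUnit_iff_ne_zero.2 fun h0 => by
      obtain ⟨c, hc, hcG⟩ := Matrix.exists_vecMul_eq_zero_iff.2 h0
      have h1 := negDef_sum k hdim hB C hCinv hneg c hc
      rw [map_sum] at h1
      refine absurd h1 (not_lt.2 (le_of_eq (Finset.sum_eq_zero fun j _ => ?_).symm))
      have := congrFun hcG j
      simp only [Matrix.vecMul, dotProduct, Pi.zero_apply, G, Matrix.of_apply, e] at this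
      rw [map_smul, map_sum, LinearMap.sum_apply]
      simp only [map_smul, LinearMap.smul_apply, smul_eq_mul, this, mul_zero]
    obtain ⟨b, hb⟩ : ∃ b : Fin r → ℝ, Matrix.vecMul b G = fun j => -(B h (e j)) :=
      ⟨Matrix.vecMul (fun j => -(B h (e j))) G⁻¹, by rw [Matrix.vecMul_vecMul, Matrix.nonsing_inv_mul _ hdet, Matrix.vecMul_one]⟩
    have hbj : ∀ j, B (∑ i, b i • e i) (e j) = -(B h (e j)) := fun j => by
      have := congrFun hb j
      simp only [Matrix.vecMul, dotProduct, G, Matrix.of_apply] at this
      simpa [map_sum, map_smul, smul_eq_mul] using this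
    have hb0 : ∀ i, 0 ≤ b i := by
      set p : Fin r → ℝ := fun i => max (b i) 0
      set m : Fin r → ℝ := fun i => max (-b i) 0
      suffices hm : m = 0 by
        intro i
        have := congrFun hm i
        simp only [m, Pi.zero_apply] at this
        have := le_max_left (-b i) 0
        linarith
      by_contra hne
      have h1 := negDef_sum k hdim hB C hCinv hneg m hne
      have hbp : ∑ i, b i • e i = (∑ i, p i • e i) - ∑ i, m i • e i := by
        rw [← Finset.sum_sub_distrib]
        refine Finset.sum_congr rfl fun i _ => ?_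
        rw [← sub_smul]
        congr 1
        simp only [p, m]; rcases le_total (b i) 0 with h | h <;> simp [h]
      have h2 : B (∑ i, b i • e i) (∑ i, m i • e i) ≤ 0 := by
        rw [map_sum]
        refine Finset.sum_nonpos fun i _ => ?_
        rw [map_smul, hbj, smul_eq_mul]
        exact mul_nonpos_of_nonneg_of_nonpos (le_max_right _ _) (neg_nonpos.2 (he0 i).le)
      have h3 : 0 ≤ B (∑ i, p i • e i) (∑ i, m i • e i) := by
        simp only [map_sum, map_smul, LinearMap.sum_apply, LinearMap.smul_apply, smul_eq_mul, Finset.mul_sum]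
        refine Finset.sum_nonneg fun j _ => Finset.sum_nonneg fun i _ => ?_
        rcases eq_or_ne i j with rfl | hij
        · rw [← mul_assoc, mul_comm (m i)]
          have : p i * m i = 0 := by simp only [p, m]; rcases le_total (b i) 0 with h | h <;> simp [h]
          rw [this, zero_mul]
        · exact mul_nonneg (le_max_right _ _) (mul_nonneg (le_max_right _ _) (hoff i j hij))
      rw [hbp, map_sub, LinearMap.sub_apply] at h2
      change B (∑ i, m i • e i) (∑ i, m i • e i) < 0 at h1
      linarith
    set x := h + ∑ i, b i • e i with hx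
    have hxw : ∀ j, B x (e j) = 0 := fun j => by
      rw [hx, map_add, LinearMap.add_apply, hbj]; ring
    have hxn : x ∈ nefCone₂ k X B := fun I h1 h2 h3 => by
      by_cases hI : ∃ j, C j = I
      · obtain ⟨j, rfl⟩ := hI
        exact (hxw j).ge
      · push Not at hI
        rw [hx, map_add, LinearMap.add_apply, map_sum, LinearMap.sum_apply]
        refine add_nonneg (h_pair_curve_pos k hdim hB hH h3 h1 h2).le (Finset.sum_nonneg fun i _ => ?_)
        rw [map_smul, LinearMap.smul_apply, smul_eq_mul]
        exact mul_nonneg (hb0 i) (curveCl_pair_nonneg k hdim hB (hCinv i) h3 (hCi i) h1 (hCd i) h2 (hI i))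
    have hxh : 0 < B x h := by
      rw [hx, map_add, LinearMap.add_apply, map_sum, LinearMap.sum_apply]
      refine add_pos_of_pos_of_nonneg (hh_pos hdim hB hH) (Finset.sum_nonneg fun i _ => ?_)
      rw [map_smul, LinearMap.smul_apply, smul_eq_mul, symm hdim hB]
      exact mul_nonneg (hb0 i) (he0 i).le
    have hxx : 0 < B x x := by
      nth_rewrite 2 [hx]
      rw [map_add, map_sum]
      simp only [map_smul, hxw, smul_zero, Finset.sum_const_zero, add_zero]
      exact hxh
    refine ⟨x, ?_, ⟨hxx, hxh⟩, hxw⟩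
    rw [closure_eq_nef k hdim hB hH]
    exact ⟨hxx.le, hxn⟩

end Groth.Agent.Big.RealForm
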