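import Groth.Agent.Big.Cartier
import Groth.Agent.ZeroSchX.Basic
import Groth.Agent.OmegaLib.IdealMod
import Groth.Agent.InvX.Tensor
import Groth.Agent.DivX.MeroMod
import Groth.Agent.PnCoh.Finite.HomTwist
import Groth.Agent.PnCoh.Chow.PullFrame
import Groth.Prelude.Def_KoszTw
import Groth.Agent.AssPtX.Regular
import Groth.Agent.Big.SectionDivisor

/-!
# The divisor of a section of an invertible module regular at the associated points
-/

set_option autoImplicit false
set_option linter.style.haveILetI false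
set_option linter.unusedSectionVars false
set_option backward.isDefEq.respectTransparency false
set_option backward.isDefEq.respectTransparency.types false
set_option maxHeartbeats 1000000

universe u

open CategoryTheory CategoryTheory.Limits AlgebraicGeometry TopologicalSpace Opposite
open Groth.Agent.H23.PicMul

noncomputable section

namespace Groth.Agent.Big

open Groth.Agent

variable {X : Scheme.{u}} {L : X.Modules}

/-- The zero scheme of a section with regular coordinates is a divisor inverse to the module. -/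
theorem zeroScheme_divisor' (hL : PicF.IsInvertible L) (s : Coh.structureModule X ⟶ L)
    (hloc : ∀ x : X, ∃ (U : X.affineOpens) (_ : x ∈ U.1) (e : Γ(L, U.1)) (c : Γ(X, U.1)),
      InvX.IsFrame e ∧ ZeroSchX.sv s U.1 = c • e ∧ c ∈ nonZeroDivisors Γ(X, U.1)) :
    BlowUp.IsEffCartierIdeal (PicF2.zeroScheme L s) ∧
      PicF.cl L * PicF.cl (ClSub.idealMod (PicF2.zeroScheme L s)) = 1 := by
  let I := PicF2.zeroScheme L s
  have hid : ∀ (U : X.affineOpens) (e : Γ(L, U.1)) (c : Γ(X, U.1)), InvX.IsFrame e →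
      ZeroSchX.sv s U.1 = c • e → I.ideal U = Ideal.span {c} := fun U e c he hc => by
    rw [ZeroSchX.ideal_zeroScheme hL s U, ZeroSchX.zeroIdealOn_eq_span s he hc]
  have hI : BlowUp.IsEffCartierIdeal I := fun x => by
    obtain ⟨U, hx, e, c, he, hc, hne⟩ := hloc x
    exact ⟨U, hx, c, hne, hid U e c he hc⟩
  refine ⟨hI, ?_⟩
  obtain ⟨M, hM, hLM'⟩ := H23.PicInv.exists_inverse hL
  obtain ⟨φ⟩ : Nonempty (CohB1.tensorMod L M ≅ Coh.structureModule X) := hLM'
  let O := Coh.structureModule X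
  let ψ : CohB1.tensorMod O M ⟶ O := KoszTw.tensorMap s (𝟙 M) ≫ φ.hom
  choose U hxU e c he hc hne using hloc
  have hdata : ∀ x : X, ∃ (V : X.affineOpens) (_ : x ∈ V.1) (hVU : V.1 ≤ (U x).1) (m : Γ(M, V.1)) (w : Γ(X, V.1)),
      InvX.IsFrame m ∧ IsUnit w ∧
        ψ.app V.1 (InvX.tmul (show Γ(O, V.1) from (1 : Γ(X, V.1))) m) = (AModX.resR hVU (c x) * w : Γ(X, V.1)) := fun x => by
    obtain ⟨V₀, hx₀, m₀, hm₀⟩ := InvX.exists_frame hM x
    obtain ⟨V, hV, hxV, hVV⟩ := exists_isAffineOpen_mem_and_subset (show x ∈ V₀ ⊓ (U x).1 from ⟨hx₀, hxU x⟩)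
    have h1 : V ≤ V₀ := fun z hz => (hVV hz).1
    have h2 : V ≤ (U x).1 := fun z hz => (hVV hz).2
    let m := AModX.res M h1 m₀
    have hm : InvX.IsFrame m := hm₀.res _
    let e' := AModX.res L h2 (e x)
    have hf := (InvX.IsFrame.map_iso φ (InvX.isFrame_tmul ((he x).res h2) hm)) V le_rfl
    obtain ⟨r, hr⟩ := hf.2 (show Γ(O, V) from (1 : Γ(X, V)))
    rw [AModX.res_self] at hr
    let w : Γ(X, V) := φ.hom.app V (InvX.tmul e' m)
    have hw : IsUnit w := IsUnit.of_mul_eq_one_right r hr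
    refine ⟨⟨V, hV⟩, hxV, h2, m, w, hm, hw, ?_⟩
    show φ.hom.app V ((KoszTw.tensorMap s (𝟙 M)).app V (InvX.tmul (show Γ(O, V) from (1 : Γ(X, V))) m)) = _
    rw [show (KoszTw.tensorMap s (𝟙 M)).app V (InvX.tmul (show Γ(O, V) from (1 : Γ(X, V))) m) =
      InvX.tmul (ZeroSchX.sv s V) m from KoszTw.tensorMap_tmul s (𝟙 M) V _ m]
    have hsv : ZeroSchX.sv s V = AModX.resR h2 (c x) • e' := by
      rw [← ZeroSchX.res_sv s h2, hc x]
      exact AModX.res_smul _ _ _
    rw [hsv, InvX.tmul_smul_left, Scheme.Modules.Hom.app_smul]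
    rfl
  choose V hxV hVU m w hm hw hψ using hdata
  let t : ∀ x, Γ(CohB1.tensorMod O M, (V x).1) := fun x =>
    InvX.tmul (show Γ(O, (V x).1) from (1 : Γ(X, (V x).1))) (m x)
  have ht : ∀ x, InvX.IsFrame (t x) := fun x => InvX.isFrame_tmul (InvX.isFrame_one _) (hm x)
  have hgen : ∀ x, I.ideal (V x) = Ideal.span {AModX.resR (hVU x) (c x)} := fun x =>
    hid (V x) (AModX.res L (hVU x) (e x)) _ ((he x).res _) (by
      rw [← ZeroSchX.res_sv s (hVU x), hc x]; exact AModX.res_smul _ _ _)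
  have cond : ψ ≫ ClSub.toSubscheme I = 0 := by
    refine InvX.hom_ext_of_frames (fun x => (V x).1) (fun x => ⟨x, hxV x⟩) t ht fun x => ?_
    show I.subschemeι.app (V x).1 (ψ.app (V x).1 (t x) : Γ(X, (V x).1)) = _
    rw [hψ x]
    have hmem : AModX.resR (hVU x) (c x) * w x ∈ I.ideal (V x) := by
      rw [hgen x]; exact Ideal.mul_mem_right _ _ (Ideal.mem_span_singleton_self _)
    rw [← I.ker_subschemeι_app, RingHom.mem_ker] at hmem
    exact hmem
  let u : CohB1.tensorMod O M ⟶ ClSub.idealMod I := kernel.lift _ ψ cond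
  have hu : u ≫ ClSub.idealModι I = ψ := kernel.lift_ι _ _ _
  haveI : IsIso u := by
    refine DivX.isIso_of_frames u fun x => ?_
    obtain ⟨W₀, hx₀, d₀, hd₀⟩ := InvX.exists_frame (isInvertible_ideal hI) x
    obtain ⟨W, hW, hxW, hWV⟩ := exists_isAffineOpen_mem_and_subset (show x ∈ W₀ ⊓ (V x).1 from ⟨hx₀, hxV x⟩)
    have h1 : W ≤ W₀ := fun z hz => (hWV hz).1
    have h2 : W ≤ (V x).1 := fun z hz => (hWV hz).2
    let d := AModX.res _ h1 d₀
    have hd : InvX.IsFrame d := hd₀.res _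
    refine ⟨W, hxW, AModX.res _ h2 (t x), (ht x).res _, ?_⟩
    let e' := u.app W (AModX.res _ h2 (t x))
    change InvX.IsFrame e'
    let g : Γ(X, W) := AModX.resR h2 (AModX.resR (hVU x) (c x))
    have hg : I.ideal ⟨W, hW⟩ = Ideal.span {g} := by
      rw [← I.map_ideal (U := ⟨W, hW⟩) (V := V x) h2, hgen x, Ideal.map_span, Set.image_singleton]
      rfl
    have hval : OmegaSh.idealSect I W e' = g * AModX.resR h2 (w x) := by
      rw [← map_mul]
      refine Eq.trans ?_ (congrArg (AModX.resR h2) (hψ x))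
      refine Eq.trans ?_ (AModX.app_res ψ h2 (t x))
      rw [← hu]
      rfl
    have hmem := OmegaLib.idealSect_mem I ⟨W, hW⟩ d
    rw [hg, Ideal.mem_span_singleton'] at hmem
    obtain ⟨r₁, hr₁⟩ := hmem
    obtain ⟨w', hw'⟩ := ((hw x).map (AModX.resR h2)).exists_right_inv
    obtain ⟨r, hr⟩ := hd.exists_coord le_rfl e'
    rw [AModX.res_self] at hr
    have hsd : (r₁ * w') • e' = d := OmegaLib.idealSect_injective I W (by
      rw [OmegaLib.idealSect_smul, hval, ← hr₁]
      calc r₁ * w' * (g * AModX.resR h2 (w x)) = r₁ * g * (AModX.resR h2 (w x) * w') := by ring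
        _ = r₁ * g := by rw [hw', mul_one])
    have hsr : r₁ * w' * r = 1 := hd.coord_unique le_rfl (by
      rw [AModX.res_self, mul_smul, ← hr, hsd, one_smul])
    rw [hr]
    exact hd.isUnit_smul (IsUnit.of_mul_eq_one_right _ hsr)
  rw [← cl_eq_iff.2 ⟨asIso u⟩, cl_tensor, one_mul_cl, ← cl_tensor, H23.PicMul.one_def]
  exact cl_eq_iff.2 ⟨φ⟩

/-- Coordinates of a section generating at the associated points are regular. -/
theorem exists_regular_coord (hL : PicF.IsInvertible L) (s : Coh.structureModule X ⟶ L)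
    (hs : ∀ z : X, Curv2.IsWeakAssPoint (Coh.structureModule X) z → z ∈ CohB1.genLocus L s) (x : X) :
    ∃ (U : X.affineOpens) (_ : x ∈ U.1) (e : Γ(L, U.1)) (c : Γ(X, U.1)),
      InvX.IsFrame e ∧ ZeroSchX.sv s U.1 = c • e ∧ c ∈ nonZeroDivisors Γ(X, U.1) := by
  obtain ⟨V₀, hxV₀, e₀, he₀⟩ := InvX.exists_frame hL x
  obtain ⟨V, hV, hxV, hVV⟩ := exists_isAffineOpen_mem_and_subset (show x ∈ V₀ from hxV₀)
  have hle : V ≤ V₀ := fun z hz => hVV hz
  have he := he₀.res hle
  obtain ⟨c, hc⟩ := he.exists_coord le_rfl (AModX.res L (le_top : V ≤ ⊤) (InvX.one s))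
  rw [AModX.res_self] at hc
  refine ⟨⟨V, hV⟩, hxV, _, c, he, ?_, ?_⟩
  · rw [← ZeroSchX.res_sv s (le_top : V ≤ ⊤)]
    exact hc
  · have hreg : c ∈ Mero.regSub X V := AssPtX.germ_mem_nonZeroDivisors_of_weakAss c fun z hz hza => by
      refine (X.mem_basicOpen c z hz).1 ?_
      have h := InvX.genLocus_inf s he hc
      exact (h.le ⟨hs z hza, hz⟩)
    rw [mem_nonZeroDivisors_iff_right]
    intro b hb
    refine TopCat.Presheaf.section_ext X.sheaf V b 0 fun y hy => ?_
    rw [map_zero]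
    have h1 : X.presheaf.germ V y hy b * X.presheaf.germ V y hy c = 0 := by rw [← map_mul, hb, map_zero]
    exact mem_nonZeroDivisors_iff_right.1 (hreg ⟨y, hy⟩) _ h1

end Groth.Agent.Big
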